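import Cfsg.Agent.Lib.U42.Def

/-!
# S3138 (copy of `USt`, `q = 2`, dimension `4`): the stages.  See `docs/U42.md`.
In the model `G ≥ SL V`, `t` acts as `g ↦ (g^*)⁻¹`, `y v r = 1 + r v v^*`, `X e u = 1 + e u^*`.
-/

set_option autoImplicit false

namespace Cfsg.Lib.U42

open Module Subgroup G2S Cfsg.Lib.BG Cfsg.Lib.GW GSt.SLa Cfsg.Lib.Unitary
open scoped commutatorElement Cfsg.Lib.Transfer

variable {F V : Type*} [Field F] [CharP F 2] [AddCommGroup V] [Module F V] [Finite V] {σ : F →+* F}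
  {B : V →ₛₗ[σ] V →ₗ[F] F} {G : Type*} [Group G] (ψ : SUG B →* G) (t : G)

/-- `w` moves `t` in `t Z` and is trivial on `Z` and `Q / Z`. -/
structure W0 (e : V) (w : G) (c : F) : Prop where
  K : σ c = c
  wt : w * t * w⁻¹ = t * ψ (tv B e c)
  wz : ∀ d, w * ψ (tv B e d) = ψ (tv B e d) * w
  wQ : ∀ u ∈ Q B e, ∃ d, σ d = d ∧ w * ψ u * w⁻¹ = ψ (u * tv B e d)

/-- `x` moves `t` in `t Z` and centralizes `Q`. -/
structure E1 (e : V) (x : G) (d : F) : Prop where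
  K : σ d = d
  xt : x * t * x⁻¹ = t * ψ (tv B e d)
  cQ : ∀ u ∈ Q B e, x * ψ u = ψ u * x

/-- Case `ε`: `x` centralizes a Sylow subgroup of `ψ J`. -/
structure E2 (e : V) (x : G) : Prop extends E1 ψ t e x 1 where
  cf : ∃ f, Ln B e f ∧ x * ψ (tv B f 1) = ψ (tv B f 1) * x

/-- `y ∈ Y v` has the parameter `d`. -/
structure Pa (Y : V → Subgroup G) (v : V) (y : G) (d : F) : Prop where
  mem : y ∈ Y v
  K : σ d = d
  yt : y * t * y⁻¹ = t * ψ (tv B v d)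

/-- The groups `Y v` of order `q²` extending `Z v`. -/
structure ZP (Y : V → Subgroup G) : Prop extends S1 ψ t ⊥ where
  eqv : ∀ (x : SUG B) v, v ≠ 0 → B v v = 0 → ∀ y ∈ Y v, ψ x * y * (ψ x)⁻¹ ∈ Y (x.1 v)
  smul : ∀ (a : F) v, a ≠ 0 → v ≠ 0 → B v v = 0 → Y (a • v) = Y v
  cS : ∀ v, v ≠ 0 → B v v = 0 → ∀ y ∈ Y v, ∀ x ∈ Stab B v, y * ψ x = ψ x * y
  zz : ∀ v, v ≠ 0 → B v v = 0 → ∀ c, ψ (tv B v c) ∈ Y v
  par : ∀ v, v ≠ 0 → B v v = 0 → ∀ y ∈ Y v, ∃ d, Pa ψ t Y v y d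
  kt : ∀ v, v ≠ 0 → B v v = 0 → ∀ y ∈ Y v, y * t = t * y → ∃ c, σ c = c ∧ y = ψ (tv B v c)
  onto : ∀ v, v ≠ 0 → B v v = 0 → ∀ d, σ d = d → ∃ y, Pa ψ t Y v y d

/-- Orthogonal vectors give commuting groups. -/
structure ZQ (Y : V → Subgroup G) : Prop extends ZP ψ t Y where
  comm : ∀ v w, v ≠ 0 → B v v = 0 → w ≠ 0 → B w w = 0 → B v w = 0 → ∀ y ∈ Y v, ∀ y' ∈ Y w, y * y' = y' * y

/-- An equivariant family of elements of parameter `d`. -/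
structure Fm (Y : V → Subgroup G) (z : V → G) (d : F) : Prop where
  pa : ∀ v, v ≠ 0 → B v v = 0 → Pa ψ t Y v (z v) d
  eqv : ∀ (x : SUG B) v, v ≠ 0 → B v v = 0 → ψ x * z v * (ψ x)⁻¹ = z (x.1 v)

/-- The second difference of `z` along the line. -/
def Kp (Y : V → Subgroup G) (z : V → G) (e f : V) (a b β ζ : F) : Prop :=
  σ ζ = ζ ∧ ∃ y ∈ Y e, z (f + (a + b) • e) * (z (f + a • e))⁻¹ * (z (f + b • e))⁻¹ * z f = y * ψ (ei B e (β • f) 0 * tv B f ζ)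

/-- The groups are elementary abelian. -/
structure ZR (Y : V → Subgroup G) : Prop extends ZQ ψ t Y where
  sq : ∀ v, v ≠ 0 → B v v = 0 → ∀ y ∈ Y v, y * y = 1

/-- Case `ε₂`: the groups `Y v = ⟨z v⟩` are cyclic of order `4`. -/
structure ZE (Y : V → Subgroup G) (z : V → G) : Prop extends ZQ ψ t Y where
  fm : Fm ψ t Y z 1
  sq : ∀ v, v ≠ 0 → B v v = 0 → z v * z v = ψ (tv B v 1)

/-- The parametrization `y v r`, `r ∈ F` (only the `K`-structure and `σ` are determined). -/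
structure ZA (y : V → F → G) : Prop extends S1 ψ t ⊥ where
  ext : ∀ v c, B v v = 0 → σ c = c → y v c = ψ (tv B v c)
  add : ∀ v r s, B v v = 0 → y v (r + s) = y v r * y v s
  ct : ∀ v r, B v v = 0 → t * y v r * t = y v (σ r)
  eqv : ∀ (x : SUG B) v r, B v v = 0 → ψ x * y v r * (ψ x)⁻¹ = y (x.1 v) r
  smul : ∀ (a : F) v r, B v v = 0 → y (a • v) r = y v (a * σ a * r)
  comm : ∀ v w r s, B v v = 0 → B w w = 0 → B v w = 0 → y v r * y w s = y w s * y v r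
  ql : ∀ e f (a b : F) r, Ln B e f → ∃ s, y (f + (a + b) • e) r * y (f + a • e) r * y (f + b • e) r * y f r = y e s

/-- `1 + r (v w^* + w v^*)`. -/
def PP (y : V → F → G) (r : F) (v w : V) : G := y (v + w) r * y v r * y w r

/-- `p` lies in the extension of `Q e` and has the class `v₁ ⊗ 1 + v₂ ⊗ ϖ`. -/
structure Pe (y : V → F → G) (ω : F) (e : V) (p : G) (v₁ v₂ : V) : Prop where
  o1 : B e v₁ = 0
  o2 : B e v₂ = 0
  cy : ∀ r, p * y e r = y e r * p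
  cQ : ∀ w γ, Va B e w γ → p * ψ (ei B e w γ) * p⁻¹ = ψ (ei B e w γ) * y e (bf B v₁ w + ω * bf B v₂ w)
  ct : ∃ γ r, Va B e v₂ γ ∧ p * t * p⁻¹ = t * ψ (ei B e v₂ γ) * y e r

/-- The commutator form is bilinear over `K[ϖ]`, `ϖ² = ϖ + ν`. -/
structure ZD (y : V → F → G) (ω ν : F) : Prop extends ZA ψ t y where
  hω : ω + σ ω = 1
  hν : σ ν = ν
  cm : ∀ e p p' v₁ v₂ w₁ w₂, e ≠ 0 → B e e = 0 → Pe ψ t y ω e p v₁ v₂ → Pe ψ t y ω e p' w₁ w₂ →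
    ⁅p, p'⁆ = y e (bf B v₁ w₁ + ω * (bf B v₁ w₂ + bf B v₂ w₁) + (ω + ν) * bf B v₂ w₂)

/-- Field case: the transvections `X e u`. -/
structure XD (y : V → F → G) (ω : F) (X : V → V → G) : Prop extends ZD ψ t y ω (ω * σ ω) where
  iso : ∀ e u, e ≠ 0 → B e e = 0 → B u u = 0 → B e u = 0 → X e u = PP y (σ ω) e u * ψ (ei B e (σ ω • u) 0)
  xadd : ∀ e u v, e ≠ 0 → B e e = 0 → B e u = 0 → B e v = 0 → X e (u + v) = X e u * X e v

end Cfsg.Lib.U42
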