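import Cfsg.Agent.Lib.U42.MC
import Cfsg.Agent.Lib.U42.Sg

/-!
# S3138 (copy of `USt`, `q = 2`, dimension `4`): `t` is fused to `t z`, `z` a transvection.  See `docs/U42.md`.  Use `b := h.bm`, `s.act h.bm`, `h.bm_Θ`.
Throughout `s' = g t g⁻¹`, `ψ' = conj g ∘ ψ` (`St.conj`), `a = q ^ k²`.
-/

set_option autoImplicit false
set_option linter.unusedSectionVars false

namespace Cfsg.Lib.U42

open Module Subgroup G2S Cfsg.Lib.BG Cfsg.Lib.GW GSt.SLa Cfsg.Lib.Unitary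
open scoped commutatorElement Cfsg.Lib.Transfer

variable {F V : Type*} [Field F] [CharP F 2] [Finite F] [AddCommGroup V] [Module F V] [Finite V] {σ : F →+* F}
  {B : V →ₛₗ[σ] V →ₗ[F] F} {G : Type*} [Group G] [Finite G] {ψ ψ' : SUG B →* G} {t t' g k : G} {e : V} {l : SUG B} {q : ℕ}
  {I : Submodule F V} {O E : Subgroup G}

/-- `⟨t⟩ × ψ (W I)`. -/
noncomputable def EI (ψ : SUG B →* G) (t : G) (I : Submodule F V) : Subgroup G := (W B I).map ψ ⊔ zpowers t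

section gen
variable {X : Type*} [Group X] {E : Subgroup X} {t k : X}

theorem sup_inv (t2 : t * t = 1) (c : ∀ x ∈ E, x * t = t * x) : k ∈ E ⊔ zpowers t ↔ ∃ w ∈ E, k = w ∨ k = w * t := by
  refine ⟨fun hk => ?_, by rintro ⟨w, hw, rfl | rfl⟩; exacts [mem_sup_left hw, mul_mem_sup hw (mem_zpowers t)]⟩
  let S : Subgroup X :=
    { carrier := {k | ∃ w ∈ E, k = w ∨ k = w * t}
      mul_mem' := by
        rintro _ _ ⟨u, hu, rfl | rfl⟩ ⟨v, hv, rfl | rfl⟩ <;> refine ⟨_, mul_mem hu hv, ?_⟩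
        exacts [.inl rfl, .inr (mul_assoc ..).symm, .inr (by rw [mul_assoc, ← c _ hv, mul_assoc]),
          .inl (by rw [c v hv, mul_assoc, ← mul_assoc t, t2, one_mul])]
      one_mem' := ⟨1, one_mem _, .inl rfl⟩
      inv_mem' := by
        rintro _ ⟨u, hu, rfl | rfl⟩
        exacts [⟨_, inv_mem hu, .inl rfl⟩, ⟨_, inv_mem hu, .inr (by rw [c u hu, mul_inv_rev, inv_eq_of_mul_eq_one_left t2])⟩] }
  exact (sup_le (fun x hx => ⟨x, hx, .inl rfl⟩) (zpowers_le.2 ⟨1, one_mem _, .inr (one_mul t).symm⟩) : _ ≤ S) hk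

theorem El.sup_inv (hE : El E) (t2 : t * t = 1) (c : ∀ x ∈ E, x * t = t * x) : El (E ⊔ zpowers t) := fun x hx => by
  obtain ⟨w, hw, rfl | rfl⟩ := (U42.sup_inv t2 c).1 hx
  exacts [hE _ hw, by rw [mul_assoc, ← mul_assoc t, ← c w hw, mul_assoc, t2, mul_one, hE w hw]]

theorem card_sup_inv [Finite X] (t2 : t * t = 1) (c : ∀ x ∈ E, x * t = t * x) (n : t ∉ E) :
    Nat.card ↥(E ⊔ zpowers t) = 2 * Nat.card E := by
  have m : ∀ u v : E, u.1 ≠ v.1 * t := fun u v e => n (by simpa [e] using mul_mem (inv_mem v.2) u.2)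
  rw [two_mul, ← Nat.card_sum]
  refine (Nat.card_eq_of_bijective (Sum.elim (fun w => ⟨w.1, mem_sup_left w.2⟩) fun w => ⟨w.1 * t, mul_mem_sup w.2 (mem_zpowers t)⟩)
    ⟨?_, fun ⟨x, hx⟩ => ?_⟩).symm
  · rintro (u | u) (v | v) e <;> simp only [Sum.elim_inl, Sum.elim_inr, Subtype.mk.injEq, mul_left_inj] at e
    exacts [congrArg _ (Subtype.ext e), absurd e (m u v), absurd e.symm (m v u), congrArg _ (Subtype.ext e)]
  · obtain ⟨w, hw, rfl | rfl⟩ := (sup_inv t2 c).1 hx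
    exacts [⟨.inl ⟨_, hw⟩, rfl⟩, ⟨.inr ⟨_, hw⟩, rfl⟩]

theorem sq_pow (k : t * t = 1) : t ^ 2 ^ 1 = 1 := by rwa [pow_one, sq]

end gen

theorem W_cj {w : SUG B} (x : SUG B) (hw : w ∈ W B (rg B l)) : x * w * x⁻¹ ∈ W B (rg B (x * l * x⁻¹)) :=
  mem_W'.2 (by rw [rg_conj, rg_conj]; exact Submodule.map_mono (mem_W'.1 hw))

namespace St
variable (s : St ψ t) (h : Ok B)
include s h

theorem i2 {x y : SUG B} (hx : x * x = 1) (hy : y * y = 1) (k : ψ x = ψ y) : x = y := s.inj2 h.bm (sq_pow hx) (sq_pow hy) k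

theorem l2 (hk : k ∈ ψ.range) (k2 : k * k = 1) : ∃ x, x * x = 1 ∧ ψ x = k := by
  simpa only [pow_one, sq] using s.lift2 h.bm hk (sq_pow k2)

theorem ne_t (x y : SUG B) : ψ x ≠ ψ y * t := fun e => s.not_mem h.bm ⟨y⁻¹ * x, by rw [map_mul, map_inv, e, inv_mul_cancel_left]⟩

omit h in
theorem map_c (E : Subgroup (SUG B)) : ∀ x ∈ E.map ψ, x * t = t * x := by rintro _ ⟨x, -, rfl⟩; exact (s.tψ x).symm

theorem mem_EI : k ∈ EI ψ t I ↔ ∃ w ∈ W B I, k = ψ w ∨ k = ψ w * t := by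
  simp only [EI, sup_inv s.t2 (s.map_c _), mem_map, exists_exists_and_eq_and]

theorem card_ET {E : Subgroup (SUG B)} (hE : El E) : Nat.card ↥(E.map ψ ⊔ zpowers t) = 2 * Nat.card E := by
  rw [card_sup_inv s.t2 (s.map_c _) fun k => s.not_mem h.bm (map_le_range _ _ k)]
  congr 1
  refine (Nat.card_eq_of_bijective (ψ.subgroupMap E) ⟨fun x y e => ?_, ψ.subgroupMap_surjective E⟩).symm
  exact Subtype.ext (s.i2 h (hE _ x.2) (hE _ y.2) (congrArg Subtype.val e))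

theorem el_EI (hI : Ti B I) : El (EI ψ t I) ∧ Nat.card (EI ψ t I) = 2 * Nat.card (W B I) :=
  ⟨El.sup_inv (by rintro _ ⟨x, hx, rfl⟩; rw [← map_mul, h.W_el hI x hx, map_one]) s.t2 (s.map_c _), s.card_ET h (h.W_el hI)⟩

omit s h in
theorem t_EI : t ∈ EI ψ t I := mem_sup_right (mem_zpowers t)

theorem ψ_EI (hI : Ti B I) (l2 : l * l = 1) (p : k = ψ l ∨ k = ψ l * t) : k ∈ EI ψ t I ↔ l ∈ W B I := by
  refine ⟨fun m => ?_, fun m => (s.mem_EI h).2 ⟨l, m, p⟩⟩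
  obtain ⟨w, hw, e | e⟩ := (s.mem_EI h).1 m <;> rcases p with rfl | rfl
  exacts [s.i2 h l2 (h.W_el hI w hw) e ▸ hw, absurd e.symm (s.ne_t h _ _), absurd e (s.ne_t h _ _),
    s.i2 h l2 (h.W_el hI w hw) (mul_right_cancel e) ▸ hw]

theorem el_act (hE : El E) : El ((E.subgroupOf 𝐂[t]).map (s.act h.bm)) := by
  rintro _ ⟨x, hx, rfl⟩; exact s.act_sq h.bm x.2 (hE _ hx)

/-- `card_el`, `rk_aut_el`. -/
theorem rk_C (hq : IsBar q σ) (hE : El E) (k : E ≤ 𝐂[t]) : Nat.card E ≤ 2 * q ^ (finrank F V / 2) ^ 2 :=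
  (s.card_el h.bm hE k).trans (Nat.mul_le_mul_left _ (h.rk_aut_el hq (s.el_act h hE)))

/-- `ψ` is injective on `Stab e` (`stab_center`). -/
theorem stab_inj (h0 : e ≠ 0) {x y : SUG B} (hx : x ∈ Stab B e) (hy : y ∈ Stab B e) (k : ψ x = ψ y) : x = y :=
  inv_mul_eq_one.1 (h.stab_center h0 (mul_mem (inv_mem hx) hy) (s.ker _ (by rw [map_mul, map_inv, k, inv_mul_cancel])))

/-- As `GSt.St.s1` with `CQ` for `CU`. -/
theorem s1 (h0 : e ≠ 0) (he : B e e = 0) (p : E1 ψ t e g 1) : ∃ O, S1 ψ t O ∧ g ∈ 𝐍(O) := by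
  have S := s.conj g
  let O := 𝐂[t] ⊓ 𝐂(ψ.range) ⊓ (𝐂[g * t * g⁻¹] ⊓ 𝐂(((MulAut.conj g).toMonoidHom.comp ψ).range))
  have r : ∀ {χ : SUG B →* G} {k}, k ∈ 𝐂(χ.range) ↔ ∀ x, k * χ x = χ x * k :=
    ⟨fun p x => (p _ ⟨x, rfl⟩).symm, by rintro p _ ⟨x, rfl⟩; exact (p x).symm⟩
  have o : Odd (Nat.card O) := Nat.not_even_iff_odd.1 fun e => by
    obtain ⟨k, q⟩ := exists_prime_orderOf_dvd_card' 2 e.two_dvd
    have k2 : k.1 * k = 1 := by rw [← sq, ← coe_pow, ← q, pow_orderOf_eq_one, coe_one]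
    have k1 : k.1 ≠ 1 := fun z => by simp [show k = 1 from Subtype.ext z] at q
    exact h.tv_ne h0 he (map_one σ) one_ne_zero (s.i2 h (h.tv_sq _ 1) (one_mul 1) ((mul_eq_left.1 (p.xt.symm.trans
      (((S.kinv _ (mc.1 k.2.2.1) (r.1 k.2.2.2) k2).resolve_left k1).symm.trans
      ((s.kinv _ (mc.1 k.2.1.1) (r.1 k.2.1.2) k2).resolve_left k1)))).trans (map_one _).symm))
  obtain ⟨n, hn⟩ := odd_pow o
  have sq : ∀ k, k * t = t * k → (∀ x, k * ψ x = ψ x * k) → k * k ∈ O := fun k a q => by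
    have c : k ∈ 𝐂[g * t * g⁻¹] := mc.2 (p.xt ▸ Commute.mul_right a (q _))
    obtain ⟨x, -, f⟩ := h.CQ h0 he (α := S.act h.bm ⟨k, c⟩) fun u hu => by
      obtain ⟨m, hm⟩ := Core.isPGroup_subgroup_iff.1 (h.Q_two h0 he) u hu
      have hy : g * ψ u * g⁻¹ = ψ u := cjf.2 (p.cQ u hu)
      exact S.act_fix h.bm c hm (hy.symm ▸ q u :)
    refine ⟨⟨mc.2 (Commute.mul_left a a), r.2 fun x => Commute.mul_left (q x) (q x)⟩, mul_mem c c,
      r.2 ((S.act_one h.bm (mul_mem c c)).1 ?_)⟩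
    rw [show (⟨k * k, _⟩ : 𝐂[g * t * g⁻¹]) = ⟨k, c⟩ * ⟨k, c⟩ from rfl, map_mul, f, ← map_mul, h.tv_sq, map_one]
  have pw : ∀ k : G, k ^ (2 * n + 1) * k = (k * k) ^ (n + 1) := fun k => by rw [← pow_succ, ← pow_two, ← pow_mul]; rfl
  refine ⟨O, ⟨s, o, fun o p => mc.1 p.1.1, fun o p => r.1 p.1.2, fun k p q => ?_⟩, inv_mem_iff.1 (mem_normalizer_fintype fun k p => ?_)⟩
  · have := pow_mem (sq k p q) (n + 1)
    rcases s.kinv (k ^ (2 * n + 1)) (Commute.pow_left p _) (fun x => Commute.pow_left (q x) _)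
      (by rw [← (Commute.refl k).mul_pow, hn _ (sq k p q)]) with z | z <;> rw [← pw, z] at this
    exacts [.inl (one_mul k ▸ this), .inr this]
  have := pow_mem (sq (g⁻¹ * k * g⁻¹⁻¹) (by simpa [mul_assoc] using cjc (mc.1 p.2.1) g⁻¹)
    fun x => by simpa [mul_assoc] using cjc (r.1 p.2.2 x) g⁻¹) (n + 1)
  rwa [← pw, conj_pow, hn k p, mul_one, mul_inv_cancel, one_mul] at this

end St

namespace S1
variable (s : S1 ψ t O) (h : Ok B)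
include s h

theorem of_conj (hk : k ∈ 𝐂[t]) (e : s.act h.bm ⟨k, hk⟩ = MulAut.conj l) : ∃ o ∈ O, k = ψ l * o ∨ k = ψ l * t * o := by
  obtain ⟨a, b⟩ := s.K0_of h.bm hk e
  rcases s.K0 _ a b with m | m
  · exact ⟨_, m, .inl (mul_inv_cancel_left ..).symm⟩
  · exact ⟨_, m, .inr (by rw [mul_assoc, ← mul_assoc t, s.t2, one_mul, mul_inv_cancel_left])⟩

/-- `CQ`, `K0_of`, `K0`. -/
theorem cq (h0 : e ≠ 0) (he : B e e = 0) (h1 : k * t = t * k) (h2 : ∀ u ∈ Q B e, k * ψ u = ψ u * k) :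
    ∃ c, σ c = c ∧ ∃ o ∈ O, k = ψ (tv B e c) * o ∨ k = ψ (tv B e c) * t * o := by
  obtain ⟨c, hc, f⟩ := h.CQ h0 he (α := s.act h.bm ⟨k, mc.2 h1⟩) fun u hu =>
    let ⟨_, hm⟩ := Core.isPGroup_subgroup_iff.1 (h.Q_two h0 he) u hu; s.act_fix h.bm _ hm (h2 u hu)
  exact ⟨c, hc, s.of_conj h _ f⟩

/-- `CQ'`. -/
theorem cq' (h0 : e ≠ 0) (he : B e e = 0) (h1 : k * t = t * k) (h2 : ∀ u ∈ Q B e, ∃ d, σ d = d ∧ k * ψ u * k⁻¹ = ψ (u * tv B e d)) :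
    ∃ u ∈ Q B e, ∃ o ∈ O, k = ψ u * o ∨ k = ψ u * t * o := by
  obtain ⟨u, hu, f⟩ := h.CQ' h0 he (α := s.act h.bm ⟨k, mc.2 h1⟩) fun u hu => by
    obtain ⟨d, hd, e⟩ := h2 u hu
    obtain ⟨m, hm⟩ := Core.isPGroup_subgroup_iff.1 (h.Q_two h0 he) u hu
    obtain ⟨n, hn⟩ := Core.isPGroup_subgroup_iff.1 (h.Q_two h0 he) _ (mul_mem hu (h.tv_mem_Q _ d))
    exact ⟨d, hd, s.inj2 h.bm (n := m) (by rw [← map_pow, hm, map_one]) hn ((s.act_spec ..).trans e)⟩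
  exact ⟨u, hu, s.of_conj h _ f⟩

/-- `CR`: `ψ (α x) = ψ x` for `x ∈ Fix I` gives `α x = x`: `(α x)⁻¹ x` is central, and `α` fixes the involutions `tv v 1`, `v ∈ I`
(`act_fix`), so `α x ∈ Stab v` (`aut_z`, `stab_center`). -/
theorem cr (hI : Ti B I) (hI2 : 2 ≤ finrank F I) (h1 : k * t = t * k) (h2 : ∀ x ∈ Fix B I, k * ψ x = ψ x * k) :
    ∃ w ∈ W B I, ∃ o ∈ O, k = ψ w * o ∨ k = ψ w * t * o := by
  obtain ⟨e, he, f, -, q⟩ := ti_ln hI hI2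
  have := (h.aut_z q.ne q.ee (map_one σ) one_ne_zero (map_one σ) (s.act_fix h.bm (mc.2 h1) (sq_pow (h.tv_sq e 1))
    (h2 _ (h.W_le hI (h.tv_W he 1))))).1
  obtain ⟨w, hw, f⟩ := h.CR hI hI2 (α := s.act h.bm ⟨k, mc.2 h1⟩) fun x hx =>
    have m : x ∈ Stab B e := mem_Fix.1 hx e he
    s.stab_inj h q.ne (this x m) m ((s.act_spec ..).trans (cjf.2 (h2 x hx)))
  exact ⟨w, hw, s.of_conj h _ f⟩

end S1

end Cfsg.Lib.U42
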