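import Cfsg.Agent.Lib.U42.MF
import Cfsg.Agent.Lib.U42.S0
import Cfsg.Agent.Lib.GSt.Tr

/-!
# S3138 (copy of `USt`, `q = 2`, dimension `4`): the field case, fusion and transfer.  See `docs/U42.md`.  `M = φ.range`, `H = M C(t)`, `ty = LS.Θ ∘ LS.nact`,
`U' = φ (ju U)`, `a = q ^ k²`.
-/

set_option autoImplicit false

noncomputable section

namespace Cfsg.Lib.U42

open Module Matrix Subgroup G2S Cfsg.Lib.BG Cfsg.Lib.GW GSt.SLa Cfsg.Lib.Unitary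
open scoped commutatorElement Cfsg.Lib.Transfer

variable {F : Type*} [Field F] [CharP F 2] [Finite F] {n : ℕ} {s : RingAut F} {G : Type*} [Group G] [Finite G]
  {ψ : SUG (BD s n) →* G} {t g x : G} {O N T : Subgroup G} {φ : LS.J n F →* G}

/-- `M C(t)`. -/
def HF (φ : LS.J n F →* G) (t : G) : Subgroup G := φ.range ⊔ 𝐂[t]

variable (s) in
/-- `1 + σ r v v^*`. -/
def Zv (v : VV n F) (r : F) : LS.J n F := op s v (r • v)

section Zv
variable {v : VV n F} (hv : BD s n v v = 0)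
include hv
omit [CharP F 2] [Finite F]

theorem Zv_ap (r : F) (w : VV n F) : (Zv s v r).1 *ᵥ w = w + (s r * BD s n v w) • v := by
  rw [Zv, op_mulVec (by simp [hv])]; simp

theorem Zv_add (r r' : F) : Zv s v (r + r') = Zv s v r * Zv s v r' := by
  rw [Zv, add_smul, op_add_right (by simp [hv]) (by simp [hv])]; rfl

theorem Zv_zero : Zv s v 0 = 1 := by simpa using Zv_add hv 0 0

omit hv in
theorem Zv_cj (u : SUG (BD s n)) (r : F) : io s n u * Zv s v r * (io s n u)⁻¹ = Zv s (u.1 v) r := by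
  rw [Zv, op_conj, map_smul]; rfl

end Zv

omit [Finite F] in
theorem Zv_sq {v : VV n F} (hv : BD s n v v = 0) (r : F) : Zv s v r * Zv s v r = 1 := by rw [← Zv_add hv, aa, Zv_zero hv]

omit [Finite F] in
theorem Ok.Zv_τ (h : Ok (BD s n)) {v : VV n F} (hv : BD s n v v = 0) (r : F) : τ s n (Zv s v r) = Zv s v (s r) := by
  rw [Zv, h.τ_op (by simp [hv])]
  refine SL_ext fun w => ?_
  rw [Zv_ap hv, op_mulVec (by simp [hv]), smul_smul, mul_comm]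
  exact congrArg (fun c => w + (c * _) • v) (h.ss r).symm

theorem Ok.Zv_io (h : Ok (BD s n)) {v : VV n F} (hv : BD s n v v = 0) {c : F} (hc : s c = c) : io s n (tv (BD s n) v c) = Zv s v c :=
  SL_ext fun w => by rw [io_mulVec, Zv_ap hv, h.tv_ap hv hc, hc]

theorem card_map2 (hφ : φ.ker ≤ center _) {E : Subgroup (LS.J n F)} (hE : El E) : Nat.card (E.map φ) = Nat.card E :=
  (Nat.card_congr (Equiv.ofBijective (fun x : E => (⟨φ x, mem_map_of_mem _ x.2⟩ : E.map φ))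
    ⟨fun x y e => Subtype.ext (LS.eq2' hφ (congrArg Subtype.val e) (hE _ x.2) (hE _ y.2)), by
      rintro ⟨_, x, hx, rfl⟩; exact ⟨⟨x, hx⟩, rfl⟩⟩)).symm

theorem sup_inv' {X : Type*} [Group X] {N : Subgroup X} [hN : N.Normal] {t k : X} (t2 : t * t = 1) (hk : k ∈ N ⊔ zpowers t) :
    k ∈ N ∨ k * t ∈ N := by
  obtain ⟨a, ha, _, ⟨i, rfl⟩, rfl⟩ := (mem_sup_left_norm (H := zpowers t) (N := N) (by rw [normalizer_eq_top]; exact le_top)).1 hk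
  have e : ∀ j : ℤ, t ^ (2 * j) = 1 := fun j => by rw [_root_.zpow_mul, _root_.zpow_two, t2, _root_.one_zpow]
  obtain ⟨j, rfl | rfl⟩ := Int.even_or_odd' i
  · left; simpa only [e, mul_one] using ha
  · right; simpa only [_root_.zpow_add, e, one_mul, zpow_one, mul_assoc, t2, mul_one] using ha

/-- `GSt.tf` in `N ⊔ ⟨t⟩`: the image of `H ⊓ N` in a cyclic group killing `t` has odd order. -/
theorem tf_odd {A : Type*} [Group A] [IsCyclic A] {H : Subgroup G} [N.Normal] (ρ : H →* A) (t2 : t * t = 1) (tH : t ∈ H)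
    (ρt : ρ ⟨t, tH⟩ = 1) (sw : ∀ g, g * t * g⁻¹ ∈ H → g ∈ H) (hN : ⁅N, N⁆ = N)
    (dec : ∀ x (hx : x ∈ H), x ∈ N → ∃ c, ∃ hc : c ∈ H, c * t = t * c ∧ c ∈ N ∧ ρ ⟨x, hx⟩ = ρ ⟨c, hc⟩)
    (hx : x ∈ H) (hx' : x ∈ N) {k : ℕ} (h2 : x ^ 2 ^ k = 1) : ρ ⟨x, hx⟩ = 1 := by
  obtain ⟨β, ⟨⟨a, ha⟩, aN, rfl⟩, hβ⟩ := cyclic_iff.1 (inferInstance : IsCyclic ((N.subgroupOf H).map ρ))
  obtain ⟨c, hc, ct, cN, ρc⟩ := dec a ha aN
  generalize ρ ⟨a, ha⟩ = β at hβ ρc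
  have m1 : ∀ {x} (hx : x ∈ H), x ∈ N ⊔ zpowers t → ρ ⟨x, hx⟩ ∈ zpowers β := fun {x} hx k => by
    rw [hβ]
    rcases sup_inv' t2 k with k | k
    · exact ⟨_, k, rfl⟩
    · exact ⟨⟨x, hx⟩ * ⟨t, tH⟩, k, by rw [map_mul, ρt, mul_one]⟩
  have m : ∀ {x} (hx : x ∈ H), x ∈ ((zpowers (β ^ (2 : ℤ))).comap ρ).map H.subtype ↔ ρ ⟨x, hx⟩ ∈ zpowers (β ^ (2 : ℤ)) :=
    fun {x} hx => mem_map_iff_mem (x := ⟨x, hx⟩) (subtype_injective _)
  have od : ∀ {y}, y ∈ zpowers β → y ∉ zpowers (β ^ (2 : ℤ)) → ∃ j : ℤ, y = β ^ (2 * j + 1) := by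
    rintro _ ⟨i, rfl⟩ k
    obtain ⟨j, rfl | rfl⟩ := Int.even_or_odd' i
    exacts [(k ⟨j, (_root_.zpow_mul ..).symm⟩).elim, ⟨j, rfl⟩]
  have := GSt.tf (G := ↥(N ⊔ zpowers t)) (H := H.subgroupOf _)
    (H₀ := (((zpowers (β ^ (2 : ℤ))).comap ρ).map H.subtype).subgroupOf _) (t := ⟨t, mem_sup_right (mem_zpowers t)⟩)
    (a := ⟨c, mem_sup_left cN⟩) (comap_mono (map_subtype_le _)) (fun x hx y hy x0 y0 => by
      obtain ⟨i, hi⟩ := od (m1 hx x.2) fun k => x0 ((m hx).2 k)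
      obtain ⟨j, hj⟩ := od (m1 hy y.2) fun k => y0 ((m hy).2 k)
      refine (m (H.mul_mem hx hy)).2 ⟨i + j + 1, Eq.trans ?_ ((map_mul ρ ⟨_, hx⟩ ⟨_, hy⟩).trans (congrArg₂ (· * ·) hi hj)).symm⟩
      change (β ^ (2 : ℤ)) ^ _ = _
      rw [← _root_.zpow_add, ← _root_.zpow_mul]; congr 1; ring) (Subtype.ext t2) tH (fun g k => sw _ k) (Subtype.ext ct) (by
      rw [← mem_map_iff_mem (subtype_injective _), map_subtype_commutator]
      exact commutator_mono le_sup_left le_sup_left (hN.ge cN))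
  obtain ⟨i, hi⟩ := (m hc).1 this
  rw [← ρc] at hi
  obtain ⟨j, hj⟩ := m1 hx (mem_sup_left hx')
  have o1 : orderOf (ρ ⟨x, hx⟩) ∣ 2 ^ k := orderOf_dvd_of_pow_eq_one (by
    rw [← map_pow, show (⟨x, hx⟩ ^ 2 ^ k : H) = 1 from Subtype.ext h2, map_one])
  have o2 : (orderOf (ρ ⟨x, hx⟩) : ℤ) ∣ 2 * i - 1 := orderOf_dvd_iff_zpow_eq_one.2 (by
    rw [← hj, ← _root_.zpow_mul, mul_comm, _root_.zpow_mul, _root_.zpow_sub_one, _root_.zpow_mul β 2, show (β ^ (2 : ℤ)) ^ i = β from hi,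
      mul_inv_cancel, _root_.one_zpow])
  obtain ⟨r, -, e⟩ := (Nat.dvd_prime_pow Nat.prime_two).1 o1
  rcases r with _ | r
  · exact orderOf_eq_one_iff.1 e
  · rw [e, pow_succ] at o2
    have := (Dvd.intro_left _ (by push_cast; rfl) : (2 : ℤ) ∣ ((2 ^ r * 2 : ℕ) : ℤ)).trans o2
    omega

namespace FD
variable (d : FD ψ t O φ) (h : Ok (BD s n))
include d h

/-- `LS.nml`. -/
theorem kerφ : φ.ker ≤ center _ := (LS.nml φ.ker).resolve_right fun e => h.bm.not_comm fun x y =>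
  (mem_center_iff.1 (d.ker y (by rw [← d.ext]; exact e.ge (mem_top _))) x)

/-- `φ⁻¹ N` is normal and contains `io J`. -/
theorem le [N.Normal] (hN : ψ.range ≤ N) : φ.range ≤ N := by
  rcases LS.nml (N.comap φ) with e | e
  · exact (h.bm.not_comm fun x y => io_inj (by
      rw [map_mul, map_mul]; exact mem_center_iff.1 (e (show φ _ ∈ N from d.ext y ▸ hN ⟨y, rfl⟩)) _)).elim
  · rintro _ ⟨l, rfl⟩; exact e.ge (mem_top l)

omit h in
theorem ct' (l : LS.J n F) : t * φ l * t⁻¹ = φ (τ s n l) := by rw [d.it, d.ct]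

theorem Yt {v : VV n F} (hv : BD s n v v = 0) (r : F) : φ (Zv s v r) * t * φ (Zv s v r) = t * ψ (tv (BD s n) v (r + s r)) := by
  rw [← d.ext, h.Zv_io hv (c := r + s r) (h.tK r), add_comm r, Zv_add hv, ← h.Zv_τ hv, map_mul, ← d.ct, ← mul_assoc, ← mul_assoc, ← mul_assoc, d.t2,
    one_mul]

omit h in
theorem Yc {v : VV n F} {u : SUG (BD s n)} (hu : u.1 v = v) (r : F) : ψ u * φ (Zv s v r) = φ (Zv s v r) * ψ u := by
  rw [← cjf, ← d.ext, ← map_inv, ← map_mul, ← map_mul, Zv_cj, hu]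

omit h in
theorem O_one {o : G} (ho : o ∈ O) {k : ℕ} (e : o ^ 2 ^ k = 1) : o = 1 := let ⟨_, p⟩ := odd_pow d.odd; one_of e (p o ho)

/-- `Y v r = φ (op v (r v))` is an involution centralizing `ψ (Q v)` (`op_conj`), `Y t Y = t ψ (tv v (Tr r))` (`τ_op`, `io_ei`).  For `c ∈ C(t)`,
`act c` induced by `Φ`, `θ`: `g = c (Y v r) c⁻¹` centralizes `ψ (Q (Φ v))`, `g t g = t ψ (tv (Φ v) d)`, `d = θ (Tr r)`.  If `d = 0` then
`Y v r ∈ L`.  Otherwise take `Tr r' = d`, `cq` for `Y (Φ v) r' * g`: `g = Y ψ z o` gives `o² = 1`; `g = Y ψ z t o` gives `g² = ψ (tv _ d) o²`.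
`genY`. -/
theorem nrm (hc : g * t = t * g) : g ∈ 𝐍(φ.range) := by
  obtain ⟨α, hα⟩ := d.cn g hc
  obtain ⟨Φ, θ, p⟩ := h.ind_ex α
  refine mem_normalizer_fintype (S := (φ.range : Set G)) ?_
  rintro _ ⟨l, rfl⟩
  refine (h.genY (N := (φ.range.comap (MulAut.conj g).toMonoidHom).comap φ) fun v r hv => ?_).ge (mem_top l)
  change g * φ (Zv s v r) * g⁻¹ ∈ φ.range
  by_cases hr : s r = r
  · rw [← h.Zv_io hv hr, d.ext, hα, ← d.ext]; exact ⟨_, rfl⟩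
  rcases eq_or_ne v 0 with rfl | v0
  · rw [show Zv s 0 r = 1 from SL_ext fun w => by simp [Zv_ap hv], map_one, mul_one, mul_inv_cancel]; exact one_mem _
  have hv' : BD s n (Φ v) (Φ v) = 0 := by rw [p.iso, hv, map_zero]
  have v0' : Φ v ≠ 0 := by simpa using v0
  have Y2 : ∀ {v : VV n F}, BD s n v v = 0 → ∀ r, φ (Zv s v r) * φ (Zv s v r) = 1 := fun hv r => by rw [← map_mul, Zv_sq hv, map_one]
  have k2 := cj2 (Y2 hv r) g
  have kt : g * φ (Zv s v r) * g⁻¹ * t * (g * φ (Zv s v r) * g⁻¹) = t * ψ (tv (BD s n) (Φ v) (θ r + s (θ r))) := by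
    rw [show s (θ r) = θ (s r) from (h.θσ θ r).symm, ← map_add, ← h.ind_tv p, ← hα]
    nth_rw 1 [← cjf.2 hc]
    rw [conj_mul, conj_mul, d.Yt h hv, ← conj_mul, cjf.2 hc]
  have kQ : ∀ u ∈ Q (BD s n) (Φ v), g * φ (Zv s v r) * g⁻¹ * ψ u = ψ u * (g * φ (Zv s v r) * g⁻¹) := fun u hu => by
    obtain ⟨w, γ, q, rfl⟩ := h.Q_ex' v0' hv' hu
    obtain ⟨w, rfl⟩ := Φ.surjective w
    obtain ⟨γ, rfl⟩ := θ.surjective γ
    rw [← h.ind_ei p, ← hα]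
    exact cjc (d.Yc (Q_le (h.ei_mem_Q v w γ)) r).symm g
  generalize g * φ (Zv s v r) * g⁻¹ = k at k2 kt kQ
  obtain ⟨c, hc, o, ho, e⟩ := d.toS1.cq h v0' hv' (k := φ (Zv s (Φ v) (θ r)) * k) (by
    have := (d.Yt h hv' (θ r)).trans kt.symm
    have y2 := Y2 hv' (θ r)
    generalize φ (Zv s (Φ v) (θ r)) = y at this y2 ⊢
    calc y * k * t = y * (k * t * k) * k := by rw [mul_assoc y _ k, mul_assoc _ k k, k2, mul_one, mul_assoc]
      _ = _ := by rw [← this, ← mul_assoc, ← mul_assoc, y2, one_mul, mul_assoc])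
    fun u hu => by rw [mul_assoc, kQ u hu, ← mul_assoc, ← d.Yc (Q_le hu), mul_assoc]
  have eY : φ (Zv s (Φ v) (θ r + c)) = φ (Zv s (Φ v) (θ r)) * ψ (tv (BD s n) (Φ v) c) := by
    rw [Zv_add hv', map_mul, ← h.Zv_io hv' (c := c) hc, d.ext]
  have y2 := Y2 hv' (θ r + c)
  have yo := d.Oφ o ho (Zv s (Φ v) (θ r + c))
  have yt := d.Yt h hv' (θ r + c)
  have e' : k = φ (Zv s (Φ v) (θ r + c)) * o ∨ k = φ (Zv s (Φ v) (θ r + c)) * t * o := e.imp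
    (fun e => by rw [eY, mul_assoc, ← e, ← mul_assoc, Y2 hv', one_mul])
    fun e => by rw [eY, mul_assoc (φ _), mul_assoc (φ _), ← e, ← mul_assoc, Y2 hv', one_mul]
  have ym : φ (Zv s (Φ v) (θ r + c)) ∈ φ.range := ⟨_, rfl⟩
  generalize φ (Zv s (Φ v) (θ r + c)) = y at y2 yo yt e' ym
  rcases e' with rfl | rfl
  · rw [mul_assoc, ← mul_assoc o, yo, ← mul_assoc, ← mul_assoc, y2, one_mul] at k2
    rwa [d.O_one ho (sq_pow k2), mul_one]
  · have ot := d.Ot o ho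
    have : ψ (tv (BD s n) (Φ v) (θ r + c + s (θ r + c))) * (o * o) = 1 := by
      rw [← k2, mul_assoc (y * t) o, ← mul_assoc o, ← mul_assoc o, yo, mul_assoc y o, ot, ← mul_assoc, ← mul_assoc, ← mul_assoc,
        ← mul_assoc, yt, d.tψ, mul_assoc _ t t, d.t2, mul_one, mul_assoc]
    have oo := d.O_one (mul_mem ho ho) (sq_pow (by
      rw [eq_inv_of_mul_eq_one_right this, ← _root_.mul_inv_rev, ← map_mul, h.tv_sq, map_one, inv_one]))
    rw [oo, mul_one, ← map_one ψ] at this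
    refine (h.tv_ne v0' hv' (h.tK _) (fun z => hr ?_) (d.toSt.i2 h (h.tv_sq _ _) (mul_one _) this)).elim
    have z' : θ r + c + (s (θ r) + c) = 0 := by rw [← z, map_add]; exact congrArg (fun x : F => θ r + c + (s (θ r) + x)) hc.symm
    rw [show s (θ r) = θ (s r) from (h.θσ θ r).symm] at z'
    exact θ.injective (by linear_combination z' - aa c - aa (θ r))

theorem HF_le : HF φ t ≤ 𝐍(φ.range) := sup_le (le_norm _) fun _ k => d.nrm h (mc.1 k)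

theorem mem_HF : x ∈ HF φ t ↔ ∃ l c, c * t = t * c ∧ x = φ l * c := (mem_sup_left_norm (le_sup_right.trans (d.HF_le h))).trans
  ⟨by rintro ⟨_, ⟨l, rfl⟩, c, k, rfl⟩; exact ⟨l, c, mc.1 k, rfl⟩, by rintro ⟨l, c, k, rfl⟩; exact ⟨_, ⟨l, rfl⟩, c, mc.2 k, rfl⟩⟩

/-- The type. -/
def ty : HF φ t →* LS.AA F := LS.Θ.comp ((LS.nact (d.kerφ h)).comp (inclusion (d.HF_le h)))

theorem ty_eq (hx : x ∈ HF φ t) {α : MulAut (LS.J n F)} (k : ∀ l, x * φ l * x⁻¹ = φ (α l)) : d.ty h ⟨x, hx⟩ = LS.Θ α :=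
  congrArg LS.Θ (LS.aut_uniq (d.kerφ h) fun l => (LS.nact_spec (d.kerφ h) ⟨x, d.HF_le h hx⟩ l).trans (k l))

theorem ty_ex (hx : x ∈ HF φ t) {m : ℕ} (h2 : x ^ m = 1) : ∃ α : MulAut (LS.J n F), α ^ m = 1 ∧ d.ty h ⟨x, hx⟩ = LS.Θ α ∧
    ∀ l, x * φ l * x⁻¹ = φ (α l) :=
  ⟨LS.nact (d.kerφ h) ⟨x, d.HF_le h hx⟩, by rw [← map_pow, show (⟨x, d.HF_le h hx⟩ ^ m : 𝐍(φ.range)) = 1 from Subtype.ext h2, map_one],
    rfl, fun l => (LS.nact_spec (d.kerφ h) ⟨x, d.HF_le h hx⟩ l).symm⟩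

theorem ty_mul {y : G} (hx : x ∈ HF φ t) (hy : y ∈ HF φ t) : d.ty h ⟨x * y, mul_mem hx hy⟩ = d.ty h ⟨x, hx⟩ * d.ty h ⟨y, hy⟩ :=
  map_mul (d.ty h) ⟨x, hx⟩ ⟨y, hy⟩

theorem ty_φ (l : LS.J n F) : d.ty h ⟨φ l, mem_sup_left ⟨l, rfl⟩⟩ = 1 := (d.ty_eq h _ (α := MulAut.conj l) fun _ => by simp).trans (LS.Θ_conj l)

theorem ty_t : d.ty h ⟨t, mem_sup_right (mc.2 rfl)⟩ = (s, LS.g1) := (d.ty_eq h _ d.ct').trans (LS.Θ_sa _)

/-- `t` normalizes `C(M)`; an involution of `C(M) ⊓ C(t)` is `t` (`kinv`), and `τ ≠ 1`. -/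
theorem odd_C : Odd (Nat.card 𝐂(φ.range)) := by
  refine Nat.not_even_iff_odd.1 fun e => ?_
  have tN : t ∈ 𝐍(φ.range) := d.nrm h rfl
  obtain ⟨P, hP, tP⟩ := Syl.exists_ge (p := 2) (Q := zpowers t) (IsPGroup.of_card_dvd_pow (n := 1) (by
    rw [Nat.card_zpowers]; exact orderOf_dvd_of_pow_eq_one (by simpa [sq] using d.t2))) (zpowers_le.2 tN)
  have nP : P ≤ 𝐍(𝐂(φ.range)) := norm_cent hP.le
  obtain ⟨x, ⟨⟨x1, x2⟩, x3⟩, x0⟩ := exists_ne_one (nil_meet_center hP.nil inf_le_left (norm_inf (le_norm P) nP)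
    (Syl.ne_bot' (hP.inf (cent_le_norm _) nP) e.two_dvd))
  obtain ⟨k, hk⟩ := hP.pgroup ⟨x, x1⟩
  rcases d.toS1.two_el (congrArg Subtype.val hk) (mem_cent.1 x3 t (tP (mem_zpowers t))).symm
    (fun y => (mem_cent.1 x2 _ ⟨_, d.ext y⟩).symm) with rfl | rfl
  · exact x0 rfl
  · have := (d.ty_eq h _ (α := 1) fun l => cjf.2 (mem_cent.1 x2 _ ⟨l, rfl⟩).symm).symm.trans (d.ty_t h)
    rw [map_one] at this
    exact LS.g1_ne (congrArg Prod.snd this).symm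

/-- `LS.inner2`, `odd_C`. -/
theorem two_mem (hx : x ∈ HF φ t) {k : ℕ} (h2 : x ^ 2 ^ k = 1) (h1 : d.ty h ⟨x, hx⟩ = 1) : ∃ l, l ^ 2 ^ k = 1 ∧ x = φ l := by
  obtain ⟨α, a1, a2, a3⟩ := d.ty_ex h hx h2
  obtain ⟨l, l2, rfl⟩ := LS.inner2 a1 (a2.symm.trans h1)
  have c : (φ l)⁻¹ * x ∈ 𝐂(φ.range) := mem_cent.2 (by
    rintro _ ⟨y, rfl⟩
    have := a3 y
    rw [MulAut.conj_apply, map_mul, map_mul, map_inv, mul_inv_eq_iff_eq_mul] at this
    rw [mul_assoc (φ l)⁻¹, this]; group)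
  obtain ⟨r, hr⟩ := odd_pow (d.odd_C h)
  refine ⟨l, l2, (inv_mul_eq_one.1 (one_of (n := k) ?_ (hr _ c))).symm⟩
  rwa [← mul_inv_cancel_left (φ l) x, Commute.mul_pow (mem_cent.1 c _ ⟨l, rfl⟩), ← map_pow, l2, map_one, one_mul] at h2

/-- Types `(1, 1)`: `rkA`; `(1, g1)`: `rkG`; both against `rk_C` for `St.conj`: `2 a < a²`, `2 a < q ^ (k (k + 1))`.
`(σ, 1)`: `fld`; `φ ∘ χ` maps into `C(s')`, its root elements are triangle involutions: `xr i j c` with `a = xr k j 1 * xr j k 1`-type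
permutation `pm (swap j k)`, `b = xr j k 1` (`xr i j c ↦ xr i j c * xr i k c`), `T3`, `LS.gen`, `noL`.  `eq_σ`. -/
theorem ty_conj (hx : g * t * g⁻¹ ∈ HF φ t) : d.ty h ⟨_, hx⟩ = (s, LS.g1) := by
  have s' := d.toSt.conj g
  generalize (MulAut.conj g).toMonoidHom.comp ψ = ψ' at s'
  generalize g * t * g⁻¹ = t' at hx s' ⊢
  obtain ⟨β, b1, b2, b3⟩ := d.ty_ex h hx (m := 2 ^ 1) (by simpa [sq] using s'.t2)
  have bb : β * β = 1 := by simpa [sq] using b1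
  obtain ⟨e, e1, hq⟩ := h.bar
  have hF : Nat.card F = (2 ^ e) ^ 2 := hq.card
  have q2 : 2 ≤ 2 ^ e := by simpa using Nat.pow_le_pow_right two_pos e1
  have k2 : 2 ≤ (n + 3) / 2 := by have := h.d4; rw [finrank_VV] at this; omega
  have rk : ∀ E : Subgroup (LS.J n F), El E → (∀ x ∈ E, φ x * t' = t' * φ x) → Nat.card E ≤ 2 * (2 ^ e) ^ ((n + 3) / 2) ^ 2 :=
    fun E hE k => by
      have := s'.rk_C h hq (E := E.map φ) (by rintro _ ⟨x, hx, rfl⟩; rw [← map_mul, hE x hx, map_one])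
        (by rintro _ ⟨x, hx, rfl⟩; exact mc.2 (k x hx))
      rwa [card_map2 (d.kerφ h) hE, finrank_VV] at this
  have ar : ∀ a b : ℕ, a + 2 ≤ b → ¬ (2 ^ e) ^ b ≤ 2 * (2 ^ e) ^ a := fun a b k => by
    generalize 2 ^ e = q at q2
    have h1 := Nat.pow_le_pow_right (n := q) (by omega) k
    have h2 : 0 < q ^ a := by positivity
    rw [pow_add] at h1
    have : 4 ≤ q ^ 2 := by nlinarith
    nlinarith
  have cb : ∀ {x}, β x = x → φ x * t' = t' * φ x := fun {x} k => (cjf.1 ((b3 x).trans (congrArg φ k))).symm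
  have hθ : (LS.Θ β).1 = 1 ∨ (LS.Θ β).1 = s := (em _).imp_right fun k => RingEquiv.ext
    (h.eq_σ (by rw [← Prod.fst_mul, ← map_mul, bb, map_one]; rfl) k)
  rw [b2]
  rcases LS.AA_cases (LS.Θ β) with k | k <;> rcases hθ with k' | k' <;> rw [k'] at k
  · obtain ⟨l, l2, rfl⟩ := d.two_mem h hx (k := 1) (by simpa [sq] using s'.t2) (b2.trans k)
    obtain ⟨E, hE, lE, c⟩ := rkA (l := l) (by simpa [sq] using l2)
    have := c.trans (rk E hE fun x hx => by rw [← map_mul, ← map_mul, hE.comm hx lE])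
    rw [hF, ← pow_mul] at this
    exact (ar _ _ (by nlinarith) this).elim
  · obtain ⟨χ, i, c⟩ := h.fld bb k
    refine (h.noL (K := fixedField (s : F →+* F)) (by rw [hq.card_fixedField, hF]) s'.ker (χ := φ.comp χ)
      (fun x k => mem_center_iff.2 fun y => i (by rw [map_mul, map_mul]; exact mem_center_iff.1 (d.kerφ h k) _)) ?_).elim
    rintro _ ⟨l, rfl⟩
    refine (LS.gen (N := ψ'.range.comap (φ.comp χ)) fun i j a => ?_).ge (mem_top l)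
    rcases eq_or_ne i j with rfl | hij
    · rw [LS.xr_self]; exact one_mem _
    obtain ⟨m, mi, mj⟩ := LS.third i j
    refine s'.T3 h.bm (a := φ (χ (LS.pm (Equiv.swap j m)))) (c := φ (χ (LS.xr j m 1))) (v := φ (χ (LS.xr i m a))) (cb (c _)) (cb (c _))
      (cb (c _)) ?_ ?_ ?_
    · change φ (χ _) * φ (χ _) = 1
      rw [← map_mul, ← map_mul, LS.xr_sq, map_one, map_one]
    · change _ * φ (χ _) * _ = _
      rw [← map_inv, ← map_inv, ← map_mul, ← map_mul, ← map_mul, ← map_mul, LS.pm_xr, Equiv.swap_apply_left,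
        Equiv.swap_apply_of_ne_of_ne hij mi.symm]
    · change _ * φ (χ _) * _ = φ (χ _) * _
      have := LS.xr_cm hij mj.symm mi.symm a 1
      rw [mul_one] at this
      rw [← map_inv, ← map_inv, ← map_mul, ← map_mul, ← map_mul, ← map_mul, ← map_mul, ← map_mul, ← this, commutatorElement_def,
        ← mul_assoc, ← mul_assoc, ← mul_assoc, LS.xr_sq, one_mul, LS.xr_inv i j]
  · obtain ⟨E, hE, c1, c⟩ := rkG bb k
    have := c.trans (rk E hE fun x hx => cb (c1 x hx))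
    rw [hF, ← pow_mul, Nat.two_mul_div_two_of_even (Nat.even_mul_succ_self _)] at this
    exact (ar _ _ (by nlinarith) this).elim
  · exact k

theorem syl_M : Syl 2 (φ.comp LS.ju).range φ.range := by
  have := (LS.em_ju (n := n) (F := F)).syl.map φ
  rwa [MonoidHom.map_range, ← MonoidHom.range_eq_map] at this

theorem t_U : t ∈ 𝐍((φ.comp LS.ju).range) := mem_normalizer_fintype (S := ((φ.comp LS.ju).range : Set G)) (by
  rintro _ ⟨u, rfl⟩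
  obtain ⟨v, e⟩ := LS.sa_ju (s, LS.g1) u
  exact ⟨v, ((d.ct' _).trans (congrArg φ e)).symm⟩)

omit [Finite G] h in
theorem pz (g : G) : IsPGroup 2 (zpowers (g * t * g⁻¹)) := IsPGroup.of_card_dvd_pow (n := 1) (by
  rw [Nat.card_zpowers]; exact orderOf_dvd_of_pow_eq_one (by simpa [sq] using cj2 d.t2 g))

omit [Finite G] h in
theorem pz1 : IsPGroup 2 (zpowers t) := by
  have := d.pz 1
  rwa [one_mul, inv_one, mul_one] at this

omit [Finite G] d h in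
theorem tH : t ∈ HF φ t := mem_sup_right (mc.2 rfl)

theorem ty_tt : d.ty h ⟨t, tH⟩ * d.ty h ⟨t, tH⟩ = 1 := by
  rw [← map_mul, show (⟨t, tH⟩ * ⟨t, tH⟩ : HF φ t) = 1 from Subtype.ext d.t2, map_one]

/-- Conjugate `s' = g t g⁻¹` by `H` into a Sylow `2`-subgroup `T₁ ≥ U' ⟨t⟩` of `H`; `s' t` has type `1`, lies in `M ⊓ T₁ = U'`:
`s' = φ u t`, `u τ u = 1` (`LS.eq2`), `lang`. -/
theorem sw (hx : g * t * g⁻¹ ∈ HF φ t) : g ∈ HF φ t := by
  obtain ⟨P, hP, tP⟩ := Syl.exists_ge (p := 2) (M := HF φ t) d.pz1 (zpowers_le.2 tH)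
  obtain ⟨c, hc, k⟩ := hP.exists_conj_le (d.pz g) (zpowers_le.2 hx)
  have k1 : c * g * t * (c * g)⁻¹ ∈ P := by
    have := k (mem_map_of_mem _ (mem_zpowers _))
    rwa [show (MulAut.conj c).toMonoidHom (g * t * g⁻¹) = c * g * t * (c * g)⁻¹ by simp [mul_assoc]] at this
  have k2 := mul_mem k1 (tP (mem_zpowers t))
  obtain ⟨m, hm⟩ := hP.pgroup ⟨_, k2⟩
  obtain ⟨l, l2, e⟩ := d.two_mem h (hP.le k2) (congrArg Subtype.val hm) (by
    rw [d.ty_mul h (hP.le k1) tH, d.ty_conj h, ← d.ty_t h, d.ty_tt h])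
  have e' : c * g * t * (c * g)⁻¹ = φ l * t := by rw [← e, mul_assoc _ t t, d.t2, mul_one]
  have := cj2 d.t2 (c * g)
  rw [e', mul_assoc, ← mul_assoc t, d.ct] at this
  obtain ⟨w, rfl⟩ := h.lang (g := l) (mul_eq_one_iff_inv_eq.2 (LS.eq2 (k := m) (d.kerφ h) (by rw [map_inv, inv_eq_of_mul_eq_one_right this])
    (by rw [inv_pow, l2, inv_one]) (by rw [← map_pow, l2, map_one])))
  rw [map_mul, map_inv, ← d.ct'] at e'
  have : (φ w)⁻¹ * (c * g) ∈ HF φ t := mem_sup_right (mc.2 (by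
    rw [← cjf, show (φ w)⁻¹ * (c * g) * t * ((φ w)⁻¹ * (c * g))⁻¹ = (φ w)⁻¹ * (c * g * t * (c * g)⁻¹) * φ w by group, e']
    group))
  exact (mul_mem_cancel_left hc).1 ((mul_mem_cancel_left (inv_mem (mem_sup_left (show φ w ∈ φ.range from ⟨w, rfl⟩)))).1 this)

/-- Normalizers grow (`Transfer.lt_inf_normalizer_of_lt`). -/
theorem two_le (hT : IsPGroup 2 T) (ht : t ∈ T) : T ≤ HF φ t := by
  by_contra k
  have := nil_norm_grow (pgroup_nil hT) (H := T ⊓ HF φ t) (lt_of_le_of_ne inf_le_left fun e => k (e.ge.trans inf_le_right))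
  obtain ⟨g, ⟨g1, g2⟩, g3⟩ := SetLike.exists_of_lt this
  exact g3 ⟨g1, d.sw h (conj_mem_of_norm g2 ⟨ht, tH⟩).2⟩

/-- `GSt.tf` with `H₀ = ker (snd ∘ ty)`. -/
theorem ty_snd (hx : x * t = t * x) (hG : x ∈ commutator G) : (d.ty h ⟨x, mem_sup_right (mc.2 hx)⟩).2 = 1 := by
  have m : ∀ {x} (hx : x ∈ HF φ t), x ∈ ((MonoidHom.snd _ _).comp (d.ty h)).ker.map (HF φ t).subtype ↔ (d.ty h ⟨x, hx⟩).2 = 1 :=
    fun {x} hx => mem_map_iff_mem (x := ⟨x, hx⟩) (subtype_injective _)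
  refine (m _).1 (GSt.tf (map_subtype_le _) (fun x hx y hy x0 y0 => ?_) d.t2 tH (fun _ => d.sw h) hx hG)
  rw [m hx] at x0
  rw [m hy] at y0
  rw [m (mul_mem hx hy), d.ty_mul h hx hy, Prod.snd_mul, (Linear.zmodTwo_cases _).resolve_left x0, (Linear.zmodTwo_cases _).resolve_left y0]
  rfl

/-- `B₀ = ty (C_N(t)) ≤ RingAut F × 1` (`ty_snd`).  `GSt.tf` in `G₁ = N ⊔ ⟨t⟩` for `H ⊓ G₁ = M C_N(t) ⟨t⟩` and
`H₀ = {x | ty x ∈ B₀² ⟨ty t⟩}` (index `≤ 2`: `B₀` is cyclic): `B₀ = B₀²` has odd order.  `H ⊓ N = M C_N(t)`. -/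
theorem ty_odd [N.Normal] (hN : ⁅N, N⁆ = N) (hM : φ.range ≤ N) (hx : x ∈ HF φ t) (hx' : x ∈ N) {k : ℕ} (h2 : x ^ 2 ^ k = 1) :
    d.ty h ⟨x, hx⟩ = 1 := by
  have NG : N ≤ commutator G := hN.ge.trans (commutator_mono le_top le_top)
  have dec : ∀ {x} (hx : x ∈ HF φ t), x ∈ N → ∃ c, ∃ hc : c * t = t * c, c ∈ N ∧
      d.ty h ⟨x, hx⟩ = d.ty h ⟨c, mem_sup_right (mc.2 hc)⟩ := fun hx hx' => by
    obtain ⟨l, c, hc, rfl⟩ := (d.mem_HF h).1 hx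
    exact ⟨c, hc, (mul_mem_cancel_left (hM ⟨l, rfl⟩)).1 hx', by
      rw [d.ty_mul h (mem_sup_left ⟨l, rfl⟩) (mem_sup_right (mc.2 hc)), d.ty_φ h, one_mul]⟩
  have sn : ∀ {x} (hx : x ∈ HF φ t), x ∈ N → (d.ty h ⟨x, hx⟩).2 = 1 := fun hx hx' => by
    obtain ⟨c, hc, k, e⟩ := dec hx hx'
    rw [e, d.ty_snd h hc (NG k)]
  let ρ : HF φ t →* RingAut F := (MonoidHom.noncommCoprod (MonoidHom.id _) (Linear.zmodTwoHom s h.s2.1) fun _ _ =>
    Linear.isCyclic_ringAut.commGroup.mul_comm _ _).comp (d.ty h)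
  have ρe : ∀ x, ρ x = (d.ty h x).1 * Linear.zmodTwoHom s h.s2.1 (d.ty h x).2 := fun _ => rfl
  have ρt : ρ ⟨t, tH⟩ = 1 := by rw [ρe, d.ty_t h, Linear.zmodTwoHom_ofAdd_one, h.s2.1]
  have := Linear.isCyclic_ringAut (F := F)
  have o3 := tf_odd ρ d.t2 tH ρt (fun _ => d.sw h) hN (fun x hx k =>
    let ⟨c, hc, cN, e⟩ := dec hx k; ⟨c, mem_sup_right (mc.2 hc), hc, cN, by rw [ρe, ρe, e]⟩) hx hx' h2
  rw [ρe, sn hx hx', map_one, mul_one] at o3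
  exact Prod.ext o3 (sn hx hx')

/-- `T ≥ U' ⟨t⟩` Sylow in `G`, `T ⊓ N ≤ M`. -/
theorem fin [N.Normal] (hN : ⁅N, N⁆ = N) (hM : φ.range ≤ N) : Syl 2 (φ.comp LS.ju).range N := by
  obtain ⟨T, hT, k⟩ := Syl.exists_ge (p := 2) (M := ⊤) (pgroup_sup (d.syl_M h).pgroup d.pz1
    (zpowers_le.2 (d.t_U h))) le_top
  have hH := d.two_le h hT.pgroup (k (mem_sup_right (mem_zpowers t)))
  have s1 : Syl 2 (T ⊓ N) N := hT.inf le_top (by rw [normalizer_eq_top]; exact le_top)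
  rwa [(d.syl_M h).eq_of_le_pgroup (le_inf (le_sup_left.trans k) ((d.syl_M h).le.trans hM)) (fun x hx => ?_) s1.pgroup]
  obtain ⟨m, hm⟩ := hT.pgroup ⟨x, hx.1⟩
  obtain ⟨l, -, rfl⟩ := d.two_mem h (hH hx.1) (congrArg Subtype.val hm) (d.ty_odd h hN hM _ hx.2 (congrArg Subtype.val hm))
  exact ⟨l, rfl⟩

/-- `y = φ (op e (ω e))`. -/
theorem exy : ∃ y ∈ φ.range, ∃ z, z ≠ 1 ∧ z * z = 1 ∧ y * y = 1 ∧ y * ψ z = ψ z * y ∧ y * t * y = t * ψ z := by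
  obtain ⟨e, e0, he⟩ := h.iso_ex
  obtain ⟨ω, hω⟩ := h.om
  exact ⟨_, ⟨Zv s e ω, rfl⟩, tv _ e 1, h.tv_ne e0 he (map_one _) one_ne_zero, h.tv_sq _ _, by rw [← map_mul, Zv_sq he, map_one],
    (d.Yc (h.tv_fix he 1) ω).symm, hω ▸ d.Yt h he ω⟩

end FD

end Cfsg.Lib.U42
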