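import Cfsg.Agent.Lib.U42.Z2a

/-!
# S3138 (copy of `USt`, `q = 2`, dimension `4`): the parametrization `y v r`, part b: the groups are elementary abelian.  See `docs/U42.md`.  `ℓ = span {e, f}`, `Fix ℓ = Stab e ⊓ Stab f`.
-/

set_option autoImplicit false
set_option linter.unusedSectionVars false

namespace Cfsg.Lib.U42

open Module Subgroup G2S Cfsg.Lib.BG Cfsg.Lib.GW GSt.SLa Cfsg.Lib.Unitary
open scoped commutatorElement Cfsg.Lib.Transfer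

variable {F V : Type*} [Field F] [CharP F 2] [Finite F] [AddCommGroup V] [Module F V] [Finite V] {σ : F →+* F}
  {B : V →ₛₗ[σ] V →ₗ[F] F} {G : Type*} [Group G] [Finite G] {ψ : SUG B →* G} {t k y y' : G} {e f g v w : V} {a b c d d' s₀ β β' ζ ζ' : F}
  {Y : V → Subgroup G} {z : V → G} {I : Submodule F V}

theorem comm_lift.{u} {X : Type u} {ι : Type*} [Group X] (Z : ι → X) (hc : ∀ a b, Z a * Z b = Z b * Z a) :
    ∃ (A : Type u) (_ : CommGroup A) (φ : A →* X) (Z' : ι → A), ∀ a, Z a = φ (Z' a) :=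
  have := isMulCommutative_closure (k := Set.range Z) (by rintro _ ⟨a, rfl⟩ _ ⟨b, rfl⟩; exact hc a b)
  ⟨closure (Set.range Z), { (inferInstance : Group (closure (Set.range Z))) with mul_comm := this.is_comm.comm }, Subgroup.subtype _,
    fun a => ⟨Z a, subset_closure ⟨a, rfl⟩⟩, fun _ => rfl⟩

theorem Ok.K3 (h : Ok B) (hζ : σ ζ = ζ) (β c : F) : σ (β + σ β + ζ * (c * σ c)) = β + σ β + ζ * (c * σ c) := by
  rw [map_add, h.tK, map_mul, hζ, h.nK]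

/-- `x` moves `t` by `u ∈ W I` and centralizes `Fix I`. -/
structure MI (ψ : SUG B →* G) (t : G) (I : Submodule F V) (x : G) (u : SUG B) : Prop where
  mem : u ∈ W B I
  xt : x * t * x⁻¹ = t * ψ u
  c : ∀ w ∈ Fix B I, x * ψ w = ψ w * x

theorem MI.mul {u u' : SUG B} (h : Ok B) (hI : Ti B I) (a : MI ψ t I y u) (a' : MI ψ t I y' u') : MI ψ t I (y * y') (u * u') := by
  refine ⟨mul_mem a.mem a'.mem, ?_, fun w hw => by rw [mul_assoc, a'.c w hw, ← mul_assoc, a.c w hw, mul_assoc]⟩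
  calc _ = y * (y' * t * y'⁻¹) * y⁻¹ := by group
    _ = _ := by rw [a'.xt, ← conj_mul, a.xt, cjf.2 (a.c _ (h.W_le hI a'.mem)), map_mul, mul_assoc]

theorem Ok.pt (h : Ok B) (l : Ln B e f) (a : F) : f + a • e ≠ 0 ∧ f + a • e ∈ Submodule.span F {e, f} ∧ B (f + a • e) e = 0 ∧
    ∀ b : F, B (f + a • e) (f + b • e) = 0 :=
  ⟨fun z => one_ne_zero (l.indep (a := a) (b := 1) (by rw [one_smul, add_comm, z])).2, add_mem l.mr (Submodule.smul_mem _ _ l.ml),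
    by simp [l.ee, h.cm l.ef], fun b => by simp [l.ee, l.ff, l.ef, h.cm l.ef]⟩

theorem Ok.tv4 (h : Ok B) (l : Ln B e f) (hd : σ d = d) (a b : F) : tv B (f + (a + b) • e) d * tv B (f + a • e) d * tv B (f + b • e) d *
    tv B f d = tv B e (d * (a * σ b + σ (a * σ b))) := J_ext fun w => by
  have K : σ (d * (a * σ b + σ (a * σ b))) = d * (a * σ b + σ (a * σ b)) := by rw [map_mul, hd, h.tK]
  have two : (2 : F) = 0 := CharTwo.two_eq_zero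
  rw [h.tv_ap l.ee K]
  simp only [mul_ap, h.tv_ap ((h.pt l _).2.2.2 _) hd, h.tv_ap l.ff hd, map_add, map_smul, LinearMap.map_smulₛₗ,
    LinearMap.add_apply, LinearMap.smul_apply, smul_eq_mul, l.ee, l.ff, l.ef, h.cm l.ef, map_mul, h.ss]
  match_scalars <;> grind

namespace ZQ
variable (p : ZQ ψ t Y) (h : Ok B) (m : Fm ψ t Y z d)
include p h m

omit m in
theorem mi (hI : Ti B I) (hv : v ∈ I) (h0 : v ≠ 0) (a : Pa ψ t Y v y d) : MI ψ t I y (tv B v d) :=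
  ⟨h.tv_W hv d, a.yt, fun w hw => p.cS v h0 (hI hv v hv) y a.mem w (mem_Fix.1 hw v hv)⟩

omit m in
theorem dec (hI : Ti B I) (hI2 : 2 ≤ finrank F I) (hv : v ∈ I) (h0 : v ≠ 0) (hc : σ c = c) (a : MI ψ t I k (tv B v c))
    (h3 : ∀ y ∈ Y v, k * y = y * k) : ∃ y ∈ Y v, ∃ w ∈ W B I, k = y * ψ w := by
  have vv := hI hv v hv
  obtain ⟨y, b⟩ := p.onto v h0 vv c hc
  have a' := (p.mi h hI hv h0 (p.toZP.pa_inv h h0 vv b)).mul h hI a
  obtain ⟨w, hw, r⟩ := p.toZP.cw h hI hI2 (cjf.1 (by simpa [h.tv_sq] using a'.xt)) a'.c hv h0 fun u hu =>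
    (show Commute y⁻¹ u from p.toZP.ab h h0 vv (inv_mem b.mem) hu).mul_left (h3 u hu)
  exact ⟨y, b.mem, w, hw, by rw [← r, mul_inv_cancel_left]⟩

omit m in
theorem ey {x x' : SUG B} (h0 : e ≠ 0) (he : B e e = 0) (hy : y ∈ Y e) (hx : x ∈ Stab B e) (hx' : x' ∈ Stab B e) (k : y * ψ x = ψ x') :
    ∃ c, σ c = c ∧ tv B e c * x = x' := by
  obtain ⟨c, hc, rfl⟩ := p.kt e h0 he y hy (by
    rw [eq_mul_inv_of_mul_eq k, ← map_inv, ← map_mul, p.tψ])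
  exact ⟨c, hc, p.toSt.stab_inj h h0 (mul_mem (h.tv_fix he c) hx) hx' (by rw [map_mul, k])⟩

theorem zc (hI : Ti B I) (hv : v ∈ I) (v0 : v ≠ 0) (hw : w ∈ I) (w0 : w ≠ 0) (hy : y ∈ Y w) : Commute (z v) y :=
  p.comm v w v0 (hI hv v hv) w0 (hI hw w hw) (hI hw v hv) _ (m.pa v v0 (hI hv v hv)).mem _ hy

theorem zl (l : Ln B e f) (a b : F) : z (f + a • e) * z (f + b • e) = z (f + b • e) * z (f + a • e) :=
  p.zc h m (h.ln_ti l).1 (h.pt l a).2.1 (h.pt l a).1 (h.pt l b).2.1 (h.pt l b).1 (m.pa _ (h.pt l b).1 ((h.pt l b).2.2.2 b)).mem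

/-- `κ t κ⁻¹ = t ψ (tv e (d Tr (a σ b)))` (`tv_ln`), `onto`, `cw`, `mem_Wl`. -/
theorem kp_ex (l : Ln B e f) (a b : F) : ∃ β ζ, Kp ψ Y z e f a b β ζ := by
  obtain ⟨hI, hI2⟩ := h.ln_ti l
  have hd := (m.pa f l.ne' l.ff).K
  have q := fun a => m.pa _ (h.pt l a).1 ((h.pt l a).2.2.2 a)
  have m1 := fun a => p.mi h hI (h.pt l a).2.1 (h.pt l a).1 (q a)
  have m2 := fun a => p.mi h hI (h.pt l a).2.1 (h.pt l a).1 (p.toZP.pa_inv h (h.pt l a).1 ((h.pt l a).2.2.2 a) (q a))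
  have k := (((m1 (a + b)).mul h hI (m2 a)).mul h hI (m2 b)).mul h hI (p.mi h hI l.mr l.ne' (m.pa f l.ne' l.ff))
  have K : σ (d * (a * σ b + σ (a * σ b))) = d * (a * σ b + σ (a * σ b)) := by rw [map_mul, hd, h.tK]
  rw [h.tv4 l hd] at k
  have c := fun a y hy => p.zc h m (y := y) hI (h.pt l a).2.1 (h.pt l a).1 l.ml l.ne hy
  obtain ⟨y, hy, w, hw, r⟩ := p.dec h hI hI2.ge l.ml l.ne K k fun y hy =>
    (((c _ y hy).mul_left (c _ y hy).inv_left).mul_left (c _ y hy).inv_left).mul_left (p.zc h m hI l.mr l.ne' l.ml l.ne hy)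
  obtain ⟨α, β, ζ, h1, h2, rfl⟩ := (h.mem_Wl l).1 hw
  refine ⟨β, ζ, h2, y * ψ (tv B e α), mul_mem hy (p.zz e l.ne l.ee α), ?_⟩
  rw [r, mul_assoc, ← map_mul, ← mul_assoc, h.tv_ei (.zero l.ee (by simp [l.ff]) (by simp [l.ef])) h1, zero_add]

/-- `kt`, `Wl_inj`, `inj2`. -/
theorem kp_uniq (l : Ln B e f) (k : Kp ψ Y z e f a b β ζ) (k' : Kp ψ Y z e f a b β' ζ') : β = β' ∧ ζ = ζ' := by
  obtain ⟨h1, y, hy, k⟩ := k
  obtain ⟨h2, y', hy', k'⟩ := k'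
  have mem : ∀ β ζ : F, ei B e (β • f) 0 * tv B f ζ ∈ Stab B e := fun β ζ => mul_mem (Q_le (h.ei_mem_Q ..)) (h.tv_fix (h.cm l.ef) _)
  obtain ⟨c, hc, r⟩ := p.ey h l.ne l.ee (mul_mem (inv_mem hy') hy) (mem β ζ) (mem β' ζ') (by rw [mul_assoc, ← k, k', inv_mul_cancel_left])
  rw [← mul_assoc, h.tv_ei (.zero l.ee (by simp [l.ff]) (by simp [l.ef])) hc, zero_add] at r
  exact (h.Wl_inj l hc h1 (map_zero σ) h2 r).2

theorem kp_comm (l : Ln B e f) (k : Kp ψ Y z e f a b β ζ) : Kp ψ Y z e f b a β ζ := by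
  obtain ⟨h1, y, hy, k⟩ := k
  refine ⟨h1, y, hy, ?_⟩
  rw [← k, add_comm b, mul_assoc (z _) _⁻¹, mul_assoc (z _) _⁻¹ _⁻¹, (show Commute _ _ from p.zl h m l b a).inv_inv]

theorem kp_d3 (l : Ln B e f) (k : Kp ψ Y z e f a b β ζ) (c : F) :
    z (f + (a + b + c) • e) * (z (f + (a + c) • e))⁻¹ * (z (f + (b + c) • e))⁻¹ * z (f + c • e) *
      (z (f + (a + b) • e) * (z (f + a • e))⁻¹ * (z (f + b • e))⁻¹ * z (f + (0 : F) • e))⁻¹ =
      ψ (ei B e ((ζ * σ c) • f) (β * c + σ (β * c) + ζ * (c * σ c)) * tv B f 0) := by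
  obtain ⟨h1, y, hy, k⟩ := k
  obtain ⟨w, w1, w2⟩ := h.ln_w l c
  obtain ⟨γ, q⟩ := h.va_ex l.ee w1
  have e1 : ∀ a : F, ψ (ei B e w γ) * z (f + a • e) * (ψ (ei B e w γ))⁻¹ = z (f + (a + c) • e) := fun a => by
    rw [m.eqv _ _ (h.pt l a).1 ((h.pt l a).2.2.2 a), h.ei_perp q (h.cm (h.pt l a).2.2.1)]
    simp [w2, h.cm w1, add_smul, add_assoc]
  have e2 := e1 0
  rw [zero_add] at e2
  rw [zero_smul, add_zero] at e2 ⊢
  have v0 : ∀ β : F, Va B e (β • f) 0 := fun β => .zero l.ee (by simp [l.ff]) (by simp [l.ef])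
  have c1 := p.cS e l.ne l.ee y hy
  have mem : ∀ β ζ α : F, ei B e (β • f) α * tv B f ζ ∈ Stab B e := fun β ζ α => mul_mem (Q_le (h.ei_mem_Q ..)) (h.tv_fix (h.cm l.ef) _)
  have K : σ (c * σ c * ζ) = c * σ c * ζ := by rw [map_mul, h.nK, h1]
  have e3 : ei B e w γ * (ei B e (β • f) 0 * tv B f ζ) * (ei B e w γ)⁻¹ = ei B e ((ζ * σ c) • f) (β * c + σ (β * c) + ζ * (c * σ c)) *
      tv B f 0 * (ei B e (β • f) 0 * tv B f ζ) := by
    rw [← conj_mul, Z1.ei_cj h q (v0 β), h.tv_conj, h.ei_perp q l.ef, w2, add_comm f, ← one_smul F f, h.tv_ln l.ee l.ff l.ef h1, one_smul,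
      h.ei_tv (v0 β) (h.bfK ..), ← mul_one (ei B e (β • f) _), ← h.tv_zero f,
      h.Wl_mul l (by rw [zero_add, h.bfK]) (map_zero σ) K (by simpa using h1),
      h.Wl_mul l (h.K3 h1 ..) (map_zero σ) (map_zero σ) h1, h.bf_eq]
    simp only [map_smul, w2, smul_eq_mul, map_one, mul_one, one_mul]
    congr 2 <;> [congr 1; skip] <;> ring
  rw [← e1, ← e1, ← e1, ← e2, conj_inv, conj_inv, conj_mul, conj_mul, conj_mul, k, ← mul_assoc, ← c1 _ (Q_le (h.ei_mem_Q ..)),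
    mul_assoc y, mul_assoc y, ← map_inv, ← map_mul, ← map_mul, e3, map_mul, ← mul_assoc, c1 _ (mem ..)]
  group

/-- `u = ei e w γ`, `B w f = c` (`ln_w`).  `ψ u κ(a, b) (ψ u)⁻¹ κ(a, b)⁻¹` is the third difference, symmetric in `a`, `b`, `c`, and equals
`ψ (ei e (σ c ζ f) (Tr (β c) + ζ N c))`. -/
theorem kp_sym (l : Ln B e f) (k : Kp ψ Y z e f a b β ζ) (k' : Kp ψ Y z e f c b β' ζ') :
    ζ * σ c = ζ' * σ a ∧ β * c + σ (β * c) + ζ * (c * σ c) = β' * a + σ (β' * a) + ζ' * (a * σ a) := by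
  have e1 := p.kp_d3 h m l k c
  have e2 := p.kp_d3 h m l k' a
  rw [show c + b + a = a + b + c by ring, add_comm c a, add_comm c b, add_comm b a] at e2
  have mem : ∀ β ζ α : F, ei B e (β • f) α * tv B f ζ ∈ Stab B e := fun β ζ α => mul_mem (Q_le (h.ei_mem_Q ..)) (h.tv_fix (h.cm l.ef) _)
  have := h.Wl_inj l (h.K3 k.1 ..) (map_zero σ) (h.K3 k'.1 ..) (map_zero σ)
    (p.toSt.stab_inj h l.ne (mem ..) (mem ..) (e1.symm.trans (Eq.trans ?_ e2)))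
  · exact ⟨this.2.1, this.1⟩
  obtain ⟨A, _, φ, Z, hZ⟩ := comm_lift _ (p.zl h m l)
  simp only [hZ, ← map_inv, ← map_mul]
  congr 1
  apply Additive.ofMul.injective; simp only [ofMul_mul, ofMul_inv]; abel

/-- Take `c ∉ K a`; `κ(0, b) = 1`. -/
theorem kp_zero (l : Ln B e f) (k : Kp ψ Y z e f a b β ζ) : ζ = 0 := by
  by_cases a0 : a = 0
  · obtain ⟨β', ζ', k'⟩ := p.kp_ex h m l 1 b
    simpa [a0] using (p.kp_sym h m l k k').1
  obtain ⟨ω, hω⟩ := h.om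
  obtain ⟨β', ζ', k'⟩ := p.kp_ex h m l (ω * a) b
  have e1 := (p.kp_sym h m l k k').1
  rw [map_mul, ← mul_assoc, mul_left_inj' (by simpa using a0)] at e1
  have e2 := k'.1
  rw [← e1, map_mul, h.ss, k.1] at e2
  linear_combination e2 - ζ * hω + aa (ζ * σ ω)

theorem kp_ex0 (l : Ln B e f) (a b : F) : ∃ β, Kp ψ Y z e f a b β 0 :=
  let ⟨β, _, k⟩ := p.kp_ex h m l a b; ⟨β, p.kp_zero h m l k ▸ k⟩

theorem kp_tr (l : Ln B e f) (k : Kp ψ Y z e f a b β 0) (k' : Kp ψ Y z e f c b β' 0) : β * c + σ (β * c) = β' * a + σ (β' * a) := by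
  simpa using (p.kp_sym h m l k k').2

/-- `κ(a, a) = (z f)² (z (f + a e))⁻²`, `tv_ln`. -/
theorem kp_diag (hs : σ s₀ = s₀) (q : ∀ v, v ≠ 0 → B v v = 0 → z v * z v = ψ (tv B v s₀)) (l : Ln B e f) (a : F) :
    Kp ψ Y z e f a a (s₀ * σ a) 0 := by
  have K : σ (a * σ a * s₀) = a * σ a * s₀ := by rw [map_mul, h.nK, hs]
  refine ⟨map_zero σ, _, p.zz e l.ne l.ee (a * σ a * s₀), ?_⟩
  rw [aa, zero_smul, add_zero, mul_assoc (z f), ← mul_inv_rev, q _ (h.pt l a).1 ((h.pt l a).2.2.2 a), ← map_inv, h.tv_inv,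
    p.cS f l.ne' l.ff _ (m.pa f l.ne' l.ff).mem _ (h.tv_fix (by simpa using (h.pt l a).2.2.2 0) _), mul_assoc, q f l.ne' l.ff, ← map_mul,
    add_comm f, ← one_smul F f, h.tv_ln l.ee l.ff l.ef hs, one_smul, ← map_mul, h.tv_zero, mul_one (ei ..),
    h.tv_ei (.zero l.ee (by simp [l.ff]) (by simp [l.ef])) K]
  simp [mul_assoc, h.tv_sq, mul_comm s₀]

/-- `Tr (β(a, b) c)` is symmetric, so `K`-trilinear. -/
theorem kp_lin (l : Ln B e f) (hc : σ c = c) (k : Kp ψ Y z e f a b β 0) : Kp ψ Y z e f (c * a) b (c * β) 0 := by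
  obtain ⟨β', k'⟩ := p.kp_ex0 h m l (c * a) b
  obtain rfl : β' = c * β := CharTwo.add_eq_zero.1 (h.tr_nd fun x => by
    obtain ⟨δ, k''⟩ := p.kp_ex0 h m l x b
    have e1 := p.kp_tr h m l k k''
    have e2 := p.kp_tr h m l k' k''
    simp only [map_mul, map_add, hc] at e1 e2 ⊢
    linear_combination e2 + c * e1 + aa (c * (δ * a + σ δ * σ a)))
  exact k'

theorem kp_add (l : Ln B e f) (k : Kp ψ Y z e f a b β 0) (k' : Kp ψ Y z e f c b β' 0) : Kp ψ Y z e f (a + c) b (β + β') 0 := by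
  obtain ⟨ε, k₁⟩ := p.kp_ex0 h m l (a + c) b
  obtain rfl : ε = β + β' := CharTwo.add_eq_zero.1 (h.tr_nd fun x => by
    obtain ⟨δ, k''⟩ := p.kp_ex0 h m l x b
    have e1 := p.kp_tr h m l k k''
    have e2 := p.kp_tr h m l k' k''
    have e3 := p.kp_tr h m l k₁ k''
    simp only [map_mul, map_add] at e1 e2 e3 ⊢
    linear_combination e1 + e2 + e3 + aa (δ * (a + c) + σ δ * (σ a + σ c)))
  exact k₁

/-- `q = 2`, `s₀ = d = 1`: `β(1, 1) = 1`; `x = β(1, ω)` has `Tr x = Tr (β(1, 1) ω) = 1`, `Tr (x ω) = Tr (β(ω, ω)) = 1`, so `x = ω`. -/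
theorem kp_two (hq : ∀ c, σ c = c → c = 0 ∨ c = 1) (hd : d = 1) (q : ∀ v, v ≠ 0 → B v v = 0 → z v * z v = ψ (tv B v 1)) (l : Ln B e f)
    (b : F) : Kp ψ Y z e f 1 b b 0 := by
  have k1 : ∀ a, Kp ψ Y z e f a a (σ a) 0 := fun a => by simpa using p.kp_diag h m (map_one σ) q l a
  have k2 : Kp ψ Y z e f 1 1 1 0 := by simpa using k1 1
  by_cases hb : σ b = b
  · rcases hq b hb with rfl | rfl
    · exact p.kp_comm h m l (by simpa using p.kp_lin h m l (map_zero σ) k2)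
    · exact k2
  obtain ⟨x, k⟩ := p.kp_ex0 h m l 1 b
  have e1 := p.kp_tr h m l (p.kp_comm h m l k) k2
  have e2 := p.kp_tr h m l k (k1 b)
  have sg := (h.two hq).2.2.1
  have two : (2 : F) = 0 := CharTwo.two_eq_zero
  have b3 := (h.two hq).2.1 b (by rintro rfl; exact hb (map_zero σ))
  simp only [sg] at e1 e2 hb b3
  obtain rfl : x = b := by grind
  exact k

omit m in
/-- The dichotomy `ε₁`, `ε₂`. -/
theorem zr : ZR ψ t Y ∨ ∃ z, ZE ψ t Y z := by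
  obtain ⟨s, hs, k⟩ := p.toZP.exists_sq h
  rcases h.q2 s hs with rfl | rfl
  · exact .inl ⟨p, fun v v0 hv y hy => by
      obtain ⟨d, a⟩ := p.par v v0 hv y hy
      rw [k v y d v0 hv a, zero_mul, h.tv_zero, map_one]⟩
  obtain ⟨e, h0, he⟩ := h.iso_ex
  obtain ⟨y, a⟩ := p.onto e h0 he 1 (map_one σ)
  obtain ⟨z, m, -⟩ := p.toZP.fm_ex h h0 he a
  exact .inr ⟨z, p, m, fun v v0 hv => by rw [k v _ 1 v0 hv (m.pa v v0 hv), mul_one]⟩

end ZQ

end Cfsg.Lib.U42
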