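import Cfsg.Agent.Lib.U42.Tr
import Cfsg.Agent.Lib.GLC.Ord2

/-!
# S3138: the Sylow `2`-subgroup of `L₅(5)`.  See `docs/U42.md`.
-/

set_option autoImplicit false

namespace Cfsg.Lib.U42

open Subgroup Cfsg.Lib.BG Cfsg.Lib.H33 Matrix Equiv

instance fact5 : Fact (Nat.Prime 5) := ⟨Nat.prime_five⟩

/-- the monomial group -/
abbrev MW := SemidirectProduct (Fin 5 → (ZMod 5)ˣ) (Perm (Fin 5)) mulAutArrow

/-- monomial matrices -/
def MW.ρ : MW →* Matrix (Fin 5) (Fin 5) (ZMod 5) where
  toFun w := (diagonal fun i => (w.left i : ZMod 5)).submatrix id w.right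
  map_one' := by simp
  map_mul' a b := by
    ext i j
    simp only [submatrix_apply, id, diagonal_apply, mul_apply, SemidirectProduct.mul_left, SemidirectProduct.mul_right, mul_ite, mul_zero,
      Finset.sum_ite_eq', Finset.mem_univ, if_true, Perm.mul_apply, Pi.mul_apply, Units.val_mul, ite_mul, zero_mul]
    split_ifs with h
    · subst h; exact congrArg (fun i => _ * (b.left i : ZMod 5)) (a.right.symm_apply_apply _)
    · rfl

theorem MW.inj (w : MW) (h : MW.ρ w = 1) : w = 1 := by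
  have k : ∀ j, w.right j = j ∧ (w.left j : ZMod 5) = 1 := fun j => by
    have := congrFun (congrFun h j) j
    simp only [MW.ρ, MonoidHom.coe_mk, OneHom.coe_mk, submatrix_apply, id, diagonal_apply, one_apply_eq] at this
    split_ifs at this with e
    exacts [⟨e.symm, this⟩, absurd this zero_ne_one]
  exact SemidirectProduct.ext (funext fun j => Units.ext (k j).2) (Equiv.ext fun j => (k j).1)

instance MW.dec : DecidableEq MW := fun a b => decidable_of_iff (∀ i, a.right i = b.right i ∧ (a.left i : ZMod 5) = b.left i)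
  ⟨fun k => SemidirectProduct.ext (funext fun j => Units.ext (k j).2) (Equiv.ext fun j => (k j).1), fun e _ => e ▸ ⟨rfl, rfl⟩⟩

/-- `2` -/
def u5 : (ZMod 5)ˣ := ⟨2, 3, rfl, rfl⟩

/-- the generators -/
def gs55 : List MW := [⟨![1, u5, u5, u5, u5], 1⟩, ⟨![u5, -1, u5, -1, -1], 1⟩, ⟨![u5, u5, -1, -1, -1], 1⟩, ⟨![u5, u5, u5, u5, 1], 1⟩,
  ⟨-1, swap 0 1⟩, ⟨1, swap 0 2 * swap 1 3⟩, ⟨1, swap 0 1 * swap 2 3⟩, ⟨![-1, 1, 1, 1, -1], 1⟩, ⟨![-1, 1, -1, 1, 1], 1⟩, ⟨![-1, -1, 1, 1, 1], 1⟩,
  ⟨![-1, -1, -1, -1, 1], 1⟩]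

instance decRel {G : Type*} [Group G] [DecidableEq G] : ∀ (gs : List G) (D : Dat), Decidable (Rel gs D)
  | [], [] => isTrue trivial
  | g :: gs, d :: D => @instDecidableAnd _ _ _ (@instDecidableAnd _ _ _ (decRel gs D))
  | [], _ :: _ => isFalse id
  | _ :: _, [] => isFalse id

theorem pg_dec {G : Type*} [Group G] : ∀ {gs : List G} {D : Dat}, Rel gs D →
    (∀ i < gs.length, ∀ x < 2 ^ (gs.length - 1 - i), el gs (2 ^ i) ≠ el (gs.drop (i + 1)) x) → PG gs D (2 ^ gs.length)
  | [], [], _, _ => ⟨trivial, trivial, rfl⟩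
  | g :: gs, d :: D, r, k => by
    have h := pg_dec r.2.2 fun i a x b => by
      have := k (i + 1) (by simpa using a) x (by rwa [List.length_cons, show gs.length + 1 - 1 - (i + 1) = gs.length - 1 - i by omega])
      rwa [pow_succ', el_even] at this
    rw [List.length_cons, pow_succ']
    refine h.cons (fun m => ?_) r.1 r.2.1
    obtain ⟨x, a, e⟩ := h.ex m
    exact k 0 (by simp) x a ((el_odd g gs 0).trans (by rw [el_zero, mul_one]; exact e))

theorem pg55 : PG gs55 DS0 2048 := pg_dec (by decide +kernel) (by decide +kernel)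

theorem pg_SL55 : ∃ gs : List (Matrix.SpecialLinearGroup (Fin 5) (ZMod 5)), PG gs DS0 2048 := by
  have d : ∀ w ∈ gs55, (MW.ρ w).det = 1 := fun w hw => by
    rw [show (MW.ρ w).det = _ from det_permute' _ _, det_diagonal, Fin.prod_univ_five]
    revert w
    decide +kernel
  have h := pg_map pg55 MW.ρ.toHomUnits fun x _ e => MW.inj x (congrArg Units.val e)
  generalize gs55 = l at d h
  refine ⟨l.attach.map fun w => ⟨_, d w.1 w.2⟩, pg_of_map SpecialLinearGroup.toGL ?_ fun x _ e =>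
    SpecialLinearGroup.toGL_injective (e.trans (map_one _).symm)⟩
  convert h
  rw [← List.attach_map_val (l := l) (f := MW.ρ.toHomUnits)]
  exact List.map_map.trans (List.map_congr_left fun w _ => Units.ext rfl)

/-- The centre of `SL₅(5)` is trivial, `|SL₅(5)|₂ = 2048`. -/
theorem syl_L55 {X : Type*} [Group X] {gs : List X} (h : PG gs DS0 2048) : ∃ P : Sylow 2 (Matrix.ProjectiveSpecialLinearGroup (Fin 5) (ZMod 5)),
    Nonempty (gen gs ≃* (P : Subgroup (Matrix.ProjectiveSpecialLinearGroup (Fin 5) (ZMod 5)))) := by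
  obtain ⟨l, k⟩ := pg_SL55
  have c : center (SpecialLinearGroup (Fin 5) (ZMod 5)) = ⊥ := eq_bot_iff.2 fun A hA => by
    obtain ⟨r, a, b⟩ := Matrix.SpecialLinearGroup.mem_center_iff.1 hA
    rw [Fintype.card_fin, ZMod.pow_card] at a
    exact Subtype.ext (by rw [← b, a, map_one]; rfl)
  have k' := pg_map k (QuotientGroup.mk' (center _)) fun x _ e => by rwa [QuotientGroup.mk'_apply, QuotientGroup.eq_one_iff, c] at e
  obtain ⟨e, -⟩ := pg_equiv h k'
  refine ⟨Sylow.ofCard _ (k'.card.trans ?_), ⟨e⟩⟩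
  have := card_eq_card_quotient_mul_card_subgroup (center (SpecialLinearGroup (Fin (4 + 1)) (ZMod 5)))
  rw [GLC.card_SL_eq, Nat.card_zmod, show Nat.card (center _) = 1 by rw [c, card_bot], mul_one] at this
  rw [← this, Nat.factorization_def _ Nat.prime_two, padicValNat_def (by decide), multiplicity_eq_of_dvd_of_not_dvd (k := 11) (by decide) (by decide)]
  rfl

end Cfsg.Lib.U42
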