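import Cfsg.Agent.Lib.U42.SB
import Cfsg.Agent.Lib.USt.SC
import Cfsg.Agent.Lib.USt.TRD

/-!
# S3138 (copy of `USt`, `q = 2`, dimension `4`), split case III: `U₁ × U₂` is Sylow in `N`; the split case does not occur in a simple group.
-/

set_option autoImplicit false
set_option linter.unusedSectionVars false

namespace Cfsg.Lib.U42

open Subgroup G2S Cfsg.Lib.BG Cfsg.Lib.GW GSt.SLa
open GSt (N0 HH)
open USt (UP trd)
open scoped commutatorElement Cfsg.Lib.Transfer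

variable {J U A G : Type*} [Group J] [Finite J] [Group U] [Finite U] [Group A] [Group G] [Finite G] {m : SM J U A}
  {ψ μ ν : J →* G} {t g φ r : G} {P T Γ N : Subgroup G} {α β : MulAut J} {θ η ι : A}

theorem conj_conj {X : Type*} [Group X] (a b x : X) : a * (b * x * b⁻¹) * a⁻¹ = a * b * x * (a * b)⁻¹ := by group

namespace SN
variable (s : SN m ψ t μ ν T Γ N)
include s

/-- `x⁻¹ w` has diagonal type: `dl`. -/
theorem dl' {w x : G} {α' β' : MulAut J} (a : Ac μ ν w α β) (hN : w * t ∈ N) (a' : Ac μ ν x α' β') (hx : x ∈ N)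
    (h : m.Θ α * (m.Θ β)⁻¹ = m.Θ α' * (m.Θ β')⁻¹) : False := by
  refine s.dl (a'.inv.mul a) ?_ (by rw [mul_assoc]; exact mul_mem (inv_mem hx) hN)
  simp only [map_mul, map_inv]
  rw [eq_mul_of_mul_inv_eq h, mul_assoc, inv_mul_cancel_left]

/-- `n = ⁅r, t⁆ = (r t) · t (r t)⁻¹ t ∈ Γ ⊓ N` has type `(c, c⁻¹)`, `c = θ η⁻¹`, and is inverted by `t`.  `trd` with `E = N`, `H = HH`, `H₀ = N0`,
`K = {x ∈ N0 ⊓ N of type (d, d⁻¹), d ∈ D}`, `D = {θ' η'⁻¹ | (θ', η') a type of N0 ⊓ N}`.  `n ∉ K` by `dl'` (`w = r t`).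
`n ^ (2 k) t = n ^ k t n ^ (-k)`, `n t = r t r⁻¹`, `sw`. -/
theorem tr2 (hr : r ∈ Γ) (rN : r ∈ N) (a : Ac μ ν (r * t) (m.fl θ) (m.fl η)) :
    ∃ g ∈ N, ∃ l : ℕ, g⁻¹ * ⁅r, t⁆ ^ l * g ∈ HH μ ν t ∧ g⁻¹ * ⁅r, t⁆ ^ l * g ∉ N0 μ ν := by
  have := s.nN
  have q := s.sq
  have tH := s.T_HH s.tT
  have rH := s.T_HH (s.Γ_T hr)
  let D : Subgroup A :=
    { carrier := {d | ∃ x ∈ N, ∃ α β, Ac μ ν x α β ∧ d = m.Θ α * (m.Θ β)⁻¹}
      one_mem' := ⟨1, one_mem _, 1, 1, GSt.Ac.one, by simp⟩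
      mul_mem' := by
        rintro _ _ ⟨x, hx, α, β, a, rfl⟩ ⟨x', hx', α', β', a', rfl⟩
        refine ⟨_, mul_mem hx hx', _, _, a.mul a', ?_⟩
        rw [map_mul, map_mul, mul_inv_rev, m.comm (m.Θ β')⁻¹, mul_assoc, mul_assoc, ← mul_assoc (m.Θ β)⁻¹,
          ← mul_assoc (m.Θ α'), m.comm (m.Θ β)⁻¹]
      inv_mem' := by
        rintro _ ⟨x, hx, α, β, a, rfl⟩
        exact ⟨_, inv_mem hx, _, _, a.inv, by rw [map_inv, map_inv, mul_inv_rev, m.comm]⟩ }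
  let K : Subgroup G :=
    { carrier := {x | ∃ α β, Ac μ ν x α β ∧ m.Θ α ∈ D}
      one_mem' := ⟨1, 1, GSt.Ac.one, by rw [map_one]; exact one_mem _⟩
      mul_mem' := by
        rintro _ _ ⟨α, β, a, h⟩ ⟨α', β', a', h'⟩
        exact ⟨_, _, a.mul a', by rw [map_mul]; exact mul_mem h h'⟩
      inv_mem' := by
        rintro _ ⟨α, β, a, h⟩
        exact ⟨_, _, a.inv, by rw [map_inv]; exact inv_mem h⟩ }
  have k0 : ∀ x ∈ N, x ∈ N0 μ ν → ∀ y ∈ HH μ ν t, ⁅x, y⁆ ∈ K := fun x hx ⟨α, β, a⟩ y hy => by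
    rcases q.mem_HH.1 hy with ⟨α', β', a'⟩ | ⟨α', β', a'⟩
    · exact ⟨_, _, ((a.mul a').mul a.inv).mul a'.inv, by rw [map_mul, m.Θ_cj, map_inv, mul_inv_cancel]; exact one_mem _⟩
    · have := a.mul ((a'.mul (q.ac_t a.inv)).mul a'.inv)
      rw [show x * (y * t * (t * x⁻¹ * t) * (y * t)⁻¹) = ⁅x, y⁆ by simp [commutatorElement_def, mul_assoc, q.tt]] at this
      exact ⟨_, _, this, x, hx, α, β, a, by rw [map_mul, m.Θ_cj, map_inv]⟩
  have an := a.mul (q.ac_t a.inv)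
  rw [show r * t * (t * (r * t)⁻¹ * t) = ⁅r, t⁆ by simp [commutatorElement_def, mul_assoc, q.tt, s.it]] at an
  have nH : ⁅r, t⁆ ∈ HH μ ν t := Au.cm_mem rH tH
  have nN : ⁅r, t⁆ ∈ N := by simpa only [commutatorElement_def, mul_assoc] using mul_mem rN (s.cjN (inv_mem rN) t)
  refine trd (K := K) s.t2 (le_normalizer_of_normal (mem_top t)) tH nN nH
    (by simp [commutatorElement_def, mul_assoc, q.tt, s.it, s.t2]) (commutator_le.2 fun x hx y hy => ?_) (s.pN.ge nN)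
    ?_ (fun k g _ h => ?_)
    fun x hx ⟨α, β, a'⟩ => ⟨_, _, (q.ac_t a').mul a'.inv, _, inv_mem hx.2, _, _, a'.inv, by
      rw [map_mul, map_inv, map_inv, inv_inv, m.comm]⟩
  · by_cases c : x ∈ N0 μ ν
    · exact k0 x hx.2 c y hy.1
    by_cases c' : y ∈ N0 μ ν
    · exact commutatorElement_inv y x ▸ inv_mem (k0 y hy.2 c' x hx.1)
    have := k0 _ (mul_mem hx.2 (inv_mem hy.2)) (q.mul_sw hx.1 (inv_mem hy.1) c (mt inv_mem_iff.1 c')) y hy.1
    rwa [show ⁅x * y⁻¹, y⁆ = ⁅x, y⁆ by simp [commutatorElement_def, mul_assoc]] at this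
  · rintro ⟨α, β, a', x, hx, α', β', a'', e⟩
    refine s.dl' a (by rwa [mul_assoc, s.t2, mul_one]) a'' hx ?_
    rw [← e, ← (q.uniq m.toBM an a').1, map_mul, map_inv]
  · have e : ⁅r, t⁆ = (t * (r * t * r⁻¹))⁻¹ := by simp [commutatorElement_def, mul_assoc, s.it]
    have k₁ := fun j : ℤ => Inv.zpow_conj_left s.t2 (cj2 s.t2 r) j
    have k' := fun j : ℤ => Inv.zpow_conj_left (cj2 s.t2 r) s.t2 j
    obtain ⟨c, hc, e'⟩ : ∃ c ∈ HH μ ν t, ⁅r, t⁆ ^ k * t = c * t * c⁻¹ := by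
      rcases Int.even_or_odd' k with ⟨j, rfl | rfl⟩
      · refine ⟨⁅r, t⁆ ^ j, zpow_mem nH j, ?_⟩
        rw [e, inv_zpow', inv_zpow', k₁, mul_neg]
      · refine ⟨⁅r, t⁆ ^ j * r, mul_mem (zpow_mem nH j) rH, ?_⟩
        rw [← conj_conj, commutatorElement_def, s.it, k', zpow_add_one, mul_assoc, mul_assoc _ t t, s.t2, mul_one]
    have := s.sw (g⁻¹ * c) (by simpa only [e', mul_inv_rev, inv_inv, mul_assoc] using h)
    rwa [mul_mem_cancel_right hc, inv_mem_iff] at this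

/-- `n` has order `2 ^ (i + 1) = orderOf c ∣ 2`, so `n = φ`: `alpha`. -/
theorem star (p : Ph m μ ν Γ N φ ι) {n y : G} {c : A} (hn : n ∈ Γ) (nN : n ∈ N) (a : Ac μ ν n (m.fl c) (m.fl c⁻¹))
    (nt : t * n * t = n⁻¹) (hy : y ∈ T) (y0 : y ∉ N0 μ ν) (h : IsConj n y) : False := by
  have q := s.sq
  have := m.fin
  have := m.cyc
  obtain ⟨g, rfl⟩ := isConj_iff.1 h
  obtain ⟨k₀, hk₀⟩ := s.pΓ ⟨n, hn⟩
  replace hk₀ : n ^ 2 ^ k₀ = 1 := congrArg Subtype.val hk₀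
  have ak : ∀ k, Ac μ ν (n ^ k) (m.fl (c ^ k)) (m.fl (c ^ k)⁻¹) := fun k => by simpa only [← map_pow, inv_pow] using a.pow k
  have o : ∀ k, n ^ k = 1 ↔ c ^ k = 1 := fun k => ⟨fun e => m.fl_inj ((q.uniq m.toBM (ak k) (e ▸ GSt.Ac.one)).1.trans
    (map_one _).symm), fun e => q.cm_odd m.toBM (n := k₀) (by simpa only [e, inv_one, map_one] using ak k)
      (by rw [← pow_mul, mul_comm, pow_mul, hk₀, one_pow])⟩
  obtain ⟨i, -, hi⟩ := (Nat.dvd_prime_pow Nat.prime_two).1 (orderOf_dvd_of_pow_eq_one ((o _).1 hk₀))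
  obtain ⟨i, rfl⟩ := Nat.exists_eq_succ_of_ne_zero (show i ≠ 0 from fun e => y0 (by
    rw [← pow_one n, (o 1).2 (by rw [pow_one, ← orderOf_eq_one_iff, hi, e]; rfl)]; simp))
  rw [Nat.succ_eq_add_one] at hi
  have d1 := hi ▸ pow_orderOf_eq_one c
  have d2 : c ^ 2 ^ i * c ^ 2 ^ i = 1 := by rw [← pow_add, ← two_mul, ← pow_succ', d1]
  have d3 : c ^ 2 ^ i ≠ 1 := pow_ne_one_of_lt_orderOf (by positivity) (hi ▸ Nat.pow_lt_pow_right one_lt_two (by omega))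
  have w := s.eq_ph p (pow_mem hn (2 ^ i)) (ak _) d2 (by rw [← mul_inv_rev, d2, inv_one]) d3 (by rwa [Ne, inv_eq_one])
  obtain ⟨i, rfl⟩ := Nat.exists_eq_succ_of_ne_zero (show i ≠ 0 from fun e => y0 (by
    rw [e, pow_zero, pow_one] at w
    rw [w] at hy ⊢
    exact s.alpha p (s.T_HH hy)))
  have := orderOf_dvd_natCard c
  rw [m.cA, hi, pow_succ, pow_succ] at this
  have := Nat.le_of_dvd two_pos this
  have : 0 < 2 ^ i := by positivity
  omega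

/-- `exists_ph`, `case1`: a swap `u r ∈ T ⊓ N`, `r ∈ Γ ⊓ N`; `tr2`; conjugate the swap into `T` by `HH`; `star`. -/
theorem fin : Syl 2 (SS m μ ν) N := by
  have := s.nN
  have q := s.sq
  have hS := s.syl.inf le_top (le_normalizer_of_normal (H := N))
  by_cases c : T ⊓ N ≤ SS m μ ν
  · exact le_antisymm c (le_inf s.SS_T s.SS_N) ▸ hS
  obtain ⟨φ, ι, p⟩ := s.exists_ph c
  exfalso
  obtain ⟨x, hx, x0⟩ := SetLike.not_le_iff_exists.1 (s.case1 p)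
  obtain ⟨u, hu, r, hr, rfl⟩ := (s.mem x).1 hx.1
  have rN := (mul_mem_cancel_left (s.SS_N hu)).1 hx.2
  obtain ⟨θ, η, a⟩ := s.std1 hr fun c => x0 (mul_mem (s.SS_N0 hu) c)
  obtain ⟨g, -, l, h1, h2⟩ := s.tr2 hr rN a
  have an := a.mul (q.ac_t a.inv)
  rw [show r * t * (t * (r * t)⁻¹ * t) = ⁅r, t⁆ by simp [commutatorElement_def, mul_assoc, q.tt, s.it]] at an
  have nΓ : ⁅r, t⁆ ^ l ∈ Γ := pow_mem (Au.cm_mem hr s.tΓ) l
  obtain ⟨k, hk⟩ := s.pΓ ⟨_, nΓ⟩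
  obtain ⟨h, hh, e⟩ := Syl.exists_conj_le (s.syl.of_le s.T_HH le_top) (Inv.isPGroup_zpowers (x := g⁻¹ * ⁅r, t⁆ ^ l * g) (k := k) (by
    nth_rw 2 [← inv_inv g]
    rw [conj_pow, show (⁅r, t⁆ ^ l) ^ 2 ^ k = 1 from congrArg Subtype.val hk]; simp)) (zpowers_le.2 h1)
  refine s.star p (c := (θ * η⁻¹) ^ l) nΓ (pow_mem (by
    simpa only [commutatorElement_def, mul_assoc] using mul_mem rN (s.cjN (inv_mem rN) t)) l) ?_ ?_
    (Transfer.conj_le_iff.1 e _ (mem_zpowers _)) (fun c => h2 (by simpa [mul_assoc] using conj_mem_of_norm' (s.HH_N0 hh) c))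
    (isConj_iff.2 ⟨h * g⁻¹, by group⟩)
  · simpa only [← inv_pow, mul_inv_rev, inv_inv, map_pow, map_mul, map_inv] using an.pow l
  · nth_rw 3 [← s.it]
    rw [← conj_pow, ← inv_pow]
    congr 1
    simp [commutatorElement_def, mul_assoc, q.tt, s.it, s.t2]
end SN

theorem SM.up' (m : SM J U A) : UP U := 
  ⟨m.pU, fun h => m.z1 (mem_bot.1 ((commutator_le (H₃ := ⊥)).2 (fun x _ y _ => commutatorElement_eq_one_iff_mul_comm.2 (h x y))
    (m.ZU m.zZ))), m.ZU, m.cab, m.CP⟩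

/-- `SQ.sp`, `exists_sy`, `SN.fin`, `PD.false` in `N` (compare the end of `GSt.core`). -/
theorem split_false (m : SM J U A) (s : St ψ t) (bd : ∀ P ≤ 𝐂[t], IsPGroup 2 P → Nat.card P ≤ 256) (d : SD ψ t μ ν (m.j m.z)) [N.Normal] [IsSimpleGroup N] (hN : μ.range ≤ N) :
    False := by
  have q : SQ ψ t μ ν := ⟨s, d.toSD0, bd⟩
  have sp := q.sp m d.can
  obtain ⟨δ, T, Γ, sy⟩ := sp.exists_sy m
  have a2 : ν.range ≤ N := by
    rintro _ ⟨x, rfl⟩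
    rw [← d.tμ]
    simpa [s.it] using ‹N.Normal›.conj_mem _ (hN ⟨x, rfl⟩) t
  have hc : ⁅N, N⁆ = N := by
    rcases (inferInstance : (commutator N).Normal).eq_bot_or_eq_top with e | e
    · refine absurd (fun x y => mem_center_iff.1 (m.center_of fun w => d.kerμ _ ?_) x) m.not_comm
      have : ⁅(⟨_, hN ⟨y, rfl⟩⟩ : N), (⟨_, hN ⟨w, rfl⟩⟩ : N)⁆ ∈ commutator N := commutator_mem_commutator trivial trivial
      rw [e, mem_bot, Subtype.ext_iff] at this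
      rw [map_commutatorElement]
      exact this
    · rw [← map_subtype_commutator, e, ← MonoidHom.range_eq_map, range_subtype]
  have b1 : ∀ x, μ.comp δ.toMonoidHom x ∈ N := fun x => hN ⟨_, rfl⟩
  have b2 : ∀ x, ν.comp δ.toMonoidHom x ∈ N := fun x => a2 ⟨_, rfl⟩
  have sn := SN.mk (sp.comp δ) sy ‹_› hc (by rintro _ ⟨x, rfl⟩; exact b1 x) (by rintro _ ⟨x, rfl⟩; exact b2 x)
  have hs := sn.fin
  rw [← sn.sq.i_range] at hs
  have pf : ∀ χ : J →* N, ⁅χ.range, χ.range⁆ = χ.range := fun χ => by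
    rw [MonoidHom.range_eq_map, ← map_commutator, ← _root_.commutator_def, m.perf]
  refine USt.PD.false (i := (sn.sq.i m).codRestrict N fun x => hs.le ⟨x, rfl⟩) (M₁ := (MonoidHom.codRestrict _ N b1).range)
    (M₂ := (MonoidHom.codRestrict _ N b2).range) m.up' ⟨⟨fun a b e => sn.sq.i_inj m (congrArg Subtype.val e),
      (Hall.map_iff N.subtype_injective).1 ?_⟩, pf _, pf _, fun a => ⟨m.j a, Subtype.ext (by simp [SQ.i_apply])⟩,
      fun a => ⟨m.j a, Subtype.ext (by simp [SQ.i_apply])⟩, ?_⟩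
  · rw [← MonoidHom.range_eq_map, range_subtype, MonoidHom.map_range]
    exact hs
  · rintro _ ⟨x, rfl⟩ _ ⟨y, rfl⟩
    exact Subtype.ext (d.comm _ _)

end Cfsg.Lib.U42
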