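import Cfsg.Agent.Lib.U42.MS
import Cfsg.Agent.Lib.LS.Cls
import Cfsg.Agent.Lib.GLC.Zsig
import Cfsg.Agent.Lib.L4S.Id

/-!
# S3138 (copy of `USt`, `q = 2`, dimension `4`): `SU ≤ SL`.  See `docs/U42.md`.  `m = n + 3`, `k = m / 2`.
-/

set_option autoImplicit false

namespace Cfsg.Lib.U42

open Module Matrix Subgroup G2S Cfsg.Lib.BG Cfsg.Lib.GW GSt.SLa Cfsg.Lib.Unitary
open scoped commutatorElement Cfsg.Lib.Transfer

variable {F : Type*} [Field F] [CharP F 2] [Finite F] {n q : ℕ} {s : RingAut F} {i j : LS.I n} {e u v w : VV n F} {c γ : F}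
  {g l : LS.J n F} {β : MulAut (LS.J n F)}

omit [CharP F 2] [Finite F] in
theorem mul_mv (g g' : LS.J n F) (v : VV n F) : (g * g').1 *ᵥ v = g.1 *ᵥ (g'.1 *ᵥ v) := (mulVec_mulVec ..).symm

omit [CharP F 2] [Finite F] in
theorem op_junk (h : BD s n v u ≠ 0) : op s u v = 1 := dif_neg h

omit [CharP F 2] [Finite F] in
theorem op_add_right (h1 : BD s n u e = 0) (h2 : BD s n v e = 0) : op s e (u + v) = op s e u * op s e v := SL_ext fun x => by
  rw [mul_mv, op_mulVec h1, op_mulVec h2, op_mulVec (by simp [h1, h2])]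
  simp only [map_add, map_smul, LinearMap.add_apply, h1, smul_zero]
  module

omit [CharP F 2] [Finite F] in
theorem op_add_left (h1 : BD s n e u = 0) (h2 : BD s n e v = 0) : op s (u + v) e = op s u e * op s v e := SL_ext fun x => by
  rw [mul_mv, op_mulVec h1, op_mulVec h2, op_mulVec (by simp [h1, h2])]
  simp only [map_add, map_smul, h2, smul_zero]
  module

omit [CharP F 2] [Finite F] in
theorem op_conj (x : SUG (BD s n)) (u v : VV n F) : io s n x * op s u v * (io s n x)⁻¹ = op s (x.1 u) (x.1 v) := by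
  by_cases k : BD s n v u = 0
  · exact SL_ext fun w => by
      rw [mul_mv, mul_mv, ← map_inv, io_mulVec, io_mulVec, op_mulVec k, op_mulVec (by simpa using k), map_add, map_smul, inv_ap, iso_l]
  · rw [op_junk k, op_junk (by simpa using k), mul_one, mul_inv_cancel]

/-- `L4S.mult_of_splits`, `Chev.splits_SL`. -/
theorem mult_SL (hn : 1 ≤ n) (h2 : Nat.card F ≠ 2) : HasCyclicSchurMultiplier (LS.J n F) 1 :=
  L4S.mult_of_splits (Chev.splits_SL (n := n + 2) (by omega) (fun _ => by omega) fun k => absurd k h2)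

/-- The block group. -/
abbrev BB (n : ℕ) (F : Type*) [Field F] := LS.Bl F {i : LS.I n | i.1 < (n + 3) / 2} {j | j.rev.1 < (n + 3) / 2}

theorem bl_disj : Disjoint {i : LS.I n | i.1 < (n + 3) / 2} {j | j.rev.1 < (n + 3) / 2} :=
  Set.disjoint_left.2 fun i (a : i.1 < _) (b : i.rev.1 < _) => by rw [Fin.val_rev] at b; omega

omit [Finite F] in
theorem bl_ex (M : Matrix (Fin ((n + 3) / 2)) (Fin ((n + 3) / 2)) F) : ∃ g : LS.J n F, ∀ i j,
    (g.1 - 1) i j = if k : i.1 < (n + 3) / 2 ∧ j.rev.1 < (n + 3) / 2 then M ⟨i, k.1⟩ ⟨j.rev, k.2⟩ else 0 :=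
  ⟨⟨1 + of fun i j : LS.I n => if k : i.1 < (n + 3) / 2 ∧ j.rev.1 < (n + 3) / 2 then M ⟨i, k.1⟩ ⟨j.rev, k.2⟩ else 0, LS.H8.pow_one2 (k := 1) (by
    rw [pow_one, sq, ← det_mul, LS.H8.sup_sq bl_disj fun i j k => by rw [add_sub_cancel_left]; exact dif_neg k, det_one])⟩,
    fun i j => by rw [add_sub_cancel_left]; rfl⟩

theorem bl_card {T : Type*} {E : Subgroup (LS.J n F)} {f : T → Matrix (Fin ((n + 3) / 2)) (Fin ((n + 3) / 2)) F} (hf : Function.Injective f)
    (δ : MulAut (LS.J n F)) (k : ∀ x (g : LS.J n F), (∀ i j, (g.1 - 1) i j =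
      if k : i.1 < (n + 3) / 2 ∧ j.rev.1 < (n + 3) / 2 then f x ⟨i, k.1⟩ ⟨j.rev, k.2⟩ else 0) → g ∈ E) :
    Nat.card T ≤ Nat.card (E.comap δ.toMonoidHom) := by
  choose b hb using bl_ex (n := n) (F := F)
  refine Nat.card_le_card_of_injective (fun x => ⟨δ⁻¹ (b (f x)), by simpa using k x _ (hb _)⟩) fun x y e => hf (Matrix.ext fun i j => ?_)
  have e' : b (f x) = b (f y) := δ⁻¹.injective (congrArg Subtype.val e)
  have a := hb (f x) ⟨i, by omega⟩ (Fin.rev ⟨j, by omega⟩)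
  rw [e', hb] at a
  simpa using a.symm

/-- `LS.icl`. -/
theorem rkA (h : l * l = 1) : ∃ E : Subgroup (LS.J n F), El E ∧ l ∈ E ∧ Nat.card F ^ ((n + 3) / 2) ^ 2 ≤ Nat.card E := by
  obtain ⟨r, g, e⟩ := LS.icl h
  refine ⟨(BB n F).comap (MulAut.conj g).toMonoidHom, fun x hx => (MulAut.conj g).injective (by
    rw [map_mul, map_one]; exact LS.Bl_sq bl_disj hx), ?_, le_of_eq_of_le ?_ (bl_card Function.injective_id _
      fun x g k => (LS.mem_Bl bl_disj).2 fun i j c => (k i j).trans (dif_neg c))⟩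
  · change g * l * g⁻¹ ∈ BB n F
    rw [e, LS.mem_Bl bl_disj]
    exact fun i j c => (LS.H8.uk_sub ..).trans (if_neg fun d => c ⟨show i.1 < _ by omega, show j.rev.1 < _ by rw [d.1, Fin.rev_rev]; omega⟩)
  · simp [Matrix, Nat.card_fun, ← pow_mul, sq]

/-- `LS.cls`; the symmetric blocks. -/
theorem rkG (h : β * β = 1) (k : LS.Θ β = (1, LS.g1)) : ∃ E : Subgroup (LS.J n F), El E ∧ (∀ x ∈ E, β x = x) ∧
    Nat.card F ^ ((n + 3) / 2 * ((n + 3) / 2 + 1) / 2) ≤ Nat.card E := by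
  obtain ⟨δ, w, -, hw, e⟩ := LS.cls h
  rw [k] at hw e
  have hw' : w ∈ BB n F := by
    rcases hw with rfl | c | ⟨-, -, rfl⟩
    exacts [one_mem _, absurd (congrArg Prod.snd c.1) LS.g1_ne, LS.xr_Bl (show 0 < (n + 3) / 2 by omega)
      (show (Fin.rev ⊤ : LS.I n).1 < (n + 3) / 2 by rw [Fin.rev_top]; exact (by omega : 0 < (n + 3) / 2)) _]
  obtain ⟨γ, hγ⟩ : ∃ γ, γ = δ * β * δ⁻¹ := ⟨_, rfl⟩
  refine ⟨(BB n F ⊓ γ.toMonoidHom.eqLocus (MonoidHom.id _)).comap δ.toMonoidHom, fun x hx => δ.injective (by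
    rw [map_mul, map_one]; exact LS.Bl_sq bl_disj (mem_inf.1 (mem_comap.1 hx)).1), fun x hx => δ.injective ?_,
    (card_symm F _).ge.trans (bl_card Subtype.val_injective _ fun x g k => ?_)⟩
  · have : γ (δ x) = δ x := (mem_inf.1 (mem_comap.1 hx)).2
    simpa [hγ] using this
  have m := (LS.mem_Bl bl_disj).2 fun i j c => (k i j).trans (dif_neg c)
  refine mem_inf.2 ⟨m, show γ g = g from ?_⟩
  rw [hγ, e, MulAut.mul_apply, LS.sa_gr, map_one, one_mul, show LS.gr g = g from ?_, MulAut.conj_apply, LS.Bl_comm bl_disj hw' m, mul_inv_cancel_right]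
  refine LS.J_ext (Matrix.ext fun i j => ?_)
  have pc : ∀ (ρ : Equiv.Perm (LS.I n)) (g : LS.J n F) r s, (LS.pm ρ * g * (LS.pm ρ)⁻¹).1 (ρ r) (ρ s) = g.1 r s := fun ρ g r s => by
    rw [← map_inv, LS.mul_coe, LS.mul_coe]
    simp only [mul_apply, LS.pm_coe]
    simp
  have : (LS.gr g).1 i j = g.1 j.rev i.rev := by
    have := pc Fin.revPerm (Linear.graphSL g) i.rev j.rev
    rwa [Linear.graphSL_coe, inv_eq_of_mul_eq_one_left (LS.Bl_sq bl_disj m), Fin.revPerm_apply, Fin.revPerm_apply, Fin.rev_rev, Fin.rev_rev] at this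
  rw [this, ← sub_left_inj (a := (1 : Matrix _ _ F) i j), ← Matrix.sub_apply, k, show (1 : Matrix _ _ F) i j = (1 : Matrix _ _ F) j.rev i.rev by
    simp [one_apply, eq_comm], ← Matrix.sub_apply, k]
  simp only [Fin.rev_rev, and_comm, x.2 ⟨i, _⟩]

namespace Ok
variable (h : Ok (BD s n))
include h

omit [CharP F 2] [Finite F] in
theorem s2 : s * s = 1 ∧ s ≠ 1 :=
  ⟨RingEquiv.ext h.ss, fun e => h.ne_id (by rw [e]; rfl)⟩

omit [CharP F 2] [Finite F] in
theorem xr_op (hij : i ≠ j) (c : F) : LS.xr i j c = op s (ε F i) (s c • ε F j.rev) ∧ LS.xr i j c = op s (c • ε F i) (ε F j.rev) := by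
  have k : BD s n (ε F j.rev) (ε F i) = 0 := by simp [ε_apply, hij.symm]
  have e : ∀ x, (LS.xr i j c).1 *ᵥ x = x + (c * x j) • ε F i := fun x => by
    rw [LS.xr_coe hij, add_mulVec, one_mulVec, single_mulVec]
    ext a; by_cases q : a = i <;> simp [ε_apply, q]
  have ss : s (s c) = c := h.ss c
  exact ⟨SL_ext fun x => by rw [e, op_mulVec (by simp [k])]; simp [ss], SL_ext fun x => by
    rw [e, op_mulVec (by simp [k])]; simp [smul_smul, mul_comm]⟩

omit [Finite F] in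
/-- The `g` with this property form a subgroup containing the `xr i j c` (`LS.gen`). -/
theorem BD_τ (g : LS.J n F) (u v : VV n F) : BD s n ((τ s n g).1 *ᵥ u) (g.1 *ᵥ v) = BD s n u v := by
  let N : Subgroup (LS.J n F) :=
    { carrier := {g | ∀ u v, BD s n ((τ s n g).1 *ᵥ u) (g.1 *ᵥ v) = BD s n u v}
      one_mem' := fun u v => by simp
      mul_mem' := fun {a b} ha hb u v => by rw [map_mul, mul_mv, mul_mv, ha, hb]
      inv_mem' := fun {a} ha u v => by rw [← ha, ← mul_mv, ← mul_mv, ← map_mul]; simp }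
  refine (LS.gen (N := N) fun i j c u v => ?_).ge (mem_top g) u v
  by_cases ij : i = j
  · simp [ij]
  have k : BD s n (ε F j.rev) (ε F i) = 0 := by simp [ε_apply, Ne.symm ij]
  have ss : s (s c) = c := h.ss c
  rw [τ_xr, (h.xr_op ij c).2, (h.xr_op (Fin.rev_injective.ne (Ne.symm ij)) _).2, Fin.rev_rev, op_mulVec (by rw [map_smul, h.cm k, smul_zero]),
    op_mulVec (by rw [map_smul, k, smul_zero])]
  simp only [map_add, map_smul, LinearMap.add_apply, LinearMap.map_smulₛₗ, LinearMap.smul_apply, k, h.symm, smul_eq_mul, RingHom.coe_coe, ss]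
  linear_combination aa (c * BD s n (ε F j.rev) v * BD s n u (ε F i))

omit [Finite F] in
theorem τ_τ (g : LS.J n F) : τ s n (τ s n g) = g := by
  rw [τ, ← MulAut.mul_apply, ← map_mul, Prod.mk_mul_mk, h.s2.1, show LS.g1 * LS.g1 = 1 by decide]; exact DFunLike.congr_fun (map_one LS.sa) g

omit [Finite F] in
theorem τ_eq {g' : LS.J n F} (k : ∀ u v, BD s n (g'.1 *ᵥ u) (g.1 *ᵥ v) = BD s n u v) : τ s n g = g' := SL_ext fun u =>
  sub_eq_zero.1 (h.nondeg _ fun v => by
    rw [show v = g.1 *ᵥ ((g⁻¹).1 *ᵥ v) by rw [← mul_mv]; simp, map_sub, LinearMap.sub_apply, k, h.BD_τ, sub_self])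

omit [Finite F] in
theorem fix_τ : τ s n g = g ↔ g ∈ (io s n).range :=
  ⟨fun e => mem_io.2 fun u v => by simpa only [e] using h.BD_τ g u v, fun e => h.τ_eq (mem_io.1 e)⟩

omit [Finite F] in
theorem τ_op (k : BD s n v u = 0) : τ s n (op s u v) = op s v u := h.τ_eq fun x y => by
  rw [op_mulVec k, op_mulVec (h.cm k)]
  simp only [map_add, map_smul, LinearMap.add_apply, LinearMap.map_smulₛₗ, LinearMap.smul_apply, k, h.symm, smul_eq_mul]
  linear_combination aa (BD s n v y * BD s n x u)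

theorem io_ei (p : Va (BD s n) e w γ) : io s n (ei (BD s n) e w γ) = op s w e * op s e w * op s e (s γ • e) := SL_ext fun x => by
  have ss : s (s γ) = γ := h.ss γ
  rw [io_mulVec, h.ei_ap p, mul_mv, mul_mv, op_mulVec p.ew, op_mulVec (h.cm p.ew), op_mulVec (by simp [p.ee])]
  simp only [map_add, map_smul, LinearMap.map_smulₛₗ, LinearMap.smul_apply, p.ee, h.cm p.ew, smul_eq_mul, RingHom.coe_coe, ss]
  module

/-- `op e u = op (e + u) (ω (e + u)) · op e (ω e) · op u (ω u) · io (ei e (σ ω u) 0)` for isotropic `u ⊥ e`, `io (tv v c) = op v (c v)` (`gen_tv`);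
`ind1`, `op_add_right`; `τ`-symmetric formula for `op u e`; `xr_op`, `LS.gen`. -/
theorem genY {N : Subgroup (LS.J n F)} (k : ∀ v (r : F), BD s n v v = 0 → op s v (r • v) ∈ N) : N = ⊤ := by
  have a : ∀ x, io s n x ∈ N := fun x => (h.gen_tv (N := N.comap (io s n)) fun f c hf hc => by
    rw [mem_comap, tv, h.io_ei (.tv hf hc)]
    have : ∀ u v : VV n F, u = 0 ∨ v = 0 → op s u v = 1 := by
      rintro u v (rfl | rfl) <;> exact SL_ext fun x => by rw [op_mulVec (by simp)]; simp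
    rw [this _ _ (.inl rfl), this _ _ (.inr rfl), one_mul, one_mul]; exact k _ _ hf).ge (mem_top x)
  obtain ⟨ω, hω⟩ := h.om
  have b : ∀ e u, BD s n e e = 0 → BD s n u u = 0 → BD s n e u = 0 → op s e u ∈ N := fun e u he hu eu => by
    have ue := h.cm eu
    have p : Va (BD s n) e (s ω • u) 0 := .zero he (by simp [hu]) (by simp [eu])
    have ss : s (s ω) = ω := h.ss ω
    have q : BD s n (e + u) (e + u) = 0 := by simp [he, hu, eu, ue]
    convert mul_mem (mul_mem (mul_mem (k _ ω q) (k _ ω he)) (k _ ω hu)) (a (ei _ e (s ω • u) 0)) using 1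
    refine SL_ext fun x => ?_
    rw [mul_mv, mul_mv, mul_mv, io_mulVec, h.ei_ap p, op_mulVec ue, op_mulVec (by simp [he, hu, eu, ue]), op_mulVec (by simp [he]), op_mulVec (by simp [hu])]
    simp only [map_add, map_smul, LinearMap.add_apply, LinearMap.map_smulₛₗ, LinearMap.smul_apply, he, hu, eu, ue, smul_eq_mul, RingHom.coe_coe, ss] at hω ⊢
    ext i
    simp only [Pi.add_apply, Pi.smul_apply, smul_eq_mul]
    linear_combination (-BD s n u x * e i) * hω - aa (s ω * BD s n e x * (e i + u i)) - aa (s ω * BD s n u x * u i)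
  refine LS.gen fun i j c => ?_
  by_cases ij : i = j
  · simp [ij]
  have z : BD s n (ε F j.rev) (ε F i) = 0 := by simp [ε_apply, Ne.symm ij]
  by_cases hi : i.rev = i
  · have he : BD s n (ε F j.rev) (ε F j.rev) = 0 := by
      rw [BD_εε, if_neg fun e => ij (Fin.ext ?_)]
      have := congrArg Fin.val hi
      have := congrArg Fin.val e
      simp only [Fin.val_rev] at *; omega
    rw [(h.xr_op ij c).2]
    exact h.ind1 he (P := fun u => op s u _ ∈ N) (fun u a b' => b _ _ a he (h.cm b')) (fun u v a b c d => op_add_left a b ▸ mul_mem c d)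
      (by rw [map_smul, z, smul_zero])
  · have he : BD s n (ε F i) (ε F i) = 0 := by rw [BD_εε, if_neg hi]
    rw [(h.xr_op ij c).1]
    exact h.ind1 he (P := fun u => op s _ u ∈ N) (fun u a b' => b _ _ he a b')
      (fun u v a b c d => op_add_right (h.cm a) (h.cm b) ▸ mul_mem c d) (by rw [map_smul, h.cm z, smul_zero])

theorem lang (k : g * τ s n g = 1) : ∃ l, g = l * (τ s n l)⁻¹ := by
  obtain ⟨l, e⟩ := LS.H8.lang1 h.s2.2 ((sq s).trans h.s2.1) k
  exact ⟨l⁻¹, by rw [map_inv, inv_inv, eq_inv_mul_iff_mul_eq]; exact mul_inv_eq_one.1 e⟩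

/-- `LS.cls`. -/
theorem fld (h2 : β * β = 1) (k : LS.Θ β = (s, 1)) : ∃ χ : LS.J n (fixedField (s : F →+* F)) →* LS.J n F, Function.Injective χ ∧
    ∀ x, β (χ x) = χ x := by
  obtain ⟨δ, w, -, hw, e⟩ := LS.cls h2
  rw [k] at hw e
  obtain rfl : w = 1 := hw.resolve_right fun c => c.elim (fun c => h.s2.2 (congrArg Prod.fst c.1)) fun c => h.s2.2 (congrArg Prod.fst c.1)
  refine ⟨δ⁻¹.toMonoidHom.comp (Matrix.SpecialLinearGroup.map (fixedField (s : F →+* F)).subtype), δ⁻¹.injective.comp fun x y c =>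
    Subtype.ext (Matrix.ext fun i j => Subtype.ext (congrFun (congrFun (congrArg Subtype.val c) i) j)), fun x => δ.injective ?_⟩
  change (δ * β * δ⁻¹) _ = (δ * δ⁻¹) _
  rw [e, map_one, one_mul, LS.sa_fl, mul_inv_cancel]
  exact Subtype.ext (Matrix.ext fun i j => (x.1 i j).2)

/-- A primitive prime divisor of `q ^ d - 1`, `d` odd, `m / 2 < d ≤ m`, divides `|SL|` and not `|SU|`. -/
theorem noL {G K : Type*} [Group G] [Finite G] [Field K] [CharP K 2] [Finite K] (hK : Nat.card F = Nat.card K ^ 2)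
    {ψ : SUG (BD s n) →* G} (hψ : ∀ x, ψ x = 1 → x ∈ center _) {χ : LS.J n K →* G} (hχ : χ.ker ≤ center _) (k : χ.range ≤ ψ.range) : False := by
  obtain ⟨r, -, hq⟩ := h.bar
  obtain hq' : Nat.card K = 2 ^ r := Nat.pow_left_injective two_ne_zero (hK.symm.trans hq.card)
  rw [← hq'] at hq
  have d4 := h.d4
  rw [finrank_VV] at d4
  obtain ⟨c, c1, c2⟩ : ∃ c, n + 2 ≤ 2 * c + 1 ∧ 2 * c + 1 ≤ n + 3 := ⟨(n + 2) / 2, by omega, by omega⟩
  obtain ⟨p, hp, o⟩ := GLC.zsigmondy (a := Nat.card K) (n := 2 * c + 1) Finite.one_lt_card (by omega) (by omega) (by omega)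
  have := Fact.mk hp
  have dv : ∀ j, p ∣ Nat.card K ^ j - 1 ↔ 2 * c + 1 ∣ j := fun j => by
    rw [← o, orderOf_dvd_iff_pow_eq_one, ← ZMod.natCast_eq_zero_iff, Nat.cast_sub (Nat.one_le_pow _ _ Nat.card_pos), sub_eq_zero]; simp
  have p1 : ¬ p ∣ Nat.card K - 1 := fun e => by have := Nat.le_of_dvd one_pos ((dv 1).1 (by rwa [pow_one])); omega
  have := Fintype.ofFinite K
  obtain ⟨x, hx⟩ := exists_prime_orderOf_dvd_card' (G := LS.J n K) p ((hp.dvd_mul.1 (by
    rw [Linear.card_SL_mul, Linear.card_GL, ← Nat.card_eq_fintype_card (α := K)]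
    refine .trans ?_ (Finset.dvd_prod_of_mem _ (Finset.mem_univ ⟨n + 3 - (2 * c + 1), by simp; omega⟩))
    refine ((dv _).2 dvd_rfl).trans ⟨Nat.card K ^ (n + 3 - (2 * c + 1)), ?_⟩
    rw [Nat.sub_mul, ← pow_add, Nat.add_sub_cancel' c2]; simp)).resolve_left (Nat.card_eq_fintype_card (α := K) ▸ p1))
  have x1 : orderOf (χ x) = p := orderOf_eq_prime (by rw [← map_pow, ← hx, pow_orderOf_eq_one, map_one]) fun e => p1 (by
    rw [← hx, Nat.card_eq_fintype_card]
    exact (orderOf_dvd_natCard _ (hχ e)).trans (Linear.card_center_SL.dvd.trans (Nat.gcd_dvd_right _ _)))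
  have d := ((x1 ▸ orderOf_dvd_natCard _ (k ⟨x, rfl⟩)).trans (card_range_dvd ψ)).mul_left (Nat.card K + 1)
  rw [h.herm.card_SUG hq (by simp), guOrder_def, finrank_VV, hp.dvd_mul] at d
  rcases d with d | d
  · rw [(ZMod.natCast_eq_zero_iff _ _).2 (hp.dvd_of_dvd_pow d), orderOf_zero] at o; omega
  obtain ⟨i, hi, d⟩ := (Prime.dvd_finsetProd_iff hp.prime _).1 d
  rw [Finset.mem_range] at hi
  split_ifs at d with e
  · have d2 := (dv ((i + 1) * 2)).1 (by rw [pow_mul, ← one_pow 2, Nat.sq_sub_sq]; exact d.mul_right _)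
    have d3 := Nat.dvd_sub d ((dv _).2 (Nat.Coprime.dvd_of_dvd_mul_right (by simp) d2))
    have := Nat.one_le_pow (i + 1) _ (Nat.card_pos (α := K))
    rw [show Nat.card K ^ (i + 1) + 1 - (Nat.card K ^ (i + 1) - 1) = 2 by omega, Nat.prime_dvd_prime_iff_eq hp Nat.prime_two] at d3
    subst d3
    have := o ▸ orderOf_le_card_univ
    simp at this; omega
  · obtain ⟨a, ha⟩ := (dv _).1 d
    obtain ⟨b, rfl⟩ := Nat.not_even_iff_odd.1 e
    rcases a with _ | _ | a <;> [omega; omega; nlinarith]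

end Ok

end Cfsg.Lib.U42
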