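import Cfsg.Agent.Lib.U42.Z2b

/-!
# S3138 (copy of `USt`, `q = 2`, dimension `4`): the parametrization `y v r`.  See `docs/U42.md`.  `ℓ = span {e, f}`, `Fix ℓ = Stab e ⊓ Stab f`.
-/

set_option autoImplicit false
set_option linter.unusedSectionVars false

namespace Cfsg.Lib.U42

open Module Subgroup G2S Cfsg.Lib.BG Cfsg.Lib.GW GSt.SLa Cfsg.Lib.Unitary
open scoped commutatorElement Cfsg.Lib.Transfer

variable {F V : Type*} [Field F] [CharP F 2] [Finite F] [AddCommGroup V] [Module F V] [Finite V] {σ : F →+* F}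
  {B : V →ₛₗ[σ] V →ₗ[F] F} {G : Type*} [Group G] [Finite G] {ψ : SUG B →* G} {t k y y' : G} {e f g v w : V} {a b c d d' s₀ β β' ζ ζ' : F}
  {Y : V → Subgroup G} {z : V → G} {I : Submodule F V}

theorem El.nine {X : Type*} [Group X] {E : Subgroup X} (hE : El E) {a b c d e f : X} (ha : a ∈ E) (hb : b ∈ E) (hc : c ∈ E) (hd : d ∈ E)
    (he : e ∈ E) (hf : f ∈ E) : a * b * c * (b * d * e) * (c * e * f) = a * d * f := by
  have i : ∀ x : E, x⁻¹ = x := fun x => inv_eq_of_mul_eq_one_right (Subtype.ext (hE _ x.2))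
  let _ : CommGroup E := { (inferInstance : Group E) with mul_comm := fun x y => by rw [← i (x * y), mul_inv_rev, i, i] }
  have : ∀ a b c d e f : E, a * b * c * (b * d * e) * (c * e * f) = a * d * f := fun a b c d e f =>
    calc _ = a * d * f * (b * b) * (c * c) * (e * e) := by ac_rfl
      _ = _ := by simp only [show ∀ x : E, x * x = 1 from fun x => Subtype.ext (hE _ x.2), mul_one]
  exact congrArg Subtype.val (this ⟨a, ha⟩ ⟨b, hb⟩ ⟨c, hc⟩ ⟨d, hd⟩ ⟨e, he⟩ ⟨f, hf⟩)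

namespace ZR
variable (p : ZR ψ t Y) (h : Ok B)
include p h

/-- `β` is symmetric, `K`-bilinear, `β(a, a) = 0`; `Tr (β(a, b) c)` is an alternating trilinear form on the `K`-plane `F`:
`x = β(1, ω)`, `Tr x = 0 = Tr (x ω)`. -/
theorem kp (m : Fm ψ t Y z d) (l : Ln B e f) (a b : F) : Kp ψ Y z e f a b 0 0 := by
  have q := p.toZQ
  obtain ⟨ω, hω⟩ := h.om
  have dg : ∀ a, Kp ψ Y z e f a a 0 0 := fun a => by
    simpa using q.kp_diag h m (map_zero σ) (fun v v0 hv => by rw [p.sq v v0 hv _ (m.pa v v0 hv).mem, h.tv_zero, map_one]) l a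
  obtain ⟨x, ζ, k⟩ := q.kp_ex h m l 1 ω
  obtain rfl := q.kp_zero h m l k
  obtain rfl : x = 0 := by
    have e1 := (q.kp_sym h m l k (dg ω)).2
    have e2 := (q.kp_sym h m l (q.kp_comm h m l k) (dg 1)).2
    simp only [map_mul, zero_mul, add_zero, mul_one, map_zero] at e1 e2
    linear_combination e1 - σ ω * e2 - x * hω + σ ω * aa x
  have st : ∀ b, Kp ψ Y z e f 1 b 0 0 → Kp ψ Y z e f ω b 0 0 → ∀ a, Kp ψ Y z e f a b 0 0 := fun b k1 k2 a => by
    have := q.kp_add h m l (q.kp_lin h m l (c := a + ω * (a + σ a)) (by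
      rw [map_add, map_mul, h.tK]; linear_combination (a + σ a) * hω + aa (σ a) - aa (ω * (a + σ a))) k1) (q.kp_lin h m l (h.tK a) k2)
    rwa [mul_zero, mul_zero, add_zero, mul_one, mul_comm ω, add_assoc, aa, add_zero] at this
  exact st b (q.kp_comm h m l (st 1 (dg 1) (q.kp_comm h m l k) b)) (q.kp_comm h m l (st ω k (dg ω) b)) a

/-- `ρ` = conjugation by `ψ x` is trivial on `ψ Z` and on `Y / ψ Z`, so `ρ² = 1`; `x ^ (2 k + 1) ∈ Stab v` (`odd_unit`). -/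
theorem norm_one (h0 : v ≠ 0) (hv : B v v = 0) {x : SUG B} (hx : x.1 v = a • v) (ha : a * σ a = 1) (hy : y ∈ Y v) : ψ x * y = y * ψ x := by
  have q := p.toZP
  obtain ⟨d, r⟩ := p.par v h0 hv y hy
  have r' := q.pa_conj h h0 hv r x
  rw [hx, q.pa_smul h h0 hv (left_ne_zero_of_mul_eq_one ha) r.K, ha, one_mul] at r'
  obtain ⟨c, hc, k⟩ := q.pa_same h h0 hv r r'
  have k' := q.cj h x v c
  rw [hx, h.tv_smul hv hc, ha, one_mul] at k'
  have e1 : ∀ n : ℕ, (x ^ n).1 v = a ^ n • v ∧ ψ (x ^ n) * y * (ψ (x ^ n))⁻¹ = y * ψ (tv B v c) ^ n := fun n => by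
    induction n with
    | zero => exact ⟨by rw [pow_zero, pow_zero, one_smul]; rfl, by simp⟩
    | succ n ih =>
      refine ⟨by rw [pow_succ', mul_ap, ih.1, map_smul, hx, smul_smul, pow_succ], ?_⟩
      calc _ = ψ x * (ψ (x ^ n) * y * (ψ (x ^ n))⁻¹) * (ψ x)⁻¹ := by rw [pow_succ', map_mul]; group
        _ = _ := by rw [ih.2, ← conj_mul, k, ← conj_pow, k', mul_assoc, pow_succ']
  obtain ⟨n, hn⟩ := odd_unit F
  obtain ⟨e2, e3⟩ := e1 (2 * n + 1)
  rw [hn a (left_ne_zero_of_mul_eq_one ha), one_smul] at e2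
  rw [cjf.2 (p.cS v h0 hv y hy _ e2).symm, pow_succ, pow_mul, pow_two, p.toS1.zsq h, one_pow, one_mul] at e3
  exact cjf.1 (k.trans e3.symm)

/-- `ρ a` (`a ∈ Kˣ`) = conjugation by `ψ x`, `x v = a v`, in the ring `End (Y v)` (`Additive`, characteristic `2`); `ρ 0 = 0`.  The `ρ a`
commute, `ρ (a b) = ρ a ρ b`, `(ρ a) ^ q = ρ a`.  `D = ρ a + ρ b + ρ (a + b)` has `D ^ q = D`, kills `ψ Z` and maps `Y` into `ψ Z`, so
`D² = 0`, `D = 0`. -/
theorem rho_add (h0 : v ≠ 0) (hv : B v v = 0) {x x' x'' : SUG B} (ha : σ a = a) (hb : σ b = b) (hx : x.1 v = a • v) (hx' : x'.1 v = b • v)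
    (hx'' : x''.1 v = (a + b) • v) (hy : y ∈ Y v) : ψ x'' * y * (ψ x'')⁻¹ = ψ x * y * (ψ x)⁻¹ * (ψ x' * y * (ψ x')⁻¹) := by
  have q := p.toZP
  have nz : ∀ {x : SUG B} {a : F}, x.1 v = a • v → a ≠ 0 := fun k z => h0 (by simpa [z] using k)
  obtain ⟨r, hr, rfl⟩ := h.sqrt ha
  obtain ⟨s, hs, rfl⟩ := h.sqrt hb
  have hk : σ (r + s) = r + s := by rw [map_add, hr, hs]
  have e0 : r * r + s * s = (r + s) * (r + s) := by linear_combination - aa (r * s)
  rw [e0] at hx''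
  obtain ⟨m, hm⟩ := Z1.xa_ex' h h0 hv hr (left_ne_zero_of_mul (nz hx))
  obtain ⟨n, hn⟩ := Z1.xa_ex' h h0 hv hs (left_ne_zero_of_mul (nz hx'))
  obtain ⟨k, hk'⟩ := Z1.xa_ex' h h0 hv hk (left_ne_zero_of_mul (nz hx''))
  have pa : ∀ {x : SUG B} {a : F} {y : G} {d : F}, x.1 v = a • v → Pa ψ t Y v y d → Pa ψ t Y v (ψ x * y * (ψ x)⁻¹) (a * σ a * d) :=
    fun k r => (q.pa_smul h h0 hv (nz k) r.K).1 (k ▸ q.pa_conj h h0 hv r _)
  have two : ∀ {x x' : SUG B} {a b : F}, x.1 v = a • v → x'.1 v = b • v → (x * x').1 v = (a * b) • v := fun k k' => by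
    rw [mul_ap, k', map_smul, k, smul_smul, mul_comm]
  have cc : ∀ x x' : SUG B, ψ x * (ψ x' * y * (ψ x')⁻¹) * (ψ x)⁻¹ = ψ (x * x') * y * (ψ (x * x'))⁻¹ := fun x x' => by rw [map_mul]; group
  obtain ⟨d, u⟩ := p.par v h0 hv y hy
  obtain ⟨c, hc, e1⟩ := q.pa_zero h h0 hv (y := ψ k * y * (ψ k)⁻¹ * (ψ m * y * (ψ m)⁻¹) * (ψ n * y * (ψ n)⁻¹)) (by
    have := q.pa_mul h h0 hv (q.pa_mul h h0 hv (pa hk' u) (pa hm u)) (pa hn u)
    rwa [hk, hr, hs, ← e0, ← add_mul, ← add_mul, add_assoc, aa, zero_mul] at this)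
  have K : ∀ a : F, σ a = a → σ (a * a * c) = a * a * c := fun a ha => by rw [map_mul, map_mul, ha, hc]
  have e2 : ψ k * ψ (tv B v c) * (ψ k)⁻¹ * (ψ m * ψ (tv B v c) * (ψ m)⁻¹) * (ψ n * ψ (tv B v c) * (ψ n)⁻¹) = 1 := by
    rw [q.cj h, q.cj h, q.cj h, hk', hm, hn, h.tv_smul hv hc, h.tv_smul hv hc, h.tv_smul hv hc, hk, hr, hs, mul_assoc, ← map_mul,
      ← h.tv_add hv (K r hr) (K s hs), ← add_mul, e0, p.toS1.zsq h]
  have sw : ∀ {x x' : SUG B} {a b : F}, x.1 v = a • v → x'.1 v = b • v → ψ (x * x') * y * (ψ (x * x'))⁻¹ = ψ (x' * x) * y * (ψ (x' * x))⁻¹ :=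
    fun k k' => q.cj_eq h h0 hv hy (by rw [two k k', two k' k, mul_comm])
  rw [← e1] at e2
  simp only [← conj_mul, cc] at e2
  rw [sw hm hk', sw hn hk', sw hn hm, El.nine (p.sq v h0 hv) (pa (two hk' hk') u).mem (pa (two hk' hm) u).mem (pa (two hk' hn) u).mem
    (pa (two hm hm) u).mem (pa (two hm hn) u).mem (pa (two hn hn) u).mem, q.cj_eq h h0 hv hy ((two hk' hk').trans hx''.symm),
    q.cj_eq h h0 hv hy ((two hm hm).trans hx.symm), q.cj_eq h h0 hv hy ((two hn hn).trans hx'.symm), mul_assoc] at e2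
  rw [eq_inv_of_mul_eq_one_left e2]
  exact inv_eq_of_mul_eq_one_right (p.sq v h0 hv _ (mul_mem (pa hx u).mem (pa hx' u).mem))

/-- `z` a family of parameter `1`; `z (a v)` depends only on `N a` (`norm_one`) and is additive in `a² ∈ K` (`rho_add`).
`y v r = ψ (tv v (r + ω Tr r)) * z (√(Tr r) • v)`, with `z 0 = 1` and `y 0 r = 1`.  For `ql`: `v ↦ y v r` is a family of parameter `Tr r`,
`kp`, and `Y e = range (y e)` (`pa_same`). -/
theorem exists_za : ∃ y, ZA ψ t y := by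
  classical
  have q := p.toZP
  obtain ⟨ω, hω⟩ := h.om
  obtain ⟨e₀, h0, he⟩ := h.iso_ex
  obtain ⟨u₀, a₀⟩ := p.onto e₀ h0 he 1 (map_one σ)
  obtain ⟨z₀, m, -⟩ := q.fm_ex h h0 he a₀
  obtain ⟨z, z0, z1⟩ : ∃ z : V → G, z 0 = 1 ∧ ∀ v, v ≠ 0 → z v = z₀ v := ⟨fun v => if v = 0 then 1 else z₀ v, if_pos rfl, fun v k => if_neg k⟩
  have iv : ∀ {v : V} (a : F), B v v = 0 → B (a • v) (a • v) = 0 := fun a hv => by simp [hv]
  have ze : ∀ (x : SUG B) v, B v v = 0 → ψ x * z v * (ψ x)⁻¹ = z (x.1 v) := fun x v hv => by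
    by_cases v0 : v = 0
    · simp [v0, z0]
    · rw [z1 v v0, z1 _ (by simpa using v0), m.eqv x v v0 hv]
  have zp : ∀ v, v ≠ 0 → B v v = 0 → ∀ a : F, Pa ψ t Y v (z (a • v)) (a * σ a) := fun v v0 hv a => by
    by_cases a0 : a = 0
    · simpa [a0, z0, h.tv_zero] using q.pa_tv h v0 hv 0
    · have := m.pa _ (smul_ne_zero a0 v0) (iv a hv)
      rwa [q.pa_smul h v0 hv a0 (map_one σ), mul_one, ← z1 _ (smul_ne_zero a0 v0)] at this
  have zn : ∀ v, B v v = 0 → ∀ a b : F, a * σ a = b * σ b → z (a • v) = z (b • v) := fun v hv a b k => by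
    by_cases v0 : v = 0
    · simp [v0]
    by_cases a0 : a = 0
    · obtain rfl : b = 0 := by simpa [a0] using k
      rw [a0]
    have b0 : b ≠ 0 := by rintro rfl; simp [a0] at k
    obtain ⟨x, hx⟩ := h.vec (smul_ne_zero a0 v0) (smul_ne_zero b0 v0) (iv a hv) (iv b hv)
    rw [← hx, ← ze x _ (iv a hv), cjf.2]
    refine p.norm_one h (smul_ne_zero a0 v0) (iv a hv) (a := b / a) (by rw [hx, smul_smul, div_mul_cancel₀ _ a0]) (by
      rw [map_div₀, div_mul_div_comm, k, div_self (by simp [b0])]) ?_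
    simpa using (zp _ (smul_ne_zero a0 v0) (iv a hv) 1).mem
  have za : ∀ v, v ≠ 0 → B v v = 0 → ∀ a b : F, σ a = a → σ b = b → z ((a + b) • v) = z (a • v) * z (b • v) := fun v v0 hv a b ha hb => by
    by_cases a0 : a = 0
    · simp [a0, z0]
    by_cases b0 : b = 0
    · simp [b0, z0]
    by_cases c0 : a + b = 0
    · rw [c0, zero_smul, z0, CharTwo.add_eq_zero.1 c0, p.sq v v0 hv _ (zp v v0 hv b).mem]
    obtain ⟨x, hx⟩ := Z1.xa_ex' h v0 hv ha a0
    obtain ⟨x', hx'⟩ := Z1.xa_ex' h v0 hv hb b0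
    obtain ⟨x'', hx''⟩ := Z1.xa_ex' h v0 hv (by rw [map_add, ha, hb]) c0
    rw [← hx, ← hx', ← hx'', ← ze x v hv, ← ze x' v hv, ← ze x'' v hv]
    exact p.rho_add h v0 hv ha hb hx hx' hx'' (by simpa using (zp v v0 hv 1).mem)
  choose rt hrt using sqrt_ex (F := F)
  have rK : ∀ r, σ (rt (r + σ r)) = rt (r + σ r) := fun r => sq_inj (by rw [← map_mul, hrt, h.tK])
  have uK : ∀ r, σ (r + ω * (r + σ r)) = r + ω * (r + σ r) := fun r => by
    rw [map_add, map_mul, h.tK]; linear_combination (r + σ r) * hω + aa (σ r) - aa (ω * (r + σ r))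
  obtain ⟨y, hy⟩ : ∃ y : V → F → G, ∀ v r, y v r = ψ (tv B v (r + ω * (r + σ r))) * z (rt (r + σ r) • v) := ⟨_, fun _ _ => rfl⟩
  have y0 : ∀ r, y 0 r = 1 := fun r => by simp [hy, z0, h.tv_zero']
  have yp : ∀ v, v ≠ 0 → B v v = 0 → ∀ r, Pa ψ t Y v (y v r) (r + σ r) := fun v v0 hv r => by
    have := q.pa_mul h v0 hv (q.pa_tv h v0 hv (r + ω * (r + σ r))) (zp v v0 hv (rt (r + σ r)))
    rwa [rK, hrt, zero_add, ← hy] at this
  have ext : ∀ v c, B v v = 0 → σ c = c → y v c = ψ (tv B v c) := fun v c hv hc => by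
    rw [hy, hc, aa, show rt 0 = 0 from mul_self_eq_zero.1 (hrt 0), zero_smul, z0, mul_zero, add_zero, mul_one]
  have add : ∀ v r s, B v v = 0 → y v (r + s) = y v r * y v s := fun v r s hv => by
    by_cases v0 : v = 0
    · simp [v0, y0]
    rw [hy, hy, hy, show rt (r + s + σ (r + s)) = rt (r + σ r) + rt (s + σ s) from sq_inj (by
        rw [hrt, map_add]; linear_combination - hrt (r + σ r) - hrt (s + σ s) - aa (rt (r + σ r) * rt (s + σ s))),
      za v v0 hv _ _ (rK r) (rK s), show r + s + ω * (r + s + σ (r + s)) = r + ω * (r + σ r) + (s + ω * (s + σ s)) by rw [map_add]; ring,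
      h.tv_add hv (uK r) (uK s), map_mul, mul_assoc, mul_assoc, ← mul_assoc (z _),
      p.cS v v0 hv _ (zp v v0 hv _).mem _ (h.tv_fix hv _), mul_assoc]
  have eqv : ∀ (x : SUG B) v r, B v v = 0 → ψ x * y v r * (ψ x)⁻¹ = y (x.1 v) r := fun x v r hv => by
    rw [hy, hy, ← conj_mul, q.cj h, ze x _ (iv _ hv), map_smul]
  refine ⟨y, p.toS1, ext, add, fun v r hv => ?_, eqv, fun a v r hv => ?_, fun v w r s hv hw vw => ?_, fun e f a b r l => ?_⟩
  · by_cases v0 : v = 0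
    · simp [v0, y0, p.t2]
    have k := yp v v0 hv r
    calc _ = t * (y v r * t * (y v r)⁻¹) * y v r * (y v r * y v r)⁻¹ * (y v r * y v r) := by group
      _ = _ := by
        rw [inv_mul_cancel_right, k.yt, ← mul_assoc, p.t2, one_mul, ← ext v _ hv k.K, ← add v _ _ hv, add_right_comm, aa, zero_add]
  · rw [hy, hy, h.tv_smul hv (uK r), smul_smul, map_mul, h.nK, zn v hv (rt (r + σ r) * a) (rt (a * σ a * r + σ (a * σ a * r))) (by
      rw [rK, hrt, map_mul, rK, map_mul, h.nK]; linear_combination a * σ a * hrt (r + σ r)), map_mul σ, h.nK]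
    congr 3; ring
  · by_cases v0 : v = 0
    · simp [v0, y0]
    by_cases w0 : w = 0
    · simp [w0, y0]
    exact p.comm v w v0 hv w0 hw vw _ (yp v v0 hv r).mem _ (yp w w0 hw s).mem
  · obtain ⟨-, u, hu, k⟩ := p.kp h (z := fun v => y v r) ⟨fun v v0 hv => yp v v0 hv r, fun x v _ hv => eqv x v r hv⟩ l a b
    have i : ∀ c : F, (y (f + c • e) r)⁻¹ = y (f + c • e) r := fun c => by
      have v0 : f + c • e ≠ 0 := fun z => one_ne_zero (l.indep (a := c) (b := 1) (by rw [one_smul, add_comm, z])).2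
      have hv : B (f + c • e) (f + c • e) = 0 := by simp [l.ee, l.ff, l.ef, h.cm l.ef]
      exact inv_eq_of_mul_eq_one_right (p.sq _ v0 hv _ (yp _ v0 hv r).mem)
    obtain ⟨d, k1⟩ := p.par e l.ne l.ee u hu
    have k2 := yp e l.ne l.ee (ω * d)
    rw [map_mul, k1.K, ← add_mul, hω, one_mul] at k2
    obtain ⟨c, hc, rfl⟩ := q.pa_same h l.ne l.ee k2 k1
    refine ⟨ω * d + c, ?_⟩
    simpa only [i, zero_smul, h.ei_zero, h.tv_zero, mul_one, map_one, add e _ _ l.ee, ext e c l.ee hc] using k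

end ZR

end Cfsg.Lib.U42
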