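import Cfsg.Agent.Lib.U42.S0

/-!
# S3138 (copy of `USt`, `q = 2`, dimension `4`): the elements `PP y r v w`.  See `docs/U42.md`.  `ℓ = span {e, f}`; all `y v r`, `v ∈ ℓ`, are commuting involutions
and commute with `ψ (W ℓ)`.
-/

set_option autoImplicit false
set_option linter.unusedSectionVars false

namespace Cfsg.Lib.U42

open Module Subgroup G2S Cfsg.Lib.BG Cfsg.Lib.GW GSt.SLa Cfsg.Lib.Unitary
open scoped commutatorElement Cfsg.Lib.Transfer

variable {F V : Type*} [Field F] [CharP F 2] [Finite F] [AddCommGroup V] [Module F V] [Finite V] {σ : F →+* F}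
  {B : V →ₛₗ[σ] V →ₗ[F] F} {G : Type*} [Group G] [Finite G] {ψ : SUG B →* G} {t g k : G} {e f u v w : V} {a b c r s : F}
  {y : V → F → G} {I : Submodule F V}

omit [Finite F] in
theorem Ok.ti2 (h : Ok B) (he : B e e = 0) (hf : B f f = 0) (hef : B e f = 0) : Ti B (Submodule.span F {e, f}) :=
  Submodule.span_le.2 fun v hv => mem_perp_span.2 (by rcases hv with rfl | rfl <;> simp [he, hf, hef, h.cm hef])

/-- A symmetric alternating biadditive map with `φ (ν a) (ν b) = N ν φ a b` is a multiple of `Tr (a σ b)`. -/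
theorem Ok.phi_eq (h : Ok B) {ω : F} (hω : ω + σ ω = 1) (φ : F → F → F) (add : ∀ a a' b, φ (a + a') b = φ a b + φ a' b)
    (sy : ∀ a b, φ a b = φ b a) (dg : φ 1 1 = 0) (sc : ∀ ν a b, ν ≠ 0 → φ (a * ν) (b * ν) = ν * σ ν * φ a b) (a b : F) :
    φ a b = φ 1 ω * (a * σ b + σ a * b) := by
  have z : ∀ b, φ 0 b = 0 := fun b => by simpa using add 0 0 b
  have add' : ∀ a b b', φ a (b + b') = φ a b + φ a b' := fun a b b' => by rw [sy, add, sy b, sy b']
  have sc' : ∀ k b, σ k = k → φ k (k * b) = k * k * φ 1 b := fun k b hk => by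
    by_cases k0 : k = 0
    · simp [k0, z]
    · simpa [hk, mul_comm] using sc k 1 b k0
  have g1 : ∀ k b, σ k = k → φ 1 (k * b) = φ k b := fun k b hk => by
    have := sc' (1 + k) b (by simp [hk])
    rw [add_mul, one_mul, add, add', add', sc' k b hk] at this
    grind
  have g2 : ∀ c b, σ c = c → φ 1 (c * b) = c * φ 1 b := fun c b hc => by
    obtain ⟨k, hk, rfl⟩ := h.sqrt hc
    rw [mul_assoc, g1 k _ hk, sc' k b hk]
  have g3 : ∀ x, φ 1 x = (x + σ x) * φ 1 ω := fun x => by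
    have k : x = (x + (x + σ x) * ω) * 1 + (x + σ x) * ω := by grind
    conv_lhs => rw [k, add', g2 _ _ (by simp only [map_add, map_mul, h.ss]; grind), g2 _ _ (h.tK x), dg, mul_zero, zero_add]
  by_cases a0 : a = 0
  · simp [a0, z]
  have := sc a 1 (b / a) a0
  rw [one_mul, div_mul_cancel₀ _ a0, g3, map_div₀] at this
  have a1 : σ a ≠ 0 := (map_ne_zero σ).2 a0
  rw [this]; field_simp; ring

theorem St.wl_inj (s : St ψ t) (h : Ok B) (p : Ln B e f) {α β α' δ ε δ' : F} (h1 : σ α = α) (h2 : σ α' = α') (h3 : σ δ = δ)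
    (h4 : σ δ' = δ') (k : ψ (ei B e (β • f) α * tv B f α') = ψ (ei B e (ε • f) δ * tv B f δ')) : α = δ ∧ β = ε ∧ α' = δ' :=
  h.Wl_inj p h1 h2 h3 h4 (s.i2 h (h.W_el (h.ln_ti p).1 _ ((h.mem_Wl p).2 ⟨_, _, _, h1, h2, rfl⟩))
    (h.W_el (h.ln_ti p).1 _ ((h.mem_Wl p).2 ⟨_, _, _, h3, h4, rfl⟩)) k)

theorem St.tv_one (s : St ψ t) (h : Ok B) (h0 : v ≠ 0) (hv : B v v = 0) (hc : σ c = c) (k : ψ (tv B v c) = 1) : c = 0 :=
  by_contra fun n => h.tv_ne h0 hv hc n (s.i2 h (h.tv_sq ..) (one_mul 1) (k.trans (map_one ψ).symm))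

namespace ZA
variable (z : ZA ψ t y) (h : Ok B)
include z h

omit [Finite F] [Finite G] in
theorem zero (hv : B v v = 0) : y v 0 = 1 := by rw [z.ext v 0 hv (map_zero σ), h.tv_zero, map_one]

omit [Finite F] [Finite G] in
theorem zero' (r : F) : y 0 r = 1 := by simpa [z.zero h (v := 0) (by simp)] using z.smul 0 0 r (by simp)

omit [Finite F] [Finite G] in
theorem sq (hv : B v v = 0) (r : F) : y v r * y v r = 1 := by rw [← z.add v r r hv, aa, z.zero h hv]

omit [Finite F] [Finite G] in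
theorem inv (hv : B v v = 0) (r : F) : (y v r)⁻¹ = y v r := inv_eq_of_mul_eq_one_left (z.sq h hv r)

theorem yt (hv : B v v = 0) (r : F) : y v r * t * (y v r)⁻¹ = t * ψ (tv B v (r + σ r)) := by
  rw [z.inv h hv, ← z.ext v _ hv (h.tK r), add_comm, z.add v _ _ hv, ← z.ct v r hv]
  simp only [← mul_assoc, z.t2, one_mul]

theorem of_ct (h0 : v ≠ 0) (hv : B v v = 0) (k : y v r * t = t * y v r) : σ r = r :=
  (CharTwo.add_eq_zero.1 (z.tv_one h h0 hv (h.tK r) (mul_eq_left.1 ((z.yt h hv r).symm.trans (cjf.2 k))))).symm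

/-- `y v r = 1` gives `σ r = r` (`yt`), `tv_ne`. -/
theorem inj (h0 : v ≠ 0) (hv : B v v = 0) (k : y v r = y v s) : r = s := by
  have e : y v (r + s) = 1 := by rw [z.add v _ _ hv, k, z.sq h hv]
  have c := z.of_ct h h0 hv (r := r + s) (by rw [e, one_mul, mul_one])
  exact CharTwo.add_eq_zero.1 (z.tv_one h h0 hv c (by rw [← z.ext v _ hv c, e]))

omit [Finite F] [Finite G] in
theorem cS (hv : B v v = 0) {x : SUG B} (hx : x.1 v = v) (r : F) : ψ x * y v r = y v r * ψ x := cjf.1 (by rw [z.eqv x v r hv, hx])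

/-- `y e r ψ x = y e s ψ x'` gives `y e (r + s) ∈ C(t)`. -/
theorem yψ (h0 : v ≠ 0) (hv : B v v = 0) {x x' : SUG B} (k : y v r * ψ x = y v s * ψ x') :
    σ (r + s) = r + s ∧ ψ x = ψ (tv B v (r + s) * x') := by
  have e : ψ x = y v (r + s) * ψ x' := by rw [z.add v _ _ hv, mul_assoc, ← k, ← mul_assoc, z.sq h hv, one_mul]
  have c := z.of_ct h h0 hv (r := r + s) (by rw [← mul_inv_eq_of_eq_mul e, ← map_inv, ← map_mul, z.tψ])
  exact ⟨c, by rw [e, map_mul, z.ext v _ hv c]⟩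

theorem not_ct (h0 : v ≠ 0) (hv : B v v = 0) (h1 : ∀ r, g * t * y v r = y v r * (g * t)) (h2 : ∀ r, g * y v r = y v r * g) : False := by
  obtain ⟨ω, hω⟩ := h.om
  have := z.of_ct h h0 hv (r := ω) (mul_left_cancel (a := g) (by rw [← mul_assoc, h2, mul_assoc, ← h1, mul_assoc]))
  rw [this, aa] at hω
  exact zero_ne_one hω

/-- As `ZP.cw`. -/
theorem cw (hI : Ti B I) (hI2 : 2 ≤ finrank F I) (h1 : k * t = t * k) (h2 : ∀ x ∈ Fix B I, k * ψ x = ψ x * k) (hv : v ∈ I) (h0 : v ≠ 0)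
    (h3 : ∀ r, k * y v r = y v r * k) : ∃ w ∈ W B I, k = ψ w := by
  obtain ⟨w, hw, o, ho, p⟩ := z.cr h hI hI2 h1 h2
  rw [mem_bot.1 ho, mul_one, mul_one] at p
  refine ⟨w, hw, p.resolve_right ?_⟩
  rintro rfl
  exact z.not_ct h h0 (hI hv v hv) h3 (z.cS h (hI hv v hv) (mem_Fix.1 (h.W_le hI hw) v hv))

/-- `cq` for `g * y v r`, `Tr r = d`. -/
theorem can (h0 : v ≠ 0) (hv : B v v = 0) (hd : σ c = c) (h1 : g * t * g⁻¹ = t * ψ (tv B v c)) (h2 : ∀ u ∈ Q B v, g * ψ u = ψ u * g)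
    (h3 : ∀ r, g * y v r = y v r * g) : ∃ r, g = y v r := by
  obtain ⟨r, rfl⟩ := h.herm.exists_trace_eq hd
  obtain ⟨c, hc, o, ho, p⟩ := z.cq h h0 hv (k := g * y v r) (cjf.1 (by
    rw [show g * y v r * t * (g * y v r)⁻¹ = g * (y v r * t * (y v r)⁻¹) * g⁻¹ by group, z.yt h hv, ← conj_mul, h1,
      cjf.2 (h2 _ (h.tv_mem_Q ..)), mul_assoc, ← map_mul, h.tv_sq, map_one, mul_one]))
    fun u hu => Commute.mul_left (h2 u hu) (z.cS h hv (Q_le hu) r).symm
  rw [mem_bot.1 ho, mul_one, mul_one] at p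
  rcases p with p | p
  · exact ⟨c + r, by rw [z.add v _ _ hv, z.ext v c hv hc, ← p, mul_assoc, z.sq h hv, mul_one]⟩
  · exact (z.not_ct h h0 hv (fun s => p ▸ Commute.mul_left (h3 s) (z.comm v v r s hv hv hv))
      (z.cS h hv (Q_le (h.tv_mem_Q v c)))).elim

omit [Finite F] [Finite G] in
/-- The rewriting rules for the `y u r`, `u ∈ ℓ`. -/
theorem ac (hv : B v v = 0) (hw : B w w = 0) (hvw : B v w = 0) : ∃ I : Submodule F V, v ∈ I ∧ w ∈ I ∧ (∀ u, u ∈ I → B u u = 0) ∧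
    (∀ u u' r s, u ∈ I → u' ∈ I → y u r * y u' s = y u' s * y u r) ∧
    (∀ u u' r s g, u ∈ I → u' ∈ I → y u r * (y u' s * g) = y u' s * (y u r * g)) ∧ (∀ u r, u ∈ I → y u r * y u r = 1) ∧
    ∀ u r g, u ∈ I → y u r * (y u r * g) = g :=
  have hI := h.ti2 hv hw hvw
  have c := fun u u' r s a b => z.comm u u' r s (hI a u a) (hI b u' b) (hI b u a)
  ⟨_, Submodule.subset_span (by simp), Submodule.subset_span (by simp), fun u a => hI a u a, c,
    fun u u' r s g a b => by rw [← mul_assoc, c u u' r s a b, mul_assoc], fun u r a => z.sq h (hI a u a) r,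
    fun u r g a => by rw [← mul_assoc, z.sq h (hI a u a), one_mul]⟩

omit h [Finite F] [Finite G] in
theorem tc (a b : G) : t * (a * b) * t = t * a * t * (t * b * t) := by
  rw [show t * a * t * (t * b * t) = t * a * (t * t) * b * t by group, z.t2]; group

/-- `ql`: `κ(r; a, b) = y e (r Tr (a σ b) + κ₀)`, `κ₀ ∈ K` (conjugate `t`), `κ₀` is additive in `r` and `0` for `r ∈ K` (`tv_ln`), so depends
on `d = Tr r`.  It is symmetric, `0` for `a = b`, and additive in `a`: conjugation by `ψ u`, `u f = f + a' e`, fixes `κ(r; a, b) ∈ Y e`.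
`Tq (l, μ)`, `l μ ∈ K`: `κ₀(N μ d; a ν, b ν) = N ν N μ κ₀(d; a, b)`, `ν = l / μ`; every pair `(ν, N μ) ∈ Fˣ × Kˣ` occurs (`μ² = k / ν`).
So `κ₀(d; a, b) = d φ(a, b)`, `φ(ν a, ν b) = N ν φ(a, b)`.  `g = φ(1, ·)`: expand `φ(1 + k, (1 + k) b)`: `g (k b) = φ(k, b) = k² g (b / k)`,
so `g` is `K`-linear, `g 1 = 0`, `g x = g ω Tr x`. -/
theorem kap0 (l : Ln B e f) : ∃ k₁, σ k₁ = k₁ ∧ ∀ a b r, y (f + (a + b) • e) r * y (f + a • e) r * y (f + b • e) r * y f r =
    y e ((r + k₁ * (r + σ r)) * (a * σ b + σ a * b)) := by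
  choose s hs using fun a b r => z.ql e f a b r l
  obtain ⟨I, m1, m2, i, c1, c2, c3, c4⟩ := z.ac h l.ee l.ff l.ef
  have m : ∀ a : F, f + a • e ∈ I := fun a => add_mem m2 (I.smul_mem a m1)
  have ij : ∀ {r r'}, y e r = y e r' → r = r' := z.inj h l.ne l.ee
  obtain ⟨ω, hω⟩ := h.om
  obtain ⟨e', f', q⟩ := h.fr_ex l
  have s1 : ∀ a b r r', s a b (r + r') = s a b r + s a b r' := fun a b r r' => ij (by
    simp only [z.add _ _ _ l.ee, ← hs, z.add _ _ _ (i _ (m _)), z.add _ _ _ l.ff, mul_assoc, c1, c2, m, m2])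
  have s2 : ∀ a b r, s a b (σ r) = σ (s a b r) := fun a b r => ij (by
    rw [← z.ct _ _ l.ee, ← hs, ← hs]; simp only [z.tc, z.ct _ _ (i _ (m _)), z.ct _ _ l.ff])
  have s3 : ∀ a b c, σ c = c → s a b c = c * (a * σ b + σ a * b) := fun a b c hc => ij (by
    have k : σ (c * (a * σ b + σ a * b)) = c * (a * σ b + σ a * b) := by simp only [map_mul, map_add, h.ss, hc]; ring
    rw [← hs, z.ext _ _ l.ee k]
    simp only [z.ext _ _ (i _ (m _)) hc, z.ext _ _ l.ff hc, ← map_mul]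
    refine congrArg ψ (J_ext fun v => ?_)
    simp only [mul_ap, h.tv_ap (i _ (m _)) hc, h.tv_ap l.ff hc, h.tv_ap l.ee k, map_add, map_smul, LinearMap.map_smulₛₗ,
      LinearMap.add_apply, LinearMap.smul_apply, smul_eq_mul, h.fr_all q]
    match_scalars <;> grind)
  have s4 : ∀ a b r ν k, ν ≠ 0 → σ k = k → s (a * ν) (b * ν) (k * r) = ν * σ ν * k * s a b r := fun a b r ν k ν0 hk => by
    by_cases k0 : k = 0
    · simp [k0, s3]
    obtain ⟨n, hn, n2⟩ := h.sqrt (h.nK ν)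
    obtain ⟨μ, hμ⟩ := sqrt_ex (k * n / ν)
    have ν1 : σ ν ≠ 0 := (map_ne_zero σ).2 ν0
    have n0 : n ≠ 0 := by rintro rfl; simp [ν0] at n2
    have μ0 : μ ≠ 0 := by rintro rfl; simp [ν0, k0, n0, eq_comm (a := (0 : F))] at hμ
    have N : μ * σ μ = k := sq_inj (by
      rw [mul_mul_mul_comm, ← map_mul, hμ, map_div₀, map_mul, hk, hn, div_mul_div_comm, ← n2]; field_simp)
    obtain ⟨x, tx⟩ := h.tq_ex q (mul_ne_zero ν0 μ0) μ0 (by rw [mul_assoc, hμ, mul_div_cancel₀ _ ν0, map_mul, hk, hn])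
    obtain ⟨x1, -, x2, -⟩ := h.tq_ap q tx
    have hx : ∀ c, ψ x * y (f + c • e) r * (ψ x)⁻¹ = y (f + (c * ν) • e) (k * r) := fun c => by
      rw [z.eqv _ _ _ (i _ (m _)), ← N, ← z.smul _ _ _ (i _ (m _)), map_add, map_smul, x1, x2]; congr 1; module
    refine ij ?_
    rw [← hs, ← add_mul, ← hx, ← hx, ← hx, show y f (k * r) = _ by simpa using (hx 0).symm, conj_mul, conj_mul, conj_mul, hs,
      z.eqv _ _ _ l.ee, x1, z.smul _ _ _ l.ee, map_mul, mul_mul_mul_comm, N]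
  have w : σ ω = 1 + ω := by grind
  have key := h.phi_eq hω (fun a b => s a b ω + ω * (a * σ b + σ a * b)) (fun a a' b => by
    obtain ⟨w, w1, w2⟩ := h.ln_w l a'
    obtain ⟨γ, p⟩ := h.va_ex l.ee w1
    have hx : ∀ c : F, ψ (ei B e w γ) * y (f + c • e) ω * (ψ (ei B e w γ))⁻¹ = y (f + (c + a') • e) ω := fun c => by
      rw [z.eqv _ _ _ (i _ (m _)), h.ei_perp p (by simp [l.ee, l.ef])]; congr 1; simp only [map_add, map_smul, w2, h.cm w1]; module
    have k := cjf.2 (z.cS h l.ee (Q_le (h.ei_mem_Q e w γ)) (s a b ω))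
    have h0 := hx 0
    rw [zero_smul, add_zero, zero_add] at h0
    conv_lhs at k => rw [← hs, ← conj_mul, ← conj_mul, ← conj_mul, hx, hx, hx, h0]
    have : s (a + a') b ω = s a b ω + s a' b ω := ij (by
      rw [z.add _ _ _ l.ee, ← k, ← hs, ← hs, add_right_comm a b, add_comm b]; simp only [mul_assoc, c1, c2, c3, c4, m, m2, mul_one])
    simp only [this, map_add]; ring) (fun a b => by
      rw [show s a b ω = s b a ω from ij (by rw [← hs, ← hs, add_comm a]; simp only [mul_assoc, c1, c2, m, m2])]; ring)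
    (by rw [show s 1 1 ω = 0 from ij (by rw [← hs, aa, zero_smul, add_zero, z.zero h l.ee]; simp only [mul_assoc, c3, c4, m, m2, one_mul])]
        simp [aa]) (fun ν a b ν0 => by
      have := s4 a b ω ν 1 ν0 (map_one σ)
      simp only [one_mul, mul_one] at this
      simp only [this, map_mul]; ring)
  refine ⟨s 1 ω ω + ω * (1 * σ ω + σ 1 * ω), ?_, fun a b r => ?_⟩
  · simp only [map_add, map_mul, map_one, ← s2, w, s1, s3 _ _ 1 (map_one σ)]; grind
  rw [hs]; congr 1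
  have k : r = (r + (r + σ r) * ω) + (r + σ r) * ω := by grind
  have := s4 a b ω 1 _ one_ne_zero (h.tK r)
  simp only [map_one, one_mul, mul_one] at this
  have k' := key a b
  conv_lhs => rw [k, s1, s3 _ _ _ (by simp only [map_add, map_mul, h.ss]; grind), this]
  grind

omit [Finite F] [Finite G] in
theorem P_symm (hv : B v v = 0) (hw : B w w = 0) (hvw : B v w = 0) (r : F) : PP y r v w = PP y r w v := by
  rw [PP, PP, add_comm, mul_assoc, z.comm v w r r hv hw hvw, mul_assoc]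

theorem P_zero (hv : B v v = 0) (r : F) : PP y r v 0 = 1 := by rw [PP, add_zero, z.sq h hv, z.zero' h, mul_one]

omit [Finite F] [Finite G] in
theorem P_add_r (hv : B v v = 0) (hw : B w w = 0) (hvw : B v w = 0) (r s : F) : PP y (r + s) v w = PP y r v w * PP y s v w := by
  obtain ⟨I, m1, m2, i, c1, c2, -⟩ := z.ac h hv hw hvw
  simp only [PP, z.add _ _ _ hv, z.add _ _ _ hw, z.add _ _ _ (i _ (add_mem m1 m2)), mul_assoc, c1, c2, m1, m2, add_mem m1 m2]

theorem P_sq (hv : B v v = 0) (hw : B w w = 0) (hvw : B v w = 0) (r : F) : PP y r v w * PP y r v w = 1 := by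
  rw [← z.P_add_r h hv hw hvw, aa, PP, z.zero h hv, z.zero h hw, z.zero h (by simp [hv, hw, hvw, h.cm hvw]), mul_one, mul_one]

/-- `tv_tv`. -/
theorem P_ext (hv : B v v = 0) (hw : B w w = 0) (hvw : B v w = 0) (hc : σ c = c) : PP y c v w = ψ (ei B v (c • w) 0) := by
  rw [PP, z.ext _ _ hv hc, z.ext _ _ hw hc, z.ext _ _ (by simp [hv, hw, hvw, h.cm hvw]) hc, ← map_mul, ← map_mul, h.tv_tv hv hw hvw hc,
    mul_assoc _ (tv B v c), h.tv_comm hvw, mul_assoc, ← mul_assoc (tv B w c), h.tv_sq, one_mul,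
    h.ei_tv ⟨hv, by simp [hvw], by simp [hc, hw, aa]⟩ hc, aa]

omit [Finite F] [Finite G] in
theorem P_eqv (hv : B v v = 0) (hw : B w w = 0) (hvw : B v w = 0) (x : SUG B) (r : F) :
    ψ x * PP y r v w * (ψ x)⁻¹ = PP y r (x.1 v) (x.1 w) := by
  rw [PP, ← conj_mul, ← conj_mul, z.eqv _ _ _ hv, z.eqv _ _ _ hw, z.eqv _ _ _ (by simp [hv, hw, hvw, h.cm hvw]), map_add, PP]

omit [Finite F] [Finite G] in
theorem P_t (hv : B v v = 0) (hw : B w w = 0) (hvw : B v w = 0) (r : F) : t * PP y r v w * t = PP y (σ r) v w := by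
  rw [PP, z.tc, z.tc, z.ct _ _ hv, z.ct _ _ hw, z.ct _ _ (by simp [hv, hw, hvw, h.cm hvw]), PP]

omit [Finite F] [Finite G] in
theorem P_y (hv : B v v = 0) (hw : B w w = 0) (hvw : B v w = 0) (hu : B u u = 0) (h1 : B u v = 0) (h2 : B u w = 0) (r s : F) :
    PP y r v w * y u s = y u s * PP y r v w :=
  Commute.mul_left (Commute.mul_left (z.comm _ _ r s (by simp [hv, hw, hvw, h.cm hvw]) hu (by simp [h.cm h1, h.cm h2]))
    (z.comm _ _ r s hv hu (h.cm h1))) (z.comm _ _ r s hw hu (h.cm h2))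

theorem P_pt (hv : B v v = 0) (hw : B w w = 0) (hvw : B v w = 0) (r : F) :
    PP y r v w * t * (PP y r v w)⁻¹ = t * ψ (ei B v ((r + σ r) • w) 0) := by
  rw [inv_eq_of_mul_eq_one_left (z.P_sq h hv hw hvw r), ← z.P_ext h hv hw hvw (h.tK r), add_comm, z.P_add_r h hv hw hvw,
    ← z.P_t h hv hw hvw]
  simp only [← mul_assoc, z.t2, one_mul]

theorem P_sc (hv : B v v = 0) (hw : B w w = 0) (hvw : B v w = 0) (r a : F) : PP y r (a • v) (a • w) = PP y (a * σ a * r) v w := by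
  rw [PP, ← smul_add, z.smul _ _ _ hv, z.smul _ _ _ hw, z.smul _ _ _ (by simp [hv, hw, hvw, h.cm hvw]), PP]

theorem P_sw (hv : B v v = 0) (hw : B w w = 0) (hvw : B v w = 0) (r : F) (ha : a ≠ 0) :
    PP y r v (a • w) = PP y (a * σ a * r) w (a⁻¹ • v) := by
  rw [← z.P_sc h hw (by simp [hv]) (by simp [h.cm hvw]), smul_inv_smul₀ ha, z.P_symm h hv (by simp [hw]) (by simp [hvw])]

theorem P_cS (hv : B v v = 0) (hw : B w w = 0) (hvw : B v w = 0) {x : SUG B} (h1 : x.1 v = v) (h2 : x.1 w = w) (r : F) :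
    ψ x * PP y r v w = PP y r v w * ψ x := cjf.1 (by rw [z.P_eqv h hv hw hvw, h1, h2])

theorem P_add0 (hv : B v v = 0) (hw : B w w = 0) (hvw : B v w = 0) {r a b : F} (k : y (v + (a + b) • w) r * y (v + a • w) r *
    y (v + b • w) r * y v r = y w (r * (a * σ b + σ a * b) + c)) :
    PP y r v ((a + b) • w) = PP y r v (a • w) * PP y r v (b • w) * y w c := by
  obtain ⟨I, m1, m2, i, c1, c2, c3, c4⟩ := z.ac h hv hw hvw
  have : y ((a + b) • w) r = y (a • w) r * y (b • w) r * y w (r * (a * σ b + σ a * b) + c) * y w c := by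
    simp only [z.smul _ _ _ hw, ← z.add _ _ _ hw, map_add]; congr 1; grind
  simp (maxDischargeDepth := 4) only [PP, this, ← k, mul_assoc, c1, c2, c3, c4, m1, m2, add_mem, I.smul_mem, mul_one]

theorem D_ex (l : Ln B e f) (hc : σ c = c) (c0 : c ≠ 0) (r a : F) : ∃ α β α' : F, σ α = α ∧ σ α' = α' ∧
    PP y (c⁻¹ * r) f ((c * a) • e) * PP y r f (a • e) = ψ (ei B e (β • f) α * tv B f α') := by
  have i : ∀ a : F, B (a • e) (a • e) = 0 := fun a => by simp [l.ee]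
  have j : ∀ a : F, B f (a • e) = 0 := fun a => by simp [h.cm l.ef]
  have m1 : e ∈ Submodule.span F {e, f} := Submodule.subset_span (by simp)
  have m2 : f ∈ Submodule.span F {e, f} := Submodule.subset_span (by simp)
  have cS : ∀ x ∈ Fix B (Submodule.span F {e, f}), ∀ r (a : F), PP y r f (a • e) * ψ x = ψ x * PP y r f (a • e) := fun x hx r a =>
    (z.P_cS h l.ff (i a) (j a) (mem_Fix.1 hx f m2) (mem_Fix.1 hx _ (Submodule.smul_mem _ a m1)) r).symm
  obtain ⟨w, hw, k⟩ := z.cw h (h.ln_ti l).1 (h.ln_ti l).2.ge (k := PP y (c⁻¹ * r) f ((c * a) • e) * PP y r f (a • e)) (cjf.1 (by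
    have m := h.ei_W m2 (Submodule.smul_mem _ (r + σ r) (Submodule.smul_mem _ a m1)) 0
    rw [mul_inv_rev, mul_assoc, mul_assoc, ← mul_assoc t, ← mul_assoc (PP y r _ _), ← mul_assoc (PP y r _ _), z.P_pt h l.ff (i a) (j a),
      ← mul_assoc, ← conj_mul, z.P_pt h l.ff (i _) (j _), cjf.2 (cS _ (h.W_le (h.ln_ti l).1 m) _ _), mul_assoc, ← map_mul,
      show (c⁻¹ * r + σ (c⁻¹ * r)) • (c * a) • e = (r + σ r) • a • e by rw [map_mul, map_inv₀, hc]; match_scalars; field_simp,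
      h.W_el (h.ln_ti l).1 _ m, map_one, mul_one])) (fun x hx => Commute.mul_left (cS x hx _ _) (cS x hx _ _)) m1 l.ne
    fun s => Commute.mul_left (z.P_y h l.ff (i _) (j _) l.ee l.ef (by simp [l.ee]) _ s) (z.P_y h l.ff (i _) (j _) l.ee l.ef (by simp [l.ee]) _ s)
  obtain ⟨α, β, α', h1, h2, rfl⟩ := (h.mem_Wl l).1 hw
  exact ⟨α, β, α', h1, h2, k⟩

theorem D_ei (l : Ln B e f) {k₁ : F} (hk : σ k₁ = k₁) (k : ∀ a b r, y (f + (a + b) • e) r * y (f + a • e) r * y (f + b • e) r * y f r =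
    y e ((r + k₁ * (r + σ r)) * (a * σ b + σ a * b))) (hc : σ c = c) (c0 : c ≠ 0) (r : F) : ∃ α β : F → F, (∀ a, σ (α a) = α a ∧
    PP y (c⁻¹ * r) f ((c * a) • e) * PP y r f (a • e) = ψ (ei B e (β a • f) (α a) * tv B f 0)) ∧
    ∀ a b, α (a + b) = α a + α b + (c + 1) * k₁ * (r + σ r) * (a * σ b + σ a * b) := by
  choose α β α' h1 h2 hD using z.D_ex h l hc c0 r
  have ad : ∀ a b, α (a + b) = α a + α b + (c + 1) * k₁ * (r + σ r) * (a * σ b + σ a * b) ∧ α' (a + b) = α' a + α' b := fun a b => by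
    have s : σ ((c + 1) * k₁ * (r + σ r) * (a * σ b + σ a * b)) = (c + 1) * k₁ * (r + σ r) * (a * σ b + σ a * b) := by
      simp only [map_mul, map_add, map_one, h.ss, hc, hk]; ring
    have := z.wl_inj h l (h1 (a + b)) (h2 (a + b)) (β := β (a + b)) (ε := β a + β b + 0) (δ' := α' a + α' b + 0)
      (δ := α a + α b + (c + 1) * k₁ * (r + σ r) * (a * σ b + σ a * b)) (by simp only [map_add, h1, s]) (by simp [h2]) (by
      rw [← h.Wl_mul l (by simp [h1]) (by simp [h2]) s (map_zero σ), ← h.Wl_mul l (h1 a) (h2 a) (h1 b) (h2 b), ← hD, map_mul, map_mul,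
        ← hD, ← hD, zero_smul, h.tv_zero, mul_one, ← tv, ← z.ext _ _ l.ee s, mul_add,
        z.P_add0 h l.ff l.ee (h.cm l.ef) (c := c * k₁ * (r + σ r) * (a * σ b + σ a * b)) (by
          rw [k]; congr 1; simp only [map_mul, map_inv₀, hc]; field_simp),
        z.P_add0 h l.ff l.ee (h.cm l.ef) (c := k₁ * (r + σ r) * (a * σ b + σ a * b)) (by rw [k]; congr 1; ring), add_mul c, add_mul,
        add_mul, one_mul, z.add _ _ _ l.ee]
      obtain ⟨I, m1, m2, i, c1, c2, c3, c4⟩ := z.ac h l.ee l.ff l.ef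
      simp (maxDischargeDepth := 4) only [PP, mul_assoc, c1, c2, c3, c4, m1, m2, add_mem, I.smul_mem, mul_one])
    exact ⟨this.1, this.2.2.trans (add_zero _)⟩
  obtain ⟨n, n1, n2⟩ := h.n1
  obtain ⟨e', f', q⟩ := h.fr_ex l
  have n0 := left_ne_zero_of_mul_eq_one n1
  obtain ⟨x, tx⟩ := h.tq_ex q n0 (inv_ne_zero n0) (by simp [n0])
  obtain ⟨x1, -, x2, -⟩ := h.tq_ap q tx
  have n3 : n⁻¹ * σ n⁻¹ = 1 := by rw [map_inv₀, ← mul_inv, n1, inv_one]
  have cj : ∀ r (a : F), ψ x * PP y r f (a • e) * (ψ x)⁻¹ = PP y r f ((n * n * a) • e) := fun r a => by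
    rw [z.P_eqv h l.ff (by simp [l.ee]) (by simp [h.cm l.ef]), map_smul, x1, x2, show a • n • e = n⁻¹ • (n * n * a) • e by
      match_scalars; field_simp, z.P_sc h l.ff (by simp [l.ee]) (by simp [h.cm l.ef]), n3, one_mul]
  have iv : ∀ a, α' (n * n * a) = α' a := fun a => (z.wl_inj h l (h1 _) (h2 _) (h1 a) (h2 a) (ε := σ n * (β a * n⁻¹)) (by
    rw [← hD, mul_left_comm c, ← cj, ← cj, conj_mul, hD, ← map_inv, ← map_mul, ← map_mul, ← conj_mul, h.ei_conj, h.tv_conj, map_smul, x1,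
      x2, h.tv_smul l.ff (h2 a), h.ei_smul ⟨l.ee, by simp [l.ef], by simp [l.ff, h1, aa]⟩, n1, n3, one_mul, one_mul, smul_smul,
      smul_smul, mul_assoc])).2.2
  refine ⟨α, β, fun a => ⟨h1 a, ?_⟩, fun a b => (ad a b).1⟩
  have := (ad (n * n * (a / (1 + n * n))) (a / (1 + n * n))).2
  rw [iv, aa, show n * n * (a / (1 + n * n)) + a / (1 + n * n) = a by
    rw [add_comm, ← one_add_mul, mul_div_cancel₀ _ (add1_ne n2)]] at this
  rw [hD, this]

/-- `Π(r; a) = PP y r f (a e)`, `Π(r; a + b) = Π(r; a) Π(r; b) ψ (tv e (k₁ d Tr (a σ b)))`; `Π'(r; c) = PP y r e (c f)` likewise with `k₁'`, `tv f`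
(`ln_symm`), and `Π(r; a) = Π'(N a r; a⁻¹)`.
`q = 2`: `Π(r; σ c) = Π'(r; c)`, so `tv e (k₁ …) = tv f (k₁' …)`, `Wl_inj`.
`q ≥ 4`: `s ∈ K`, `s ≠ 0, 1`; `D(r; a) = Π(s⁻¹ r; s a) Π(r; a) = ψ (ei e (β f) α · tv f α')` (`cw`).
`D(r; a + b) = D(r; a) D(r; b) ψ (tv e ((s + 1) k₁ d Tr (a σ b)))`, so `α'` is additive in `a`; `Tq (l, l⁻¹)`, `N l = 1`:
`α'(l² a) = α'(a)`, so `α' = 0`.  This applied to `(f, e)`, `s⁻¹` gives `α = 0`.  Compare the `e e^*` entries (`Wl_mul`). -/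
theorem kap (he : B e e = 0) (hf : B f f = 0) (hef : B e f = 0) (a b r : F) :
    y (f + (a + b) • e) r * y (f + a • e) r * y (f + b • e) r * y f r = y e (r * (a * σ b + σ a * b)) := by
  by_cases e0 : e = 0
  · simp [e0, z.zero' h, z.sq h hf, mul_assoc]
  by_cases m : f ∈ F ∙ e
  · obtain ⟨c, rfl⟩ := Submodule.mem_span_singleton.1 m
    simp only [← add_smul, z.smul _ _ _ he, ← z.add _ _ _ he, map_add]; congr 1; grind
  have l : Ln B e f := ⟨he, hf, hef, e0, m⟩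
  have l' := h.ln_symm l
  obtain ⟨k₁, h1, k⟩ := z.kap0 h l
  obtain ⟨k₂, h2, k'⟩ := z.kap0 h l'
  obtain ⟨ω, hω⟩ := h.om
  have w0 : ω ≠ 0 := by rintro rfl; simp at hω
  have w1 : 1 + ω ≠ 0 := add1_ne (by rintro rfl; simp [aa] at hω)
  suffices k₁ = 0 by simpa [this] using k a b r
  by_cases hq : ∀ c, σ c = c → c = 0 ∨ c = 1
  · have sw : ∀ a : F, a ≠ 0 → PP y ω f (a • e) = PP y ω e (σ a • f) := fun a a0 => by
      rw [z.P_sw h hf he l'.ef ω a0, (h.two hq).2.1 a a0, one_mul, inv_eq_of_mul_eq_one_right ((h.two hq).2.1 a a0)]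
    have a1 := z.P_add0 h hf he l'.ef (c := k₁) (r := ω) (a := 1) (b := ω) (by rw [k]; congr 1; simp only [map_one]; grind)
    have a2 := z.P_add0 h he hf hef (c := k₂) (r := ω) (a := σ 1) (b := σ ω) (by rw [k']; congr 1; simp only [map_one, h.ss]; grind)
    rw [sw _ w0, sw _ w1, sw _ one_ne_zero, map_add, a2, mul_right_inj, z.ext _ _ hf h2, z.ext _ _ he h1] at a1
    by_contra n
    obtain ⟨a, -, ha, -⟩ := h.tv_eq e0 he hf h1 h2 n (z.i2 h (h.tv_sq ..) (h.tv_sq ..) a1.symm)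
    exact m (Submodule.mem_span_singleton.2 ⟨a, ha.symm⟩)
  push Not at hq
  obtain ⟨c, hc, c0, c1⟩ := hq
  obtain ⟨α, β, a1, a2⟩ := z.D_ei h l h1 k hc c0 ω
  have a0 : ∀ a, a ≠ 0 → α a = 0 := fun a a0 => by
    obtain ⟨α', β', b1, -⟩ := z.D_ei h l' h2 k' (c := c⁻¹) (by simp [hc]) (inv_ne_zero c0) (a * σ a * ω)
    refine (z.wl_inj h l (a1 a).1 (map_zero σ) (map_zero σ) (b1 a⁻¹).1 (β := β a) (ε := σ (β' a⁻¹)) ?_).1
    have p := Va.zero hf (w := β' a⁻¹ • e) (by simp [he]) (by simp [l'.ef])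
    rw [← (a1 a).2, z.P_sw h hf he l'.ef _ a0, z.P_sw h hf he l'.ef _ (mul_ne_zero c0 a0), mul_inv,
      show c * a * σ (c * a) * (c⁻¹ * ω) = c⁻¹⁻¹ * (a * σ a * ω) by rw [map_mul, hc]; field_simp, (b1 a⁻¹).2, h.tv_zero, mul_one,
      ← zero_add (α' _), ← h.ei_tv p (b1 _).1, h.ei_symm hf (by simp [he]) p.ew, h.ei_smul (.zero he hf hef), mul_zero, zero_add]
  have := a2 1 ω
  rw [a0 _ w0, a0 _ w1, a0 _ one_ne_zero, hω, map_one, one_mul, one_mul, add_comm (σ ω), hω] at this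
  simpa [add_comm c, add1_ne c1] using this

theorem P_add (hv : B v v = 0) (hw : B w w = 0) (hvw : B v w = 0) (r a b : F) :
    PP y r v ((a + b) • w) = PP y r v (a • w) * PP y r v (b • w) := by
  rw [z.P_add0 h hv hw hvw (c := 0) (by rw [z.kap h hw hv (h.cm hvw), add_zero]), z.zero h hw, mul_one]

theorem P_shift (hv : B v v = 0) (hw : B w w = 0) (hvw : B v w = 0) (r a : F) :
    PP y r v (w + a • v) = PP y r v w * y v (r * (a + σ a)) := by
  obtain ⟨I, m1, m2, i, c1, c2, c3, c4⟩ := z.ac h hv hw hvw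
  have k := z.kap h hv hw hvw 1 a r
  rw [map_one, one_mul, one_mul, add_comm (σ a), one_smul, add_comm w v, show w + (1 + a) • v = v + (w + a • v) by module] at k
  simp (maxDischargeDepth := 4) only [PP, ← k, mul_assoc, c1, c2, c3, c4, m1, m2, add_mem, I.smul_mem, mul_one]

/-- `PP r (a v) (a w) = PP (N a r) v w`.  Expand `PP r ((1 + k) v) ((1 + k) w)`: `PP r v (k w) = PP r (k v) w`; `sqrt`. -/
theorem P_K (hv : B v v = 0) (hw : B w w = 0) (hvw : B v w = 0) (hc : σ c = c) (r : F) : PP y (c * r) v w = PP y r v (c • w) := by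
  obtain ⟨k, hk, rfl⟩ := h.sqrt hc
  have ad : ∀ {w}, B w w = 0 → B v w = 0 → PP y r ((1 + k) • v) w = PP y r v w * PP y r (k • v) w := fun hw hvw => by
    rw [z.P_symm h (by simp [hv]) hw (by simp [hvw]), z.P_add h hw hv (h.cm hvw), one_smul, z.P_symm h hw hv (h.cm hvw),
      z.P_symm h hw (by simp [hv]) (by simp [h.cm hvw])]
  have sw : ∀ {w}, B w w = 0 → B v w = 0 → PP y r v (k • w) = PP y r (k • v) w := fun {w} hw hvw => by
    have := z.P_sc h hv hw hvw r (1 + k)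
    rw [z.P_add h (by simp [hv]) hw (by simp [hvw]), one_smul, ad hw hvw, ad (by simp [hw]) (by simp [hvw]), z.P_sc h hv hw hvw,
      show (1 + k) * σ (1 + k) * r = r + k * σ k * r by simp only [map_add, map_one, hk]; grind, z.P_add_r h hv hw hvw, mul_assoc,
      mul_right_inj, ← mul_assoc, mul_eq_right] at this
    rw [eq_inv_of_mul_eq_one_right this, inv_eq_of_mul_eq_one_left (z.P_sq h (by simp [hv]) hw (by simp [hvw]) r)]
  rw [mul_smul, sw (by simp [hw]) (by simp [hvw]), z.P_sc h hv hw hvw, hk]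

/-- `PP r (a v) w = PP (N a r) v (a⁻¹ w)`. -/
theorem P_smul (hv : B v v = 0) (hw : B w w = 0) (hvw : B v w = 0) (r a : F) : PP y r (a • v) w = PP y r v (σ a • w) := by
  by_cases ha : a = 0
  · rw [ha, map_zero, zero_smul, zero_smul, z.P_symm h (by simp) hw (by simp), z.P_zero h hv, z.P_zero h hw]
  rw [← smul_inv_smul₀ ha w, z.P_sc h hv (by simp [hw]) (by simp [hvw]), z.P_K h hv (by simp [hw]) (by simp [hvw]) (h.nK a), mul_comm,
    mul_smul]

end ZA

end Cfsg.Lib.U42
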