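import Cfsg.Agent.Lib.U42.MA_b

/-!
# S3138 (copy of `USt`, `q = 2`, dimension `4`): geometry of the model.  See `docs/U42.md`.
-/

set_option autoImplicit false
set_option linter.unusedSectionVars false

namespace Cfsg.Lib.U42

open Module Subgroup G2S Cfsg.Lib.BG Cfsg.Lib.GW GSt.SLa Cfsg.Lib.Unitary
open scoped commutatorElement Cfsg.Lib.Transfer

variable {F V : Type*} [Field F] [CharP F 2] [Finite F] [AddCommGroup V] [Module F V] [Finite V] {σ : F →+* F}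
  {B : V →ₛₗ[σ] V →ₗ[F] F} {e e' f f' g u v w e₁ f₁ : V} {a b c d γ : F} {x y : SUG B} {I : Submodule F V}

theorem Ln.smul (p : Ln B e f) (ha : a ≠ 0) : Ln B e (a • f) :=
  ⟨p.ee, by simp [p.ff], by simp [p.ef], p.ne, fun k => p.nm (by simpa [ha] using Submodule.smul_mem _ a⁻¹ k)⟩

theorem add1_ne (h : a ≠ 1) : 1 + a ≠ 0 := fun z => h (CharTwo.add_eq_zero.1 z).symm

namespace Ok
variable (h : Ok B)
include h

theorem s_ex : ∃ s : F, s ≠ 0 ∧ s ≠ 1 :=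
  let ⟨l, h1, h2⟩ := h.n1; ⟨l, left_ne_zero_of_mul_eq_one h1, fun k => h2 (by rw [k, mul_one])⟩

theorem tq_K (p : Fr B e e' f f') (hc : σ c = c) (c0 : c ≠ 0) : ∃ x : SUG B, x.1 e = e ∧ x.1 f = c • f := by
  obtain ⟨x, k⟩ := h.tq_ex p one_ne_zero c0 (by rwa [one_mul])
  exact ⟨x, by simpa using (h.tq_ap p k).1, (h.tq_ap p k).2.2.1⟩

theorem ei_tri (hf : B f f = 0) (hw : B w w = 0) (hfw : B f w = 0) {s : F} (a1 : x.1 f = f) (a2 : x.1 w = s • w) (b1 : y.1 f = f)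
    (b2 : y.1 w = (1 + s) • w) : ei B f w 0 * ei B f w 0 = 1 ∧ y * ei B f w 0 * y⁻¹ = ei B f w 0 * (x * ei B f w 0 * x⁻¹) := by
  have p := Va.zero hf hw hfw
  refine ⟨by rw [h.ei_sq p, hw, h.tv_zero], ?_⟩
  rw [h.ei_conj, h.ei_conj, a1, a2, b1, b2, h.ei_mul p (.zero hf (by simp [hw]) (by simp [hfw])), add_smul, one_smul]
  simp [hw]

theorem tv_of_ei {N : Subgroup (SUG B)} (he : B e e = 0) (q : Hy B f f') (h1 : B e f = 0) (h2 : B e f' = 0) (k : ei B e f 0 ∈ N)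
    (k' : ∀ t : F, t ≠ 0 → ei B e (t • f') 0 ∈ N) (hc : σ c = c) : tv B e c ∈ N := by
  obtain ⟨t, rfl⟩ := h.herm.exists_trace_eq hc
  by_cases t0 : t = 0
  · simp [t0, h.tv_zero]
  have := h.tv_cm' (.zero he q.ee h1) (.zero he (w := t • f') (by simp [q.ff]) (by simp [h2]))
  rw [h.bf_eq, map_smul, q.ef, smul_eq_mul, mul_one] at this
  rw [this, commutatorElement_def]
  exact mul_mem (mul_mem (mul_mem k (k' t t0)) (inv_mem k)) (inv_mem (k' t t0))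

theorem Q_of_ei {N : Subgroup (SUG B)} (h0 : e ≠ 0) (he : B e e = 0) (k : ∀ w, Ln B e w → ei B e w 0 ∈ N) : Q B e ≤ N := by
  obtain ⟨e', p⟩ := h.hy_ex h0 he
  obtain ⟨f, f', q⟩ := h.fr_ex' p
  have q' : Fr B e e' f' f := ⟨q.he, h.hy_symm q.hf, q.ef', q.ef, q.e'f', q.e'f⟩
  have z : ∀ c, σ c = c → tv B e c ∈ N := fun c => h.tv_of_ei he q.hf q.ef q.ef' (k f (h.fr_ln q)) fun t t0 =>
    k _ ((h.fr_ln q').smul t0)
  have df : ∀ {w γ γ'}, Va B e w γ → Va B e w γ' → ei B e w γ ∈ N → ei B e w γ' ∈ N := fun {w γ γ'} p p' m => by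
    have s : σ (γ + γ') = γ + γ' := by rw [map_add]; linear_combination p.tr - p'.tr - aa γ + aa (σ γ') + aa γ' - aa γ'
    have := mul_mem m (z _ s)
    rwa [h.ei_tv p s, ← add_assoc, aa, zero_add] at this
  intro x hx
  obtain ⟨w, γ, p, rfl⟩ := h.Q_ex' h0 he hx
  refine h.ind1 he (P := fun w => ∀ γ, Va B e w γ → ei B e w γ ∈ N) (fun u hu eu γ p => df (.zero he hu eu) p ?_)
    (fun u v eu ev hu hv γ p => ?_) p.ew γ p
  · by_cases m : u ∈ F ∙ e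
    · obtain ⟨a, rfl⟩ := Submodule.mem_span_singleton.1 m
      have := h.ei_shift (Va.tv he (map_zero σ)) a
      rw [zero_add, zero_add] at this
      exact this ▸ z _ (h.tK a)
    · exact k u ⟨he, hu, eu, h0, m⟩
  · obtain ⟨γ₁, p₁⟩ := h.va_ex he eu
    obtain ⟨γ₂, p₂⟩ := h.va_ex he ev
    exact df (h.va_mul p₁ p₂) p (h.ei_mul p₁ p₂ ▸ mul_mem (hu _ p₁) (hv _ p₂))

/-- An additive `M` with `M w ∈ F w` (or `K w`) for all `w` is a scalar: compare independent vectors. -/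
theorem scal (p : Hy B e e') (M : hypPerp B e e' →+ hypPerp B e e') (k : ∀ w, ∃ a : F, M w = a • w) : ∃ a : F, ∀ w, M w = a • w := by
  obtain ⟨f, f', q⟩ := h.fr_ex' p
  lift f to hypPerp B e e' using mem_hypPerp.2 ⟨q.ef, q.e'f⟩
  lift f' to hypPerp B e e' using mem_hypPerp.2 ⟨q.ef', q.e'f'⟩
  have f0 : f ≠ 0 := fun z => q.hf.ne (congrArg Subtype.val z)
  obtain ⟨a, ha⟩ := k f
  have n : ∀ w, w ∉ F ∙ f → M w = a • w := fun w hw => by
    obtain ⟨b, hb⟩ := k w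
    obtain ⟨c, hc⟩ := k (f + w)
    rw [map_add, ha, hb] at hc
    have := LinearIndependent.pair_iff.1 ((LinearIndependent.pair_iff' f0).2 fun t ht => hw (Submodule.mem_span_singleton.2 ⟨t, ht⟩))
      (a - c) (b - c) (by linear_combination (norm := module) hc)
    rw [hb, sub_eq_zero.1 this.1, sub_eq_zero.1 this.2]
  have n' : f' ∉ F ∙ f := fun z => by
    obtain ⟨t, rfl⟩ := Submodule.mem_span_singleton.1 z
    simpa [q.hf.ee] using q.hf.ef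
  refine ⟨a, fun w => ?_⟩
  by_cases hw : w ∈ F ∙ f
  · have := n (w + f') fun z => n' ((Submodule.add_mem_iff_right _ hw).1 z)
    rwa [map_add, n f' n', smul_add, add_left_inj] at this
  · exact n w hw

/-- The centroid of `bf`.  `ker (bf v) ≤ ker (bf (M v))` as `K`-linear functionals, so `M v ∈ K v`; compare `K`-independent
vectors. -/
theorem centroid (p : Hy B e e') (M : hypPerp B e e' →+ hypPerp B e e') (φ : F → F) (h0 : φ 0 = 0)
    (k : ∀ v w : hypPerp B e e', bf B (M v).1 w.1 = φ (bf B v.1 w.1)) : ∃ a : F, σ a = a ∧ ∀ w, M w = a • w := by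
  obtain ⟨a, ha⟩ := h.scal p M fun v => by
    obtain ⟨a, ha⟩ := Submodule.mem_span_singleton.1 (hm_nd (h.herm.isHerm_hypPerp p.ee p.ef) (e := v) (v := M v) fun w hw => by
      have hw' : B v w = 0 := hw
      exact (k v w).trans (by rw [h.bf_eq, hw', map_zero, add_zero, h0]))
    exact ⟨a, ha.symm⟩
  obtain ⟨f, f', q⟩ := h.fr_ex' p
  have := k ⟨f, mem_hypPerp.2 ⟨q.ef, q.e'f⟩⟩ ⟨f', mem_hypPerp.2 ⟨q.ef', q.e'f'⟩⟩
  simp [ha, bf, h.fr_all q, aa, h0] at this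
  exact ⟨a, CharTwo.add_eq_zero.1 this, ha⟩

/-- `exists_smul_of_commute_levi` for `hypPerp`, `exists_levi`. -/
theorem endo' (p : Hy B e e') (M : hypPerp B e e' →+ hypPerp B e e')
    (k : ∀ (x : SUG B) (a : F) (v w : hypPerp B e e'), x.1 e = a • e → x.1 e' = (σ a)⁻¹ • e' → σ a • x.1 v = w →
      σ a • x.1 (M v) = M w) : ∃ a : F, ∀ w, M w = a • w := by
  obtain ⟨n, -, hq⟩ := h.bar
  refine (h.herm.isHerm_hypPerp p.ee p.ef).exists_smul_of_commute_levi hq (by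
    have := h.herm.finrank_hypPerp p.ee p.ef; have := h.d4; omega) M fun g hg a ha hd w => Subtype.ext ?_
  obtain ⟨l, h1, h2, h3, h4⟩ := h.herm.exists_levi p.ee p.ff p.ef hg ha hd
  rw [← k ⟨l, h1⟩ a w (σ a • g w) h2 h3 (by rw [h4]; rfl), h4]; rfl

theorem eig (ha : a * σ a = 1) (k : x.1 u = a • u) (v : V) : B u (x.1 v) = a * B u v := by
  rw [← iso x u v, k, LinearMap.map_smulₛₗ, LinearMap.smul_apply, smul_eq_mul, ← mul_assoc, ha, one_mul]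

theorem wt_r {l : F} (ha : a * σ a = 1) (k : x.1 u = a • u) (hu : B u u ≠ 0) (hl : l * σ l = 1) : ∃ r ∈ UG B,
    LinearMap.det (r : V →ₗ[F] V) = l ∧ Commute x.1 r ∧ r u = l • u ∧ ∀ v, B u v = 0 → r v = v := by
  obtain ⟨r, r1, r2, r3, r4, r5⟩ := h.herm.exists_quasiReflection hu hl
  refine ⟨r, r1, r2, LinearEquiv.ext fun v => ?_, r3, r4⟩
  simp only [LinearEquiv.mul_apply, r5 v, r5 (x.1 v), map_add, map_smul, k, h.eig ha k]
  module

theorem wt_t {μ : F} (p : Hy B u w) (ha : a * σ a = 1) (k : x.1 u = a • u) (k' : x.1 w = a • w) (hμ : μ ≠ 0) : ∃ t ∈ UG B,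
    LinearMap.det (t : V →ₗ[F] V) = μ / σ μ ∧ Commute x.1 t ∧ t u = μ • u ∧ t w = (σ μ)⁻¹ • w ∧ ∀ v, B u v = 0 → B w v = 0 → t v = v := by
  obtain ⟨t, t1, t2, t3⟩ := h.tor_ex p hμ
  refine ⟨t, t1, t2, LinearEquiv.ext fun v => ?_, ?_, ?_, fun v a b => by simp [t3, a, b]⟩
  · simp only [LinearEquiv.mul_apply, t3 v, t3 (x.1 v), map_add, map_smul, k, k', h.eig ha k, h.eig ha k']
    module
  · simp only [t3, p.ee, h.fe p, p1]; module
  · simp only [t3, p.ff, p.ef, p1]; module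

/-- `u = u₁ + u₂`, `u₁ ∈ P = ⟨f, f'⟩`, `u₂ ∈ P'` (the complement of the frame).  If `u₂ = 0` take `y = x`; if `u₁ = 0` too.
Otherwise `y` stabilizes `P`, `P'` (so commutes with `x`), multiplying `u₁`, `u₂` by `μ`.
`u₁`, `u₂` non-isotropic: the quasi-reflections `l` on `u₁`, `u₂` and `l' = σ l`.
`u₁`, `u₂` isotropic with partners `u₁' ∈ P`, `u₂' ∈ P'`: tori on these pairs, `μ ∈ K` for `q ≠ 2`; for `m ≥ 7` a quasi-reflection on a
non-isotropic vector of `P' ∩ ⟨u₂, u₂'⟩^⊥` corrects the determinant; `l' = 1`. -/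
theorem wt {l : F} (p : Fr B e e' f f') (hl : l * σ l = 1) (hl' : l * l ≠ 1) (k : Tq B e e' f f' l l⁻¹ x)
    (hu : B u u = 0) (h1 : B e u = 0) (h2 : B e' u = 0) : ∃ (y : SUG B) (l' μ : F), x * y = y * x ∧ l' * σ l' = 1 ∧
      y.1 e = l' • e ∧ y.1 e' = l' • e' ∧ y.1 u = μ • u ∧ σ l' * μ ≠ 1 := by
  obtain ⟨x1, x2, x3, x4, x5⟩ := h.tq_ap p k
  have s : σ l = l⁻¹ := eq_inv_of_mul_eq_one_right hl
  have l0 : l ≠ 0 := left_ne_zero_of_mul_eq_one hl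
  have l1 : l ≠ 1 := fun z => hl' (by rw [z, mul_one])
  rw [map_inv₀, inv_inv, s] at x4
  rw [s, inv_inv] at x2
  have hi : l⁻¹ * σ l⁻¹ = 1 := by rw [map_inv₀, ← mul_inv, hl, inv_one]
  have o : (1 : F) * σ 1 = 1 := by simp
  have z := h.fr_all p
  obtain ⟨u₂, k1, k2, k3, k4, k5⟩ := h.fr_dec p u
  obtain ⟨u₁, α, β, d, rfl⟩ : ∃ (u₁ : V) (α β : F), u₁ = α • f + β • f' ∧ u = u₁ + u₂ :=
    ⟨_, B f' u, B f u, rfl, by rw [h1, h2] at k5; linear_combination (norm := module) k5⟩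
  clear k5
  have xu₁ : x.1 u₁ = l⁻¹ • u₁ := by rw [d, map_add, map_smul, map_smul, x3, x4]; module
  have xu₂ : x.1 u₂ = (1 : F) • u₂ := by rw [x5 u₂ k1 k2 k3 k4, one_smul]
  have e1 : B e u₁ = 0 := by simp [d, z]
  have e2 : B e' u₁ = 0 := by simp [d, z]
  have e3 : B u₁ u₂ = 0 := by simp [d, k3, k4]
  obtain ⟨Y, m, -, dY⟩ := h.fr_perp p
  have z₂ : u₂ = 0 := (Submodule.mem_bot F).1 (Submodule.finrank_eq_zero.1 (show finrank F Y = 0 by have := h.dim; omega) ▸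
    (m _).2 ⟨k1, k2, k3, k4⟩)
  exact ⟨x, l, l⁻¹, rfl, hl, x1, x2, by simp [z₂, xu₁], by rwa [s, ← mul_inv, Ne, inv_eq_one]⟩

end Ok

end Cfsg.Lib.U42
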