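import Cfsg.Agent.Lib.U42.Def

/-!
# S3138 (copy of `USt`, `q = 2`, dimension `4`): elementary abelian subgroups of the unitary group in characteristic `2`.  See `docs/U42.md`.
-/

set_option autoImplicit false

namespace Cfsg.Lib.U42

open Module Subgroup Cfsg.Lib.Unitary

universe u

variable {F : Type*} [Field F] [CharP F 2] [Finite F] {σ : F →+* F} {q : ℕ}

theorem card_sing_aux (hq : IsBar q σ) (n : ℕ) : ∀ (V : Type u) [AddCommGroup V] [Module F V] [Finite V] (B : V →ₛₗ[σ] V →ₗ[F] F),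
    IsHerm σ B → finrank F V = n → ∀ A : AddSubgroup V, (∀ v ∈ A, B v v = 0) → Nat.card A ≤ q ^ (2 * (n / 2)) := by
  induction n using Nat.strong_induction_on with | _ n ih =>
  intro V _ _ _ B h hn A hA
  by_cases c : ∀ u ∈ A, ∀ v ∈ A, B u v = 0
  · have h1 := h.two_mul_finrank_le (W := Submodule.span F (A : Set V))
      (Submodule.span_le.2 fun v hv => mem_perp_span.2 fun u hu => c u hu v hv)
    calc Nat.card A ≤ Nat.card (Submodule.span F (A : Set V)) :=
          Nat.card_le_card_of_injective (fun v => ⟨v.1, Submodule.subset_span v.2⟩) fun a b e => Subtype.ext (congrArg (·.1) e)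
      _ ≤ _ := by
        rw [Module.natCard_eq_pow_finrank (K := F), hq.card, ← pow_mul]
        exact Nat.pow_le_pow_right (by have := hq.two_le; omega) (by omega)
  push Not at c
  obtain ⟨a, ha, b, hb, c⟩ := c
  have hK : ∀ u ∈ A, ∀ v ∈ A, σ (B u v) = B u v := fun u hu v hv => by
    have := hA _ (A.add_mem hu hv)
    simp only [map_add, LinearMap.add_apply, hA u hu, hA v hv, zero_add, add_zero] at this
    rw [h.symm, CharTwo.add_eq_zero.1 this]
  have hf : B a ((B a b)⁻¹ • b) = 1 := by simp [c]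
  have h2 := h.finrank_hypPerp (hA a ha) hf
  let ψ : A →+ fixedField σ × fixedField σ := AddMonoidHom.mk' (fun v => (⟨B a v, hK a ha v v.2⟩, ⟨B b v, hK b hb v v.2⟩))
    fun u v => by ext <;> simp
  have h3 := ih (n - 2) (by omega) _ _ (h.isHerm_hypPerp (hA a ha) hf) (by omega)
    (A.comap (hypPerp B a ((B a b)⁻¹ • b)).subtype.toAddMonoidHom) fun v hv => hA _ hv
  have h4 : Nat.card ψ.ker ≤ Nat.card (A.comap (hypPerp B a ((B a b)⁻¹ • b)).subtype.toAddMonoidHom) :=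
    Nat.card_le_card_of_injective (fun v => ⟨⟨v.1.1, mem_hypPerp.2 ⟨congrArg (·.1.1) v.2, by
      rw [LinearMap.map_smulₛₗ, LinearMap.smul_apply, show B b v.1.1 = 0 from congrArg (·.2.1) v.2, smul_zero]⟩⟩, v.1.2⟩)
      fun a b e => Subtype.ext (Subtype.ext (congrArg (·.1.1) e))
  have h5 : Nat.card ψ.range ≤ q ^ 2 := by
    refine (Nat.card_le_card_of_injective _ Subtype.val_injective).trans ?_
    rw [Nat.card_prod, hq.card_fixedField, sq]
  rw [← AddSubgroup.card_mul_index ψ.ker, AddSubgroup.index_ker, show 2 * (n / 2) = 2 * ((n - 2) / 2) + 2 by omega, pow_add]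
  exact Nat.mul_le_mul (h4.trans h3) h5

variable {V : Type u} [AddCommGroup V] [Module F V] [Finite V] {B : V →ₛₗ[σ] V →ₗ[F] F}

/-- An additive subgroup `A` of isotropic vectors has order `≤ q ^ (2 (d / 2))`.  (No `Ok`: used for `hypPerp`.) -/
theorem card_sing (h : IsHerm σ B) (hq : IsBar q σ) (A : AddSubgroup V) (hA : ∀ v ∈ A, B v v = 0) :
    Nat.card A ≤ q ^ (2 * (finrank F V / 2)) := card_sing_aux hq _ V B h rfl A hA

omit [CharP F 2] [Finite F] [Finite V] in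
theorem inv_adj {x : V ≃ₗ[F] V} (hx : x ∈ UG B) (h2 : x * x = 1) (u v : V) : B (x u) v = B u (x v) := by
  rw [UG_apply_left hx, inv_eq_of_mul_eq_one_left h2]

omit [Finite F] [Finite V] in
theorem inv_iso {x : V ≃ₗ[F] V} (hx : x ∈ UG B) (h2 : x * x = 1) (u v : V) : B (x u - u) (x v - v) = 0 := by
  simp only [map_sub, LinearMap.sub_apply, hx u v, inv_adj hx h2 u v]
  linear_combination aa (B u v) - aa (B u (x v))

omit [CharP F 2] [Finite F] in
/-- An isotropic vector orthogonal to a maximal totally isotropic subspace lies in it. -/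
theorem mem_of_max (h : IsHerm σ B) {M : Submodule F V} (hM : Ti B M) (hk : finrank F M = finrank F V / 2) {v : V} (h1 : v ∈ perp B M)
    (h2 : B v v = 0) : v ∈ M := by
  by_contra c
  have := h.two_mul_finrank_le (W := M ⊔ F ∙ v) (by
    rw [perp_sup]
    refine sup_le (le_inf hM (h.le_perp_comm ?_)) (le_inf ?_ ?_) <;> rw [Submodule.span_singleton_le_iff_mem]
    exacts [h1, h1, mem_perp_singleton.2 h2])
  rw [Submodule.finrank_sup_span_singleton c] at this
  omega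

omit [Finite F] in
theorem exists_fix_iso {E : Subgroup (V ≃ₗ[F] V)} (hE : E ≤ UG B) (h2 : El E) (h1 : E ≠ ⊥) :
    ∃ e, e ≠ 0 ∧ B e e = 0 ∧ ∀ x ∈ E, x e = e := by
  obtain ⟨⟨x, hx⟩, x1⟩ := ne_bot_iff_exists_ne_one.1 h1
  let U := LinearMap.range (dev x)
  let _ : MulAction E U :=
    { smul := fun g w => ⟨g.1 w, by
        obtain ⟨_, v, rfl⟩ := w
        exact ⟨g.1 v, show x (g.1 v) - g.1 v = g.1 (x v - v) by rw [map_sub, ← LinearEquiv.mul_apply, h2.comm hx g.2]; rfl⟩⟩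
      one_smul := fun _ => rfl
      mul_smul := fun _ _ _ => rfl }
  obtain ⟨v, hv⟩ : ∃ v, x v - v ≠ 0 := by
    by_contra! c
    exact x1 (Subtype.ext (LinearEquiv.ext fun v => sub_eq_zero.1 (c v)))
  have hd : 2 ∣ Nat.card U := by
    rw [← addOrderOf_eq_prime (p := 2) (x := (⟨_, v, rfl⟩ : U)) (Subtype.ext (by rw [two_nsmul]; exact vv F _))
      fun e => hv (congrArg Subtype.val e)]
    exact addOrderOf_dvd_natCard _
  obtain ⟨⟨_, w, rfl⟩, a, b⟩ := h2.pgroup.exists_fixed_point_of_prime_dvd_card_of_fixed_point U hd (a := 0)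
    fun g => Subtype.ext (map_zero g.1)
  exact ⟨_, fun e => b (Subtype.ext e.symm), inv_iso (hE hx) (h2 x hx) w w, fun y hy => congrArg Subtype.val (a ⟨y, hy⟩)⟩

/-- The projection onto `hypPerp`. -/
def prj (h : IsHerm σ B) {e f : V} (p : Hy B e f) : V →ₗ[F] hypPerp B e f :=
  (LinearMap.id - (B f).smulRight e - (B e).smulRight f).codRestrict _ fun v =>
    mem_hypPerp.2 ⟨by simp [p.ee, p.ef], by simp [p.ff, ← h.symm e f, p.ef]⟩

omit [CharP F 2] [Finite F] [Finite V] in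
theorem prj_ap (h : IsHerm σ B) {e f : V} (p : Hy B e f) (v : V) : (prj h p v : V) = v - B f v • e - B e v • f := rfl

theorem rk_aux (hq : IsBar q σ) (n : ℕ) : ∀ (V : Type u) [AddCommGroup V] [Module F V] [Finite V] (B : V →ₛₗ[σ] V →ₗ[F] F),
    IsHerm σ B → finrank F V = n → ∀ E : Subgroup (V ≃ₗ[F] V), E ≤ UG B → El E →
      Nat.card E ≤ q ^ (n / 2) ^ 2 ∧ (q ^ (n / 2) ^ 2 ≤ Nat.card E → ∃ M, Ti B M ∧ finrank F M = n / 2 ∧ (∀ x ∈ E, ∀ v, x v - v ∈ M) ∧
        ∀ v, (∀ x ∈ E, x v = v) → v ∈ perp B M) := by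
  induction n using Nat.strong_induction_on with | _ n ih =>
  intro V _ _ _ B h hn E hE h2
  have q2 := hq.two_le
  have : Finite (V ≃ₗ[F] V) := DFunLike.finite _
  by_cases h1 : E = ⊥
  · subst h1
    rw [card_bot]
    refine ⟨Nat.one_le_pow _ _ (by omega), fun k => ⟨⊥, bot_le, ?_, fun x hx v => by simp [mem_bot.1 hx], fun v _ => by simp [mem_perp]⟩⟩
    rw [finrank_bot]
    by_contra c
    have := (Nat.pow_le_one_iff (pow_ne_zero 2 (Ne.symm c))).1 k
    omega
  obtain ⟨e, e0, ee, he⟩ := exists_fix_iso hE h2 h1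
  obtain ⟨f, ff, ef⟩ := h.exists_hyperbolic e0 ee
  have p : Hy B e f := ⟨ee, ff, ef⟩
  have fe : B f e = 1 := by rw [← h.symm, ef, map_one]
  have hd := h.finrank_hypPerp ee ef
  have hX := h.isHerm_hypPerp ee ef
  set X := hypPerp B e f
  have We : ∀ w : X, B e w = 0 := fun w => (mem_hypPerp.1 w.2).1
  have Wf : ∀ w : X, B f w = 0 := fun w => (mem_hypPerp.1 w.2).2
  have eW : ∀ w : X, B w e = 0 := fun w => h.eq_zero_comm.1 (We w)
  have Be : ∀ x ∈ E, ∀ v, B e (x v) = B e v := fun x hx v => by rw [← inv_adj (hE hx) (h2 x hx), he x hx]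
  have xw : ∀ x ∈ E, ∀ w : X, x w = prj h p (x w) + B f (x w) • e := fun x hx w => by simp [prj_ap, Be x hx, We]
  have xf : ∀ x ∈ E, x f = f + prj h p (x f) + B f (x f) • e := fun x hx => by simp [prj_ap, Be x hx, ef]
  have pe : prj h p e = 0 := Subtype.ext (by simp [prj_ap, ee, fe])
  have pf : prj h p f = 0 := Subtype.ext (by simp [prj_ap, ff, ef])
  have pw : ∀ w : X, prj h p w = w := fun w => Subtype.ext (by simp [prj_ap, We, Wf])
  have pm : ∀ x ∈ E, ∀ y ∈ E, ∀ w : X, prj h p (x (prj h p (y w))) = prj h p (x (y w)) := fun x hx y hy w => by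
    conv_rhs => rw [xw y hy, map_add, map_add, map_smul, he x hx, map_smul, pe, smul_zero, add_zero]
  let ρ : E →* (X ≃ₗ[F] X) := MonoidHom.mk' (fun x => LinearEquiv.ofInvolutive (prj h p ∘ₗ x.1.toLinearMap ∘ₗ X.subtype) fun w => by
    change prj h p (x.1 (prj h p (x.1 w))) = w
    rw [pm _ x.2 _ x.2, ← LinearEquiv.mul_apply, h2 _ x.2]; exact pw w) fun x y => LinearEquiv.ext fun w => (pm _ x.2 _ y.2 w).symm
  have hρ : ∀ x w, ρ x w = prj h p (x.1 w) := fun _ _ => rfl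
  obtain ⟨i1, i2⟩ := ih (n - 2) (by omega) X _ hX (by omega) ρ.range (by
    rintro _ ⟨x, rfl⟩ u v
    change B (ρ x u) (ρ x v) = B u v
    rw [← hE x.2 u v, xw _ x.2 u, xw _ x.2 v]
    simp [hρ, We, eW, ee]) (by rintro _ ⟨x, rfl⟩; rw [← map_mul, show x * x = 1 from Subtype.ext (h2 _ x.2), map_one])
  have kw : ∀ y : ρ.ker, ∀ w : X, y.1.1 w = w + B (prj h p (y.1.1 f)) w • e := fun y w => by
    rw [xw _ y.1.2, ← hρ, show ρ y.1 = 1 from y.2, ← inv_adj (hE y.1.2) (h2 _ y.1.2), xf _ y.1.2]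
    simp [pf, pw, pe, Wf, We]
  let a : ρ.ker →* Multiplicative X := MonoidHom.mk' (fun y => .ofAdd (prj h p (y.1.1 f))) fun y z => by
    change prj h p (y.1.1 (z.1.1 f)) = prj h p (y.1.1 f) + prj h p (z.1.1 f)
    conv_lhs => rw [xf _ z.1.2, map_add y.1.1, map_add y.1.1, map_smul y.1.1, he _ y.1.2, kw]
    simp [pe, pw]
  let A : AddSubgroup X := a.range.toAddSubgroup'
  have mA : ∀ w, w ∈ A ↔ ∃ y : ρ.ker, prj h p (y.1.1 f) = w := fun w => Iff.rfl
  have iA : ∀ w ∈ A, B w w = 0 := by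
    rintro _ ⟨y, rfl⟩
    have := inv_iso (hE y.1.2) (h2 _ y.1.2) f f
    rw [xf _ y.1.2] at this
    change B (prj h p (y.1.1 f)) (prj h p (y.1.1 f)) = 0
    simpa [add_sub_cancel_left, add_assoc, We, eW, ee] using this
  have c1 : Nat.card A ≤ q ^ (2 * ((n - 2) / 2)) := by
    have := card_sing hX hq A iA
    rwa [show finrank F X = n - 2 by omega] at this
  have kf : ∀ y : a.ker, y.1.1.1 f = f + B f (y.1.1.1 f) • e := fun y => by
    have : prj h p (y.1.1.1 f) = 0 := y.2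
    conv_lhs => rw [xf _ y.1.1.2, this]
    simp
  have c2 : Nat.card a.ker ≤ q := by
    rw [← hq.card_trace_zero]
    refine Nat.card_le_card_of_injective (fun y => ⟨B f (y.1.1.1 f), ?_⟩) fun y z k => Subtype.ext (Subtype.ext (Subtype.ext
      (LinearEquiv.ext fun v => ?_)))
    · have := hE y.1.1.2 f f
      rw [kf] at this
      simpa [ff, ee, ef, fe, add_comm] using this
    · obtain ⟨w, h3, h4, hv⟩ := h.hyp_decomp ee ff ef v
      have k : B f (y.1.1.1 f) = B f (z.1.1.1 f) := congrArg Subtype.val k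
      rw [hv, map_add, map_add, map_add, map_add, map_smul, map_smul, map_smul, map_smul, he _ y.1.1.2, he _ z.1.1.2, kf y, kf z, k,
        kw y.1 ⟨w, mem_hypPerp.2 ⟨h3, h4⟩⟩, kw z.1 ⟨w, mem_hypPerp.2 ⟨h3, h4⟩⟩, show prj h p (y.1.1.1 f) = 0 from y.2,
        show prj h p (z.1.1.1 f) = 0 from z.2]
  have c3 : Nat.card E = Nat.card a.ker * Nat.card A * Nat.card ρ.range := by
    rw [← card_mul_index ρ.ker, index_ker, ← card_mul_index a.ker, index_ker]; rfl
  obtain ⟨k, hk⟩ : ∃ k, (n - 2) / 2 = k := ⟨_, rfl⟩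
  rw [show n / 2 = k + 1 by omega, show q ^ (k + 1) ^ 2 = q * q ^ (2 * k) * q ^ k ^ 2 by ring, c3]
  rw [hk] at i1 i2 c1
  refine ⟨Nat.mul_le_mul (Nat.mul_le_mul c2 c1) i1, fun c => ?_⟩
  have qp : ∀ j, 0 < q ^ j := fun j => by positivity
  have d1 : q ^ k ^ 2 ≤ Nat.card ρ.range := Nat.le_of_mul_le_mul_left (c.trans (Nat.mul_le_mul_right _ (Nat.mul_le_mul c2 c1)))
    (by have := qp (2 * k); positivity)
  have d0 := Nat.le_of_mul_le_mul_right (c.trans (Nat.mul_le_mul_left _ i1)) (qp _)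
  have d2 : q ^ (2 * k) ≤ Nat.card A := Nat.le_of_mul_le_mul_left (d0.trans (Nat.mul_le_mul_right _ c2)) (by omega)
  have d3 : q ≤ Nat.card a.ker := Nat.le_of_mul_le_mul_right (d0.trans (Nat.mul_le_mul_left _ c1)) (qp _)
  obtain ⟨M, m1, m2, m3, m4⟩ := i2 d1
  have xa : ∀ x ∈ E, ∀ w ∈ A, x w = w + B w (prj h p (x f)) • e := by
    rintro x hx _ ⟨y, rfl⟩
    have k : x (y.1.1 f) = y.1.1 (x f) := by rw [← LinearEquiv.mul_apply, h2.comm hx y.1.2]; rfl
    rw [xf _ y.1.2, map_add, map_add, map_smul, he x hx, xf x hx, map_add, map_add, map_smul, he _ y.1.2, kw, xf _ y.1.2] at k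
    change x (prj h p (y.1.1 f)) = prj h p (y.1.1 f) + B (prj h p (y.1.1 f)) (prj h p (x f)) • e
    simp only [map_add, map_smul, pf, pw, pe, zero_add, smul_zero, add_zero, ff, Wf, fe, smul_eq_mul, mul_one] at k
    linear_combination (norm := module) k
  have AM : A = M.toAddSubgroup := AddSubgroup.eq_of_le_of_card_ge (fun w hw => mem_of_max hX m1 (by omega) (m4 w (by
    rintro _ ⟨x, rfl⟩
    rw [hρ, xa _ x.2 w hw, map_add, map_smul, pw, pe, smul_zero, add_zero])) (iA w hw)) (by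
      change Nat.card M ≤ _
      rwa [Module.natCard_eq_pow_finrank (K := F), hq.card, m2, ← pow_mul])
  have xm : ∀ x ∈ E, ∀ w ∈ M, x w = w := fun x hx w hw => by
    obtain ⟨l, hl⟩ := hq.exists_ne
    have k := xa x hx (l • w) (AM ▸ M.smul_mem l hw)
    rw [Submodule.coe_smul, map_smul, xa x hx w (AM ▸ hw), smul_add, add_right_inj, smul_smul, LinearMap.map_smulₛₗ, LinearMap.smul_apply,
      smul_eq_mul] at k
    rw [xa x hx w (AM ▸ hw), (mul_eq_mul_right_iff.1 (smul_left_injective F e0 k)).resolve_left hl.symm, zero_smul, add_zero]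
  have eM : e ∉ M.map X.subtype := by
    rintro ⟨w, -, k⟩
    simpa [show (w : V) = e from k, fe] using Wf w
  have mp : ∀ v, v ∈ perp B (M.map X.subtype ⊔ F ∙ e) ↔ (∀ w ∈ M, B w v = 0) ∧ B e v = 0 := fun v => by
    rw [perp_sup, Submodule.mem_inf, mem_perp_singleton, mem_perp]
    simp
  have ti : Ti B (M.map X.subtype ⊔ F ∙ e) := sup_le (by
    rintro _ ⟨w, hw, rfl⟩
    exact (mp _).2 ⟨fun u hu => mem_perp.1 (m1 hw) u hu, We w⟩) ((Submodule.span_singleton_le_iff_mem _ _).2 ((mp _).2 ⟨fun u _ => eW u, ee⟩))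
  have dM : finrank F (M.map X.subtype ⊔ F ∙ e :) = k + 1 := by
    rw [Submodule.finrank_sup_span_singleton eM, Submodule.finrank_map_subtype_eq, m2]
  refine ⟨_, ti, dM, fun x hx v => mem_of_max h ti (by omega) ((mp _).2 ⟨fun w hw => ?_, ?_⟩) (inv_iso (hE hx) (h2 x hx) v v),
    fun v hv => ?_⟩
  · rw [map_sub, ← inv_adj (hE hx) (h2 x hx), xm x hx w hw, sub_self]
  · rw [map_sub, Be x hx, sub_self]
  · have ev : B e v = 0 := by
      have := Finite.one_lt_card_iff_nontrivial.1 (show 1 < Nat.card a.ker by omega)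
      obtain ⟨y, hy⟩ := exists_ne (1 : a.ker)
      by_contra c
      have k := inv_adj (hE y.1.1.2) (h2 _ y.1.1.2) f v
      rw [hv _ y.1.1.2, kf] at k
      have k : B f (y.1.1.1 f) = 0 := by simpa [c] using k
      refine hy (Subtype.ext (Subtype.ext (Subtype.ext (LinearEquiv.ext fun v => ?_))))
      obtain ⟨w, h3, h4, hv⟩ := h.hyp_decomp ee ff ef v
      rw [hv, map_add, map_add, map_smul, map_smul, he _ y.1.1.2, kf y, k, kw y.1 ⟨w, mem_hypPerp.2 ⟨h3, h4⟩⟩,
        show prj h p (y.1.1.1 f) = 0 from y.2]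
      simp
    refine (mp v).2 ⟨fun w hw => ?_, ev⟩
    obtain ⟨y, rfl⟩ := (mA w).1 (AM ▸ hw)
    have k := inv_adj (hE y.1.2) (h2 _ y.1.2) f v
    rw [hv _ y.1.2, xf _ y.1.2] at k
    simpa [ev] using k

/-- Induction on `m` for `E ≤ UG B`, with the equality case. -/
theorem rk_UG (h : IsHerm σ B) (hq : IsBar q σ) (E : Subgroup (V ≃ₗ[F] V)) (hE : E ≤ UG B) (h2 : ∀ x ∈ E, x * x = 1) :
    Nat.card E ≤ q ^ (finrank F V / 2) ^ 2 ∧ (q ^ (finrank F V / 2) ^ 2 ≤ Nat.card E →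
      ∃ M, Ti B M ∧ finrank F M = finrank F V / 2 ∧ ∀ x ∈ E, ∀ v, x v - v ∈ M) :=
  (rk_aux hq _ V B h rfl E hE h2).imp_right fun k c => (k c).imp fun _ k => ⟨k.1, k.2.1, k.2.2.1⟩

end Cfsg.Lib.U42
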