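import Cfsg.Agent.Lib.U42.MA
import Cfsg.Agent.Lib.U42.MC1

/-!
# S3138 (copy of `USt`, `q = 2`, dimension `4`): the groups `W I` and the involutions of the model.  See `docs/U42.md`.
-/

set_option autoImplicit false

namespace Cfsg.Lib.U42

open Module Subgroup G2S Cfsg.Lib.BG Cfsg.Lib.GW GSt.SLa Cfsg.Lib.Unitary
open scoped commutatorElement Cfsg.Lib.Transfer

variable {F V : Type*} [Field F] [CharP F 2] [Finite F] [AddCommGroup V] [Module F V] [Finite V] {σ : F →+* F}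
  {B : V →ₛₗ[σ] V →ₗ[F] F} {x y : SUG B} {I : Submodule F V} {q : ℕ} {E : Subgroup (SUG B)} {r : ℕ} {v : Fin r → V}
  {s s' : Matrix (Fin r) (Fin r) F}

theorem card_herm (hq : IsBar q σ) (r : ℕ) : Nat.card {s : Matrix (Fin r) (Fin r) F // ∀ i j, σ (s i j) = s j i} = q ^ r ^ 2 := by
  let T : Matrix (Fin r) (Fin r) F →+ Matrix (Fin r) (Fin r) F := AddMonoidHom.mk' (fun A => .of fun i j => A j i + σ (A i j))
    fun A A' => by ext; simp; ring
  have h1 : Nat.card T.ker = Nat.card {s : Matrix (Fin r) (Fin r) F // ∀ i j, σ (s i j) = s j i} :=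
    Nat.card_congr (Equiv.subtypeEquivRight fun s => by
      rw [AddMonoidHom.mem_ker, ← Matrix.ext_iff]
      exact forall₂_congr fun i j => CharTwo.add_eq_zero.trans eq_comm)
  have h2 : Nat.card T.range = Nat.card {s : Matrix (Fin r) (Fin r) F // ∀ i j, σ (s i j) = s j i} :=
    Nat.card_congr (Equiv.subtypeEquivRight fun s => ⟨by rintro ⟨A, rfl⟩ i j; simp [T, hq.invol, add_comm], fun k => by
      obtain ⟨c, hc⟩ := hq.exists_trace_eq (map_one σ)
      exact ⟨.of fun i j => c * s j i, by ext i j; simp only [T, AddMonoidHom.mk'_apply, Matrix.of_apply, map_mul, k, ← add_mul, hc, one_mul]⟩⟩)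
  have h3 := T.ker.card_mul_index
  rw [AddSubgroup.index_ker, h1, h2, show Nat.card (Matrix (Fin r) (Fin r) F) = Nat.card (Fin r → Fin r → F) from rfl, Nat.card_fun, Nat.card_fun, hq.card, Nat.card_fin, ← sq, ← pow_mul, ← pow_mul,
    show 2 * (r * r) = r ^ 2 * 2 by ring, pow_mul] at h3
  exact Nat.pow_left_injective two_ne_zero h3

omit [CharP F 2] [Finite F] [Finite V] in
theorem ti_span (hI : ∀ i j, B (v i) (v j) = 0) : Ti B (Submodule.span F (Set.range v)) :=
  Submodule.span_le.2 (by rintro _ ⟨j, rfl⟩; exact mem_perp_span.2 (by rintro _ ⟨i, rfl⟩; exact hI i j))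

omit [CharP F 2] [Finite F] [Finite V] in
theorem Ti.fam (hI : Ti B (Submodule.span F (Set.range v))) (i j : Fin r) : B (v i) (v j) = 0 :=
  mem_perp.1 (hI (Submodule.subset_span ⟨j, rfl⟩)) _ (Submodule.subset_span ⟨i, rfl⟩)

omit [Finite F] [Finite V] in
theorem det_inv {g : V ≃ₗ[F] V} {n : ℕ} (k : g ^ 2 ^ n = 1) : LinearEquiv.det g = 1 :=
  Units.ext (eq_one_of_pow_char_pow 2 (m := n) (by rw [← Units.val_pow_eq_pow_val, ← map_pow, k, map_one, Units.val_one]))

namespace Ok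
variable (h : Ok B)
include h

omit [Finite F] [Finite V] in
theorem W_ex (hI : ∀ i j, B (v i) (v j) = 0) (hs : ∀ i j, σ (s i j) = s j i) :
    ∃ x : SUG B, ∀ u, x.1 u = u + ∑ i, ∑ j, (s i j * B (v j) u) • v i := by
  let N : V →ₗ[F] V := LinearMap.id + ∑ i, ∑ j, (s i j • B (v j)).smulRight (v i)
  have hN : ∀ u, N u = u + ∑ i, ∑ j, (s i j * B (v j) u) • v i := fun u => by simp [N]
  have i2 : Function.Involutive N := fun u => by
    rw [hN, hN u]
    simp [hI, add_assoc, vv F]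
  refine ⟨⟨LinearEquiv.ofInvolutive N i2, fun u w => ?_, det_inv (n := 1) (LinearEquiv.ext i2)⟩, hN⟩
  change B (N u) (N w) = B u w
  simp only [hN, map_add, map_sum, LinearMap.add_apply, LinearMap.sum_apply, LinearMap.map_smulₛₗ, LinearMap.smul_apply, hI, smul_eq_mul,
    mul_zero, Finset.sum_const_zero, add_zero, map_mul, hs, h.symm, RingHom.id_apply]
  rw [add_assoc, Finset.sum_comm, ← Finset.sum_add_distrib, add_eq_left]
  refine Finset.sum_eq_zero fun i _ => ?_
  rw [← Finset.sum_add_distrib]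
  exact Finset.sum_eq_zero fun j _ => by linear_combination aa (s i j * B u (v i) * B (v j) w)

omit [CharP F 2] [Finite F] in
theorem dual (hv : LinearIndependent F v) : ∃ y : Fin r → V, (∀ i j, B (v i) (y j) = if i = j then 1 else 0) ∧
    ∀ w ∈ Submodule.span F (Set.range v), w = ∑ i, B (y i) w • v i := by
  choose y hy using fun j => h.herm.exists_apply_eq hv fun i => if i = j then 1 else 0
  refine ⟨y, fun i j => hy j i, fun w hw => ?_⟩
  obtain ⟨c, rfl⟩ := (Submodule.mem_span_range_iff_exists_fun F).1 hw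
  simp [← h.symm (v _) (y _), hy, apply_ite σ]

omit [Finite F] in
theorem W_ent (hv : LinearIndependent F v) (hI : ∀ i j, B (v i) (v j) = 0) (hx : x ∈ W B (Submodule.span F (Set.range v))) :
    ∃ s : Matrix (Fin r) (Fin r) F, (∀ i j, σ (s i j) = s j i) ∧ ∀ u, x.1 u = u + ∑ i, ∑ j, (s i j * B (v j) u) • v i := by
  obtain ⟨y, -, hy⟩ := h.dual hv
  have ad : ∀ u w, B (x.1 u - u) w = B u (x.1 w - w) := fun u w => by
    simp [inv_adj x.2.1 (congrArg Subtype.val (h.W_el (ti_span hI) x hx))]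
  have hs : ∀ i j, σ (B (y i) (x.1 (y j) - y j)) = B (y j) (x.1 (y i) - y i) := fun i j => by rw [h.symm, ad]
  refine ⟨.of fun i j => B (y i) (x.1 (y j) - y j), hs, fun u => ?_⟩
  rw [← sub_eq_iff_eq_add', hy _ (hx u)]
  refine Finset.sum_congr rfl fun i _ => ?_
  rw [← ad, hy _ (hx (y i)), ← Finset.sum_smul]
  simp only [map_sum, LinearMap.sum_apply, LinearMap.map_smulₛₗ, LinearMap.smul_apply, hs, smul_eq_mul, Matrix.of_apply]

omit [CharP F 2] [Finite F] in
theorem W_inj (hv : LinearIndependent F v) (k : ∀ u, ∑ i, ∑ j, (s i j * B (v j) u) • v i = ∑ i, ∑ j, (s' i j * B (v j) u) • v i) : s = s' := by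
  obtain ⟨y, hy, -⟩ := h.dual hv
  ext i j
  exact Fintype.linearIndependent_iffₛ.1 hv (s · j) (s' · j) (by simpa [hy] using k (y j)) i

omit [CharP F 2] [Finite F] [Finite V] h in
theorem W_mem (k : ∀ u, x.1 u = u + ∑ i, ∑ j, (s i j * B (v j) u) • v i) : x ∈ W B (Submodule.span F (Set.range v)) := fun u => by
  rw [k, add_sub_cancel_left]
  exact Submodule.sum_mem _ fun i _ => Submodule.sum_mem _ fun j _ => Submodule.smul_mem _ _ (Submodule.subset_span ⟨i, rfl⟩)

omit [CharP F 2] [Finite F] in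
theorem W_rk (hv : LinearIndependent F v) (k : ∀ u, x.1 u = u + ∑ i, ∑ j, (s i j * B (v j) u) • v i) : rk B x = r ↔ s.det ≠ 0 := by
  have hr : finrank F (Submodule.span F (Set.range v)) = r := by rw [finrank_span_eq_card hv, Fintype.card_fin]
  have e : ∀ u, dev x.1 u = ∑ i, (s.mulVec fun j => B (v j) u) i • v i := fun u => by
    rw [dev_apply, k, add_sub_cancel_left]
    simp [Matrix.mulVec, dotProduct, Finset.sum_smul]
  rw [← isUnit_iff_ne_zero, ← Matrix.isUnit_iff_isUnit_det, ← Matrix.mulVec_surjective_iff_isUnit]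
  refine ⟨fun c d => ?_, fun c => (congrArg (fun X : Submodule F V => finrank F X) (le_antisymm (mem_W'.1 (W_mem k)) fun w hw => ?_)).trans hr⟩
  · obtain ⟨u, hu⟩ := (Submodule.eq_of_le_of_finrank_eq (mem_W'.1 (W_mem k)) (c.trans hr.symm)).ge
      ((Submodule.mem_span_range_iff_exists_fun F).2 ⟨d, rfl⟩)
    exact ⟨_, funext (Fintype.linearIndependent_iffₛ.1 hv _ _ ((e u).symm.trans hu))⟩
  · obtain ⟨d, rfl⟩ := (Submodule.mem_span_range_iff_exists_fun F).1 hw
    obtain ⟨d, rfl⟩ := c d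
    obtain ⟨u, hu⟩ := h.herm.exists_apply_eq hv d
    exact ⟨u, by rw [e, funext hu]⟩

/-- `1 + ∑ s i j • v i (v j)^*` for a Hermitian matrix `s`: an injective homomorphism onto `W (span v)`. -/
theorem W_mat {r : ℕ} {v : Fin r → V} (hv : LinearIndependent F v) (hI : ∀ i j, B (v i) (v j) = 0) :
    ∃ φ : Matrix (Fin r) (Fin r) F → SUG B, (∀ s, (∀ i j, σ (s i j) = s j i) → ∀ u, (φ s).1 u = u + ∑ i, ∑ j, (s i j * B (v j) u) • v i) ∧
      ∀ x ∈ W B (Submodule.span F (Set.range v)), ∃ s, (∀ i j, σ (s i j) = s j i) ∧ x = φ s := by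
  choose! φ hφ using fun (s : Matrix (Fin r) (Fin r) F) (hs : ∀ i j, σ (s i j) = s j i) => h.W_ex hI hs
  exact ⟨φ, hφ, fun x hx => (h.W_ent hv hI hx).imp fun s k => ⟨k.1, J_ext fun u => by rw [k.2, hφ s k.1]⟩⟩

/-- Count the Hermitian matrices (`W_mat`), or `card_fixStab`. -/
theorem card_W (hq : IsBar q σ) (hI : Ti B I) : Nat.card (W B I) = q ^ finrank F I ^ 2 := by
  obtain ⟨r, hr⟩ : ∃ r, finrank F I = r := ⟨_, rfl⟩
  obtain ⟨v, hv, rfl⟩ := IsHerm.exists_family_span I hr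
  obtain ⟨φ, h1, h2⟩ := h.W_mat hv hI.fam
  rw [hr, ← card_herm hq]
  refine (Nat.card_congr (Equiv.ofBijective (fun s => ⟨φ s.1, W_mem (h1 _ s.2)⟩) ⟨fun s s' k => Subtype.ext (h.W_inj hv fun u => ?_),
    fun x => ?_⟩)).symm
  · rw [← add_right_inj u, ← h1 _ s.2, ← h1 _ s'.2, show φ s.1 = φ s'.1 from congrArg Subtype.val k]
  · obtain ⟨s, a, b⟩ := h2 x.1 x.2
    exact ⟨⟨s, a⟩, Subtype.ext b.symm⟩

/-- If `dim I^⊥ / I ≥ 2` it contains an isotropic vector. -/
theorem ti_ext (hI : Ti B I) : ∃ M, I ≤ M ∧ Ti B M ∧ finrank F M = finrank F V / 2 := by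
  obtain ⟨M, h1, h2⟩ := h.herm.exists_totIso (k := finrank F V / 2) (by omega)
  obtain ⟨w, hw⟩ := exists_linearIndependent_of_le_finrank (R := F) (M := M) (n := finrank F I)
    (by have := h.herm.two_mul_finrank_le hI; omega)
  have h3 : Submodule.span F (Set.range (M.subtype ∘ w)) ≤ M := Submodule.span_le.2 (by rintro _ ⟨i, rfl⟩; exact (w i).2)
  obtain ⟨g, hg, e⟩ := h.herm.exists_map_totIso (h3.trans (h2.trans fun u hu => mem_perp.2 fun a ha => mem_perp.1 hu a (h3 ha))) hI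
    (by rw [finrank_span_eq_card (hw.map' _ M.ker_subtype), Fintype.card_fin])
  exact ⟨M.map g.toLinearMap, e ▸ Submodule.map_mono h3, by rw [Ti, perp_map hg]; exact Submodule.map_mono h2,
    by rw [LinearEquiv.finrank_map_eq, h1]⟩

theorem rk_E (hq : IsBar q σ) (hE : El E) : Nat.card E ≤ q ^ (finrank F V / 2) ^ 2 ∧ (q ^ (finrank F V / 2) ^ 2 ≤ Nat.card E →
      ∃ M, Ti B M ∧ finrank F M = finrank F V / 2 ∧ E ≤ W B M) := by
  have := rk_UG h.herm hq (E.map (SUG B).subtype) (by rintro _ ⟨x, -, rfl⟩; exact x.2.1)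
    (by rintro _ ⟨x, hx, rfl⟩; exact congrArg Subtype.val (hE x hx))
  rw [card_map_of_injective (SUG B).subtype_injective] at this
  exact this.imp_right fun k c => (k c).imp fun M k => ⟨k.1, k.2.1, fun x hx => k.2.2 _ ⟨x, hx, rfl⟩⟩

theorem rk0 (hq : IsBar q σ) (hE : El E) : Nat.card E ≤ q ^ (finrank F V / 2) ^ 2 := (h.rk_E hq hE).1

theorem eqW (hq : IsBar q σ) (hE : El E) (k : q ^ (finrank F V / 2) ^ 2 ≤ Nat.card E) :
    ∃ M, Ti B M ∧ finrank F M = finrank F V / 2 ∧ E = W B M :=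
  ((h.rk_E hq hE).2 k).imp fun _ c => ⟨c.1, c.2.1, eq_of_le_of_card_ge c.2.2 (by rwa [h.card_W hq c.1, c.2.1])⟩

theorem inn (hq : IsBar q σ) (hx : x * x = 1) : ∃ E : Subgroup (SUG B), El E ∧ x ∈ E ∧ q ^ (finrank F V / 2) ^ 2 ≤ Nat.card E := by
  obtain ⟨M, h1, h2, h3⟩ := h.ti_ext (h.rg_ti hx)
  exact ⟨W B M, h.W_el h2, mem_W'.2 h1, by rw [h.card_W hq h2, h3]⟩

/-- If `v ∉ I` there is a maximal `M ≥ I` without `v`: clear if `v ∉ I^⊥` or `B v v ≠ 0`; otherwise take an isotropic `v' ∈ I^⊥` with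
`B v v' ≠ 0` and extend `I + F v'`. -/
theorem int (hI : Ti B I) (k : ∀ M, I ≤ M → Ti B M → finrank F M = finrank F V / 2 → x ∈ W B M) : x ∈ W B I := fun u => by
  by_contra c
  obtain ⟨M, h1, h2, h3⟩ := h.ti_ext hI
  have h4 := k M h1 h2 h3 u
  obtain ⟨r, hr⟩ : ∃ r, finrank F I = r := ⟨_, rfl⟩
  obtain ⟨v, hv, rfl⟩ := IsHerm.exists_family_span I hr
  obtain ⟨f, ff, hf⟩ := h.herm.exists_partner (hv.finCons c) 0 fun i => mem_perp.1 (h2 h4) _ (by
    cases i using Fin.cases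
    exacts [h4, h1 (Submodule.subset_span ⟨_, rfl⟩)])
  have h5 : f ∈ perp B (Submodule.span F (Set.range v)) := mem_perp_span.2 (by rintro _ ⟨i, rfl⟩; simpa using hf i.succ)
  obtain ⟨M', a, b, d⟩ := h.ti_ext (I := Submodule.span F (Set.range v) ⊔ F ∙ f) (by
    rw [Ti, perp_sup]
    refine sup_le (le_inf hI (h.herm.le_perp_comm ?_)) (le_inf ?_ ?_) <;> rw [Submodule.span_singleton_le_iff_mem]
    exacts [h5, h5, mem_perp_singleton.2 ff])
  exact zero_ne_one ((mem_perp.1 (b (a (Submodule.mem_sup_right (Submodule.mem_span_singleton_self f)))) _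
    (k M' (le_sup_left.trans a) b d u)).symm.trans ((hf 0).trans (if_pos rfl)))

/-- An involution of rank `r` is `1 + ∑ v i (v i)^*` for a basis `v` of `rg x` (the Hermitian matrix of `W_mat` is invertible;
`exists_orthonormal_basis`). -/
theorem nf (hx : x * x = 1) : ∃ v : Fin (rk B x) → V, LinearIndependent F v ∧ (∀ i j, B (v i) (v j) = 0) ∧
    ∀ u, x.1 u = u + ∑ i, B (v i) u • v i := by
  have x2 : x.1 * x.1 = 1 := congrArg Subtype.val hx
  have ad : ∀ u w, B (dev x.1 u) w = B u (dev x.1 w) := fun u w => by simp [inv_adj x.2.1 x2]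
  obtain ⟨Y, hY⟩ := (LinearMap.ker (dev x.1)).exists_isCompl
  have h1 : IsHerm σ ((B.compl₂ (dev x.1)).domRestrict₁₂ Y Y) := ⟨h.ne_id, h.invol, fun u w => (h.symm _ _).trans (ad _ _), fun a ha =>
    Subtype.ext (Submodule.disjoint_def.1 hY.disjoint _ (h.nondeg _ fun u => by
      obtain ⟨w, w', rfl⟩ := exists_add_of_isCompl hY u
      rw [ad, map_add, show dev x.1 w = 0 from w.2, zero_add]
      exact ha w') a.2)⟩
  obtain ⟨b, hb⟩ := h1.exists_orthonormal_basis (n := rk B x) (by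
    have := Submodule.finrank_add_eq_of_isCompl hY
    have := LinearMap.finrank_range_add_finrank_ker (dev x.1)
    unfold rk rg; omega)
  have hb : ∀ i j, B (b i) (dev x.1 (b j)) = if i = j then 1 else 0 := hb
  refine ⟨fun i => dev x.1 (b i), (b.linearIndependent.map' Y.subtype Y.ker_subtype).map (f := dev x.1) (hY.disjoint.symm.mono_left
    (Submodule.span_le.2 (by rintro _ ⟨i, rfl⟩; exact (b i).2))), fun i j => inv_iso x.2.1 x2 _ _, fun u => ?_⟩
  obtain ⟨w, w', rfl⟩ := exists_add_of_isCompl hY u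
  rw [← sub_eq_iff_eq_add', ← dev_apply, map_add, show dev x.1 w = 0 from w.2, zero_add, ← b.sum_repr w']
  simp only [ad, map_add, show dev x.1 w = 0 from w.2, Submodule.coe_sum, Submodule.coe_smul, map_sum, map_smul, hb]
  simp

/-- `nf`, `witt_family`; correct the determinant by `tor` on `(v 0, v₀')` with a scalar of norm `1`. -/
theorem cl (hx : x * x = 1) (hy : y * y = 1) (k : rk B x = rk B y) : IsConj x y := by
  obtain ⟨v, h1, h2, h3⟩ := h.nf hx
  obtain ⟨w, k1, k2, k3⟩ := h.nf hy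
  generalize rk B x = r at *
  subst k
  suffices ∃ (g : SUG B) (c : Fin (rk B y) → F), ∀ i, c i * σ (c i) = 1 ∧ g.1 (v i) = c i • w i by
    obtain ⟨g, c, hc⟩ := this
    refine isConj_iff.2 ⟨g, J_ext fun u => ?_⟩
    simp only [mul_ap, h3, k3, map_add, map_sum, map_smul, inv_ap, ← iso_l, (hc _).2, LinearMap.map_smulₛₗ, LinearMap.smul_apply, smul_smul,
      smul_eq_mul]
    refine congrArg _ (Finset.sum_congr rfl fun i _ => ?_)
    rw [mul_right_comm, mul_comm (σ _), (hc i).1, one_mul]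
  rcases Nat.eq_zero_or_pos (rk B y) with c | c
  · exact ⟨1, 0, fun i => absurd i.2 (by omega)⟩
  obtain ⟨g, hg, e⟩ := h.herm.witt_family h1 k1 fun i j => by rw [h2, k2]
  obtain ⟨f, ff, hf⟩ := h.herm.exists_partner k1 ⟨0, c⟩ fun i => k2 i _
  obtain ⟨a, ha⟩ := sqrt_ex (((LinearEquiv.det g)⁻¹ : Fˣ) : F)
  have a0 : a ≠ 0 := by rintro rfl; exact (LinearEquiv.det g)⁻¹.ne_zero (by simpa using ha.symm)
  have a1 : σ a * a = 1 := eq_one_of_pow_char_pow 2 (m := 1) (by
    have := h.herm.det_mul_conj hg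
    rw [← LinearEquiv.coe_det] at this
    rw [pow_one, sq, mul_mul_mul_comm, ← map_mul, ha, Units.val_inv_eq_inv_val, map_inv₀, ← mul_inv, mul_comm, this, inv_one])
  have ef : B (w ⟨0, c⟩) f = 1 := by simp [hf]
  have fw : ∀ i, B f (w i) = if i = ⟨0, c⟩ then 1 else 0 := fun i => by rw [← h.symm, hf, apply_ite σ, map_one, map_zero]
  have fe : B f (w ⟨0, c⟩) = 1 := by simp [fw]
  refine ⟨⟨tor B _ f ef fe (.mk0 a a0) (.mk0 a a0) * g, mul_mem (h.herm.tor_mem_UG ef fe (k2 _ _) ff a1) hg, ?_⟩,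
    fun i => if i = ⟨0, c⟩ then a else 1, fun i => ⟨?_, ?_⟩⟩
  · refine MonoidHom.mem_ker.2 ?_
    rw [map_mul, det_tor, mul_eq_one_iff_eq_inv]
    exact Units.ext ha
  · beta_reduce
    split_ifs <;> simp [mul_comm a, a1]
  · change tor B _ f ef fe _ _ (g (v i)) = (if i = ⟨0, c⟩ then a else 1) • w i
    rw [e, tor_apply ef fe ff, k2, fw]
    split_ifs with d
    · subst d; simp [sub_smul]
    · simp

end Ok

end Cfsg.Lib.U42
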