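import Cfsg.Agent.Lib.U42.EL

/-!
# S3138 (copy of `USt`, `q = 2`, dimension `4`): the extension of `Q e` and the algebra `R = K[ϖ]`.  See `docs/U42.md`.  `r = r₀ + r₁ ω`, `r₁ = Tr r`, `r₀ = r + ω Tr r ∈ K`.
-/

set_option autoImplicit false
set_option linter.unusedSectionVars false

namespace Cfsg.Lib.U42

open Module Subgroup G2S Cfsg.Lib.BG Cfsg.Lib.GW GSt.SLa Cfsg.Lib.Unitary
open scoped commutatorElement Cfsg.Lib.Transfer

variable {F V : Type*} [Field F] [CharP F 2] [Finite F] [AddCommGroup V] [Module F V] [Finite V] {σ : F →+* F}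
  {B : V →ₛₗ[σ] V →ₗ[F] F} {G : Type*} [Group G] [Finite G] {ψ : SUG B →* G} {t p p' : G} {e f u v w v₁ v₂ w₁ w₂ : V}
  {a r r₀ r₁ γ ω ν : F} {y : V → F → G}

theorem Kind {b : F} (hω : ω + σ ω = 1) (ha : σ a = a) (hb : σ b = b) (k : a + ω * b = 0) : a = 0 ∧ b = 0 := by
  have := congrArg σ k
  rw [map_add, map_mul, ha, hb, map_zero] at this
  constructor <;> grind

theorem as_two {K : Type*} [Field K] [CharP K 2] [Finite K] (a b : K) :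
    (∃ x, x * x + x = a) ∨ (∃ x, x * x + x = b) ∨ ∃ x, x * x + x = a + b := by
  let φ : K →+ K := .mk' (fun x => x * x + x) fun x y => by grind
  have : φ.range.index = 2 := by
    rw [AddSubgroup.index_range]
    refine (Nat.card_eq_two_iff' ⟨0, map_zero φ⟩).2 ⟨⟨1, show (1 : K) * 1 + 1 = 0 by grind⟩, fun e => one_ne_zero (congrArg Subtype.val e), fun ⟨x, hx⟩ n => Subtype.ext ?_⟩
    have hx' : x * x + x = 0 := hx
    have : x ≠ 0 := fun z => n (Subtype.ext z)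
    show x = 1
    grind
  by_contra! k
  exact k.2.2 _ ((AddSubgroup.add_mem_iff_of_index_two this).2 (iff_of_false (fun ⟨x, m⟩ => k.1 x m) fun ⟨x, m⟩ => k.2.1 x m)).choose_spec

theorem Ok.bfX (h : Ok B) {e' : V} (p : Hy B e e') {u v : hypPerp B e e'} (k : ∀ w : hypPerp B e e', bf B u.1 w = bf B v.1 w) : u = v := by
  have := hm_nd (h.herm.isHerm_hypPerp p.ee p.ef) (e := 0) (v := u + v) fun w _ =>
    show bf B (u.1 + v.1) w = 0 by rw [bf_add_left, k, aa]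
  rw [Submodule.span_zero_singleton, Submodule.mem_bot] at this
  rw [eq_neg_of_add_eq_zero_left this, vneg F]

namespace ZA
variable (z : ZA ψ t y) (h : Ok B) (hω : ω + σ ω = 1) (h0 : e ≠ 0) (he : B e e = 0)
include z h hω h0 he

theorem pe_y (r : F) : Pe ψ t y ω e (y e r) 0 0 :=
  ⟨by simp, by simp, fun s => z.comm e e r s he he he, fun w γ _ => by
    simp [z.zero h he, cjf.2 (z.cS h he (Q_le (h.ei_mem_Q e w γ)) r).symm], 0, r + σ r, .tv he (map_zero σ), by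
      rw [z.yt h he, h.ei_zero, map_one, mul_one, z.ext _ _ he (h.tK r)]⟩

theorem pe_ei (k : Va B e w γ) : Pe ψ t y ω e (ψ (ei B e w γ)) w 0 :=
  ⟨k.ew, by simp, z.cS h he (Q_le (h.ei_mem_Q ..)), fun w' γ' k' => by
    rw [bf_zero_left, mul_zero, add_zero, z.ext _ _ he (h.bfK ..), ← map_inv, ← map_mul, ← map_mul, ← map_mul, h.ei_swap k k',
      mul_assoc (ei B e w' γ'), h.stab_tv (Q_le (h.ei_mem_Q e w γ)), ← mul_assoc, mul_inv_cancel_right], 0, 0, .tv he (map_zero σ), by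
      rw [cjf.2 (z.tψ _).symm, h.ei_zero, map_one, mul_one, z.zero h he, mul_one]⟩

theorem pe_mul (k : Pe ψ t y ω e p v₁ v₂) (k' : Pe ψ t y ω e p' w₁ w₂) : Pe ψ t y ω e (p * p') (v₁ + w₁) (v₂ + w₂) := by
  have e : ∀ g, p * p' * g * (p * p')⁻¹ = p * (p' * g * p'⁻¹) * p⁻¹ := fun g => by group
  refine ⟨by simp [k.o1, k'.o1], by simp [k.o2, k'.o2], fun r => Commute.mul_left (k.cy r) (k'.cy r), fun w γ q => ?_, ?_⟩
  · rw [e, k'.cQ w γ q, ← conj_mul, k.cQ w γ q, cjf.2 (k.cy _), mul_assoc, ← z.add _ _ _ he, bf_add_left, bf_add_left]; congr 2; ring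
  · obtain ⟨γ, r, q, a⟩ := k.ct
    obtain ⟨γ', r', q', a'⟩ := k'.ct
    refine ⟨_, r + (bf B v₁ w₂ + ω * bf B v₂ w₂) + r', h.va_mul q q', ?_⟩
    rw [e, a', ← conj_mul, ← conj_mul, a, k.cQ _ _ q', cjf.2 (k.cy _), ← h.ei_mul q q', map_mul, z.add _ _ r' he, z.add _ r _ he]
    simp only [mul_assoc]
    rw [← mul_assoc (y _ r) (ψ _), ← z.cS h he (Q_le (h.ei_mem_Q _ w₂ γ')), mul_assoc]

theorem pe_inv (k : Pe ψ t y ω e p v₁ v₂) : Pe ψ t y ω e p⁻¹ v₁ v₂ := by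
  have c : ∀ r, p⁻¹ * y e r = y e r * p⁻¹ := fun r => Commute.inv_left (k.cy r)
  have cQ : ∀ w γ, Va B e w γ → p⁻¹ * ψ (ei B e w γ) * p⁻¹⁻¹ = ψ (ei B e w γ) * y e (bf B v₁ w + ω * bf B v₂ w) := fun w γ q => by
    conv_lhs => rw [← mul_inv_eq_of_eq_mul (k.cQ w γ q), z.inv h he, ← conj_mul, cjf.2 (c _)]
    group
  obtain ⟨γ, r, q, a⟩ := k.ct
  refine ⟨k.o1, k.o2, c, cQ, σ γ, bf B v₁ v₂ + ω * bf B v₂ v₂ + r, h.va_inv q, ?_⟩
  conv_lhs => rw [← mul_inv_eq_of_eq_mul (mul_inv_eq_of_eq_mul a), z.inv h he, ← map_inv, h.ei_inv q, ← conj_mul, ← conj_mul,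
    cjf.2 (c _), cQ _ _ (h.va_inv q)]
  rw [add_comm _ r, z.add _ r _ he, ← mul_assoc (_ * y e r), mul_assoc _ (y e r), ← z.cS h he (Q_le (h.ei_mem_Q _ v₂ (σ γ)))]
  group

/-- `ei_shift`. -/
theorem pe_shift (k : Pe ψ t y ω e p v₁ v₂) (a b : F) : Pe ψ t y ω e p (v₁ + a • e) (v₂ + b • e) := by
  obtain ⟨γ, r, q, c⟩ := k.ct
  refine ⟨by simp [k.o1, he], by simp [k.o2, he], k.cy, fun w γ q => ?_, γ, b + σ b + r, h.va_shift q b, ?_⟩
  · rw [k.cQ w γ q]; simp [bf, q.ew, h.cm q.ew]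
  · rw [c, h.ei_shift q, ← h.ei_tv q (h.tK b), map_mul, ← z.ext _ _ he (h.tK b), mul_assoc, mul_assoc, mul_assoc, ← z.add _ _ _ he,
      ← add_assoc, aa, zero_add]

/-- `inj`, `bf_nd`. -/
theorem pe_uniq (k : Pe ψ t y ω e p v₁ v₂) (k' : Pe ψ t y ω e p w₁ w₂) : v₁ + w₁ ∈ F ∙ e ∧ v₂ + w₂ ∈ F ∙ e := by
  have : ∀ w, B e w = 0 → bf B (v₁ + w₁) w = 0 ∧ bf B (v₂ + w₂) w = 0 := fun w hw => by
    obtain ⟨γ, q⟩ := h.va_ex he hw
    have := z.inj h h0 he (mul_left_cancel ((k.cQ w γ q).symm.trans (k'.cQ w γ q)))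
    exact Kind hω (h.bfK ..) (h.bfK ..) (by rw [bf_add_left, bf_add_left]; grind)
  exact ⟨hm_nd h.herm fun w hw => (this w hw).1, hm_nd h.herm fun w hw => (this w hw).2⟩

/-- `p t p⁻¹ = t y e r` is an involution, so `r ∈ K`; `can`. -/
theorem pe_ker (k : Pe ψ t y ω e p 0 0) : ∃ r, p = y e r := by
  obtain ⟨γ, r, q, a⟩ := k.ct
  rw [← tv, ← z.ext _ _ he q.fix, mul_assoc t (y _ _), ← z.add _ _ _ he] at a
  have := cj2 z.t2 p
  rw [a, ← mul_assoc, z.ct _ _ he, ← z.add _ _ _ he, ← z.zero h he] at this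
  have s := CharTwo.add_eq_zero.1 (z.inj h h0 he this)
  refine z.can h h0 he s (by rw [a, z.ext _ _ he s]) (fun u hu => ?_) k.cy
  obtain ⟨w, γ, q, rfl⟩ := h.Q_ex' h0 he hu
  exact cjf.1 (by simp [k.cQ w γ q, z.zero h he])

theorem pe_same (k : Pe ψ t y ω e p v₁ v₂) (k' : Pe ψ t y ω e p' v₁ v₂) : ∃ r, p' = p * y e r := by
  have := z.pe_mul h hω h0 he (z.pe_inv h hω h0 he k) k'
  rw [vv F, vv F] at this
  exact (z.pe_ker h hω h0 he this).imp fun r => inv_mul_eq_iff_eq_mul.1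

theorem pe_t (k : Pe ψ t y ω e p v₁ v₂) : Pe ψ t y ω e (t * p * t) (v₁ + v₂) v₂ := by
  have e1 : ∀ g, t * p * t * (t * g * t) * (t * p * t)⁻¹ = t * (p * g * p⁻¹) * t := fun g => by
    rw [z.tc, z.tc]; simp only [mul_inv_rev, z.it, mul_assoc]
  have e2 : ∀ x, t * ψ x * t = ψ x := fun x => by rw [z.tψ, mul_assoc, z.t2, mul_one]
  obtain ⟨γ, r, q, a⟩ := k.ct
  refine ⟨by simp [k.o1, k.o2], k.o2, fun r => cjf.1 ?_, fun w γ q => ?_, γ, σ r, q, ?_⟩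
  · rw [← h.ss r, ← z.ct _ _ he, e1, cjf.2 (k.cy _)]
  · conv_lhs => rw [← e2, e1, k.cQ w γ q, z.tc, e2, z.ct _ _ he]
    simp only [map_add, map_mul, h.bfK, bf_add_left]; congr 2; grind
  · have := e1 t
    rwa [a, z.tc, z.tc, e2, z.ct _ _ he, z.t2, one_mul] at this

theorem pe_conj (k : Pe ψ t y ω e p v₁ v₂) (x : SUG B) : Pe ψ t y ω (x.1 e) (ψ x * p * (ψ x)⁻¹) (x.1 v₁) (x.1 v₂) := by
  have e1 : ∀ g, ψ x * p * (ψ x)⁻¹ * (ψ x * g * (ψ x)⁻¹) * (ψ x * p * (ψ x)⁻¹)⁻¹ = ψ x * (p * g * p⁻¹) * (ψ x)⁻¹ := fun g => by group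
  have e2 : ∀ w γ, ψ (ei B (x.1 e) (x.1 w) γ) = ψ x * ψ (ei B e w γ) * (ψ x)⁻¹ := fun w γ => by simp [← h.ei_conj]
  obtain ⟨γ, r, q, a⟩ := k.ct
  refine ⟨by simp [k.o1], by simp [k.o2], fun r => cjf.1 ?_, fun w γ q => ?_, γ, r, q.map x, ?_⟩
  · rw [← z.eqv _ _ _ he, e1, cjf.2 (k.cy _)]
  · obtain ⟨w, rfl⟩ := x.1.surjective w
    rw [e2, e1, k.cQ w γ (by simpa only [ap_inv] using q.map x⁻¹), ← z.eqv _ _ _ he, conj_mul, bf_iso, bf_iso]
  · have := e1 t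
    rw [cjf.2 (z.tψ x).symm] at this
    rw [this, a, ← conj_mul, ← conj_mul, cjf.2 (z.tψ x).symm, z.eqv _ _ _ he, ← e2]

/-- `ei_smul`. -/
theorem pe_smul (ha : a ≠ 0) (k : Pe ψ t y ω (a • e) p v₁ v₂) : Pe ψ t y ω e p (σ a • v₁) (σ a • v₂) := by
  have a1 : σ a ≠ 0 := (map_ne_zero σ).2 ha
  have va : ∀ {w γ}, Va B (a • e) w γ → Va B e w γ := fun q => ⟨he, by simpa [ha] using q.ew, q.tr⟩
  obtain ⟨γ, r, q, c⟩ := k.ct
  refine ⟨by simpa [ha] using k.o1, by simpa [ha] using k.o2, fun r => ?_, fun w γ q => ?_, _, a * σ a * r, h.va_smul (va q) a, ?_⟩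
  · simpa only [z.smul _ _ _ he, mul_div_cancel₀ _ (mul_ne_zero ha a1)] using k.cy (r / (a * σ a))
  · have q' : Va B e ((σ a)⁻¹ • w) (γ / (a * σ a)) := ⟨he, by simp [q.ew], by simp [h.ss, ← q.tr]; field_simp⟩
    have := k.cQ _ _ ⟨by simp [he], by simp [q.ew], q'.tr⟩
    rw [h.ei_smul q', smul_inv_smul₀ a1, mul_div_cancel₀ _ (mul_ne_zero ha a1), z.smul _ _ _ he] at this
    rw [this]; congr 2; simp [bf, h.ss]; field_simp
  · rw [c, h.ei_smul (va q), z.smul _ _ _ he]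

/-- `ψ u P (ψ u)⁻¹ = PP r e (f + B w f • e)` for `u = ei e w γ`, `P_shift`, `P_pt`. -/
theorem pe_P (hf : B f f = 0) (hef : B e f = 0) (k₀ : σ r₀ = r₀) (k₁ : σ r₁ = r₁) :
    Pe ψ t y ω e (PP y (r₀ + r₁ * ω) e f) (r₀ • f) (r₁ • f) := by
  refine ⟨by simp [hef], by simp [hef], z.P_y h he hf hef he he hef _, fun w γ q => ?_, 0, 0, .zero he (by simp [hf]) (by simp [hef]), ?_⟩
  · have := z.P_eqv h he hf hef (ei B e w γ) (r₀ + r₁ * ω)
    rw [show (ei B e w γ).1 e = e from Q_le (h.ei_mem_Q e w γ), h.ei_perp q hef, z.P_shift h he hf hef, mul_inv_eq_iff_eq_mul] at this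
    rw [inv_eq_of_mul_eq_one_left (z.P_sq h he hf hef _), mul_assoc, this, ← mul_assoc, ← mul_assoc, z.P_sq h he hf hef, one_mul,
      ← z.cS h he (Q_le (h.ei_mem_Q e w γ)), bf_smul_left k₀, bf_smul_left k₁, bf_comm f, h.bf_eq]
    congr 2; ring
  · rw [z.P_pt h he hf hef, z.zero h he, mul_one, map_add, map_mul, k₀, k₁, show r₀ + r₁ * ω + (r₀ + r₁ * σ ω) = r₁ by grind]

/-- `ind1`. -/
theorem pe_ex (k₁ : B e v₁ = 0) (k₂ : B e v₂ = 0) : ∃ p, Pe ψ t y ω e p v₁ v₂ := by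
  obtain ⟨p, v, k⟩ := h.ind1 he (P := fun v₂ => ∃ p v, Pe ψ t y ω e p v v₂)
    (fun u hu eu => ⟨_, _, by simpa only [one_smul] using z.pe_P h hω h0 he hu eu (map_zero σ) (map_one σ)⟩)
    (fun u v _ _ ⟨_, _, a⟩ ⟨_, _, b⟩ => ⟨_, _, z.pe_mul h hω h0 he a b⟩) k₂
  obtain ⟨γ, q⟩ := h.va_ex he (w := v₁ + v) (by simp [k₁, k.o1])
  exact ⟨_, by simpa only [add_assoc, vv F, add_zero, zero_add] using z.pe_mul h hω h0 he (z.pe_ei h hω h0 he q) k⟩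

theorem cm_ex (k : Pe ψ t y ω e p v₁ v₂) (k' : Pe ψ t y ω e p' w₁ w₂) : ∃ c, ⁅p, p'⁆ = y e c :=
  z.pe_ker h hω h0 he (by
    simpa only [add_assoc, add_left_comm w₁, add_left_comm w₂, ← add_assoc v₁ v₁, ← add_assoc v₂ v₂, vv F, zero_add, ← mul_assoc, commutatorElement_def] using
      z.pe_mul h hω h0 he k (z.pe_mul h hω h0 he k' (z.pe_mul h hω h0 he (z.pe_inv h hω h0 he k) (z.pe_inv h hω h0 he k'))))

omit hω h0 in
theorem cm_mul {q : G} {c c' : F} (k : ∀ r, p * y e r = y e r * p) (h1 : ⁅p, p'⁆ = y e c) (h2 : ⁅q, p'⁆ = y e c') :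
    ⁅p * q, p'⁆ = y e (c' + c) := by
  rw [show ⁅p * q, p'⁆ = p * ⁅q, p'⁆ * p⁻¹ * ⁅p, p'⁆ by simp only [commutatorElement_def]; group, h1, h2, cjf.2 (k _), z.add _ _ _ he]

omit hω h0 in
theorem cm_symm {c : F} (h1 : ⁅p, p'⁆ = y e c) : ⁅p', p⁆ = y e c := by rw [← commutatorElement_inv, h1, z.inv h he]

omit hω h0 in
theorem cm_ei (k : Pe ψ t y ω e p v₁ v₂) (q : Va B e w γ) : ⁅p, ψ (ei B e w γ)⁆ = y e (bf B v₁ w + ω * bf B v₂ w) := by
  rw [commutatorElement_def, k.cQ w γ q, z.cS h he (Q_le (h.ei_mem_Q e w γ)), mul_inv_cancel_right]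

omit hω h0 in
theorem cm_y {c : F} (k : ∀ r, p * y e r = y e r * p) (k' : ∀ r, p' * y e r = y e r * p') (h1 : ⁅p, p'⁆ = y e c) (r : F) :
    ⁅p * y e r, p'⁆ = y e c := by
  rw [z.cm_mul h he k h1 (c' := 0) (by rw [z.zero h he, commutatorElement_eq_one_iff_mul_comm, k']), zero_add]

theorem cm_fun : ∃ c : V → V → F, ∀ p p' v₁ v₂ w₁ w₂, Pe ψ t y ω e p v₁ v₂ → Pe ψ t y ω e p' w₁ w₂ →
    ⁅p, p'⁆ = y e (bf B v₁ w₁ + ω * (bf B v₁ w₂ + bf B v₂ w₁) + c v₂ w₂) := by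
  choose! R hR using fun v (hv : B e v = 0) => z.pe_ex h hω h0 he (v₁ := 0) (by simp) hv
  choose! c hc using fun v w hv hw => z.cm_ex h hω h0 he (hR v hv) (hR w hw)
  have dec : ∀ {p v₁ v₂}, Pe ψ t y ω e p v₁ v₂ → ∃ γ r, Va B e v₁ γ ∧ p = ψ (ei B e v₁ γ) * R v₂ * y e r := fun k => by
    obtain ⟨γ, q⟩ := h.va_ex he k.o1
    obtain ⟨r, a⟩ := z.pe_same h hω h0 he (by simpa using z.pe_mul h hω h0 he (z.pe_ei h hω h0 he q) (hR _ k.o2)) k
    exact ⟨γ, r, q, a⟩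
  refine ⟨c, fun p p' v₁ v₂ w₁ w₂ k k' => ?_⟩
  obtain ⟨γ, r, q, a⟩ := dec k
  obtain ⟨γ', r', q', a'⟩ := dec k'
  have m := fun {v γ w} (q : Va B e v γ) hw => (z.pe_mul h hω h0 he (z.pe_ei h hω h0 he q) (hR w hw)).cy
  have b : ⁅R v₂, p'⁆ = _ := z.cm_symm h he (a' ▸ z.cm_y h he (m q' k'.o2) (hR _ k.o2).cy (z.cm_mul h he (z.pe_ei h hω h0 he q').cy
    (z.cm_symm h he (z.cm_ei h he (hR _ k.o2) q')) (z.cm_symm h he (hc _ _ k.o2 k'.o2))) r')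
  rw [a, z.cm_y h he (m q k.o2) k'.cy (z.cm_mul h he (z.pe_ei h hω h0 he q).cy (z.cm_symm h he (z.cm_ei h he k' q)) b) r,
    bf_zero_left, bf_comm w₁, bf_comm w₂]
  congr 1; ring

theorem cm_one : ∃ ν, σ ν = ν ∧ ∀ p p' v₁ v₂ w₁ w₂, Pe ψ t y ω e p v₁ v₂ → Pe ψ t y ω e p' w₁ w₂ →
    ⁅p, p'⁆ = y e (bf B v₁ w₁ + ω * (bf B v₁ w₂ + bf B v₂ w₁) + (ω + ν) * bf B v₂ w₂) := by
  obtain ⟨c, hc⟩ := z.cm_fun h hω h0 he
  have hc' : ∀ {p p' v w}, Pe ψ t y ω e p 0 v → Pe ψ t y ω e p' 0 w → ⁅p, p'⁆ = y e (c v w) := fun a b => by simpa using hc _ _ _ _ _ _ a b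
  choose! R hR using fun v (hv : B e v = 0) => z.pe_ex h hω h0 he (v₁ := 0) (by simp) hv
  have ij : ∀ {r r'}, y e r = y e r' → r = r' := z.inj h h0 he
  obtain ⟨n, hn⟩ : ∃ n : V → V → F, ∀ v w, n v w = c v w + ω * bf B v w := ⟨_, fun _ _ => rfl⟩
  have n1 : ∀ v w, B e v = 0 → B e w = 0 → n v w = n w v := fun v w a b => by
    rw [hn, hn, bf_comm, ij ((hc' (hR v a) (hR w b)).symm.trans (z.cm_symm h he (hc' (hR w b) (hR v a))))]
  have n2 : ∀ u v w, B e u = 0 → B e v = 0 → B e w = 0 → n (u + v) w = n u w + n v w := fun u v w a b d => by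
    rw [hn, hn, hn, bf_add_left, ij ((hc' (by simpa using z.pe_mul h hω h0 he (hR u a) (hR v b)) (hR w d)).symm.trans
      (z.cm_mul h he (hR u a).cy (hc' (hR u a) (hR w d)) (hc' (hR v b) (hR w d))))]
    ring
  have n2' : ∀ u v w, B e u = 0 → B e v = 0 → B e w = 0 → n u (v + w) = n u v + n u w := fun u v w a b d => by
    rw [n1 _ _ a (by simp [b, d]), n2 _ _ _ b d a, n1 _ _ a b, n1 _ _ a d]
  have n3 : ∀ v, B e v = 0 → n v v = 0 := fun v a => by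
    rw [hn, bf_self, ij ((hc' (hR v a) (hR v a)).symm.trans ((commutatorElement_self _).trans (z.zero h he).symm)), mul_zero, add_zero]
  have n4 : ∀ v w, B e v = 0 → B e w = 0 → σ (n v w) = n v w := fun v w a b => by
    have := hc _ _ _ _ _ _ (z.pe_t h hω h0 he (hR v a)) (z.pe_t h hω h0 he (hR w b))
    rw [show ⁅t * R v * t, t * R w * t⁆ = t * ⁅R v, R w⁆ * t by
      simp only [commutatorElement_def, z.tc, mul_inv_rev, z.it, mul_assoc], hc' (hR v a) (hR w b), z.ct _ _ he] at this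
    have := ij this
    simp only [hn, zero_add, map_add, map_mul, h.bfK] at this ⊢
    grind
  have n5 : ∀ (x : SUG B) (a : F) v w, x.1 e = a • e → B e v = 0 → B e w = 0 →
      n (σ a • x.1 v) (σ a • x.1 w) = a * σ a * n v w := fun x a v w hx b d => by
    have a0 : a ≠ 0 := by rintro rfl; simp [h0] at hx
    have k := fun v b => z.pe_smul h hω h0 he a0 (hx ▸ z.pe_conj h hω h0 he (hR v b) x)
    simp only [map_zero, smul_zero] at k
    have := hc' (k v b) (k w d)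
    rw [← conjugate_commutatorElement, hc' (hR v b) (hR w d), z.eqv _ _ _ he, hx, z.smul _ _ _ he] at this
    rw [hn, hn, ← ij this]; simp [bf, h.ss]; ring
  obtain ⟨e', q⟩ := h.hy_ex h0 he
  have o := fun w : hypPerp B e e' => (mem_hypPerp.1 w.2).1
  have n6 : ∀ k, σ k = k → ∀ v w : hypPerp B e e', n (k • v) (k • w) = k * k * n v w := fun k hk v w => by
    by_cases k0 : k = 0
    · simp [k0, n3]
    obtain ⟨f, f', fr⟩ := h.fr_ex' q
    obtain ⟨x, tx⟩ := h.tq_ex fr k0 one_ne_zero (by rwa [mul_one])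
    have : ∀ w : hypPerp B e e', x.1 w = w := fun w => by simp [tx w, o w, (mem_hypPerp.1 w.2).2, aa]
    simpa only [this, hk] using n5 x k v w (h.tq_ap fr tx).1 (o v) (o w)
  have n7 : ∀ k, σ k = k → ∀ v w : hypPerp B e e', n v (k • w) = n (k • v) w := fun k hk v w => by
    have := n6 (1 + k) (by simp [hk]) v w
    rw [add_smul, add_smul, one_smul, one_smul, n2 v (k • v.1) _ (o v) (by simp [o]) (by simp [o]), n2' v w (k • w.1) (o v) (o w) (by simp [o]),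
      n2' (k • v.1) w (k • w.1) (by simp [o]) (o w) (by simp [o]), n6 k hk] at this
    grind
  choose M hM using fun v : hypPerp B e e' => h.bf_dual q (.mk' (fun w => n v w) fun a b => n2' _ _ _ (o v) (o a) (o b))
    (fun w => n4 _ _ (o v) (o w)) fun c w hc => by
      obtain ⟨k, hk, rfl⟩ := h.sqrt hc
      exact (by rw [mul_smul]; exact n7 k hk v (k • w) : n v ((k * k) • w) = _).trans (n6 k hk v w)
  simp only [AddMonoidHom.mk'_apply] at hM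
  obtain ⟨ν, hν⟩ := h.endo' q (.mk' M fun u v => h.bfX q fun w => by
    rw [← hM, Submodule.coe_add, Submodule.coe_add, bf_add_left, ← hM, ← hM, n2 _ _ _ (o u) (o v) (o w)]) fun x a v w x1 x2 x3 => by
    have a0 : a ≠ 0 := by rintro rfl; simp [h0] at x1
    have a1 : σ a ≠ 0 := (map_ne_zero σ).2 a0
    refine congrArg Subtype.val (h.bfX q (u := ⟨_, smul_apply_mem_hypPerp x.2.1 a0 (inv_ne_zero a1) x1 x2 _ _⟩) fun u => ?_)
    have m := smul_apply_mem_hypPerp (x⁻¹).2.1 (inv_ne_zero a0) a1 (inv_eq_of (by rw [map_smul, x1, inv_smul_smul₀ a0]))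
      (inv_eq_of (by rw [map_smul, x2, smul_inv_smul₀ a1])) (σ a)⁻¹ u
    have := n5 x a v _ x1 (o v) (o ⟨_, m⟩)
    simp only [map_smul, inv_ap, smul_inv_smul₀ a1, x3, hM v ⟨_, m⟩, hM] at this
    simp only [AddMonoidHom.mk'_apply, this]
    simp [bf, h.ss, iso_l, iso_r]; field_simp
  simp only [AddMonoidHom.mk'_apply] at hν
  have s : σ ν = ν := by
    have := h.herm.finrank_hypPerp q.ee q.ef
    obtain ⟨v, hv⟩ := hm_noniso (h.herm.isHerm_hypPerp q.ee q.ef) (by have := h.d4; omega)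
    have hv' : B v v ≠ 0 := hv
    have := (hM v v).symm.trans (n3 _ (o v))
    simp only [hν, bf, Submodule.coe_smul, LinearMap.map_smulₛₗ, LinearMap.smul_apply, smul_eq_mul, RingHom.id_apply] at this
    grind
  refine ⟨ν, s, fun p p' v₁ v₂ w₁ w₂ k k' => ?_⟩
  have dc : ∀ {p v₁ v₂}, Pe ψ t y ω e p v₁ v₂ → ∃ v : hypPerp B e e', Pe ψ t y ω e p v₁ v ∧ ∀ w, B e w = 0 → bf B v₂ w = bf B v w :=
    fun {p v₁ v₂} k => ⟨⟨v₂ + B e' v₂ • e, mem_hypPerp.2 ⟨by simp [k.o2, he], by simp [h.fe q, aa]⟩⟩,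
      by simpa using z.pe_shift h hω h0 he k 0 (B e' v₂), fun w hw => by simp [bf, hw, h.cm hw]⟩
  obtain ⟨v, a1, a2⟩ := dc k
  obtain ⟨w, b1, b2⟩ := dc k'
  have := hn v w
  rw [hM, hν, Submodule.coe_smul, bf_smul_left s] at this
  rw [hc _ _ _ _ _ _ a1 b1, a2 _ k'.o1, a2 _ k'.o2, bf_comm v₁ w₂, bf_comm _ w₂, b2 _ k.o1, b2 _ (o v), bf_comm _ v₁, bf_comm w.1 v.1]
  congr 1; grind

omit h0 he in
/-- `⁅p, p'⁆ = y e (c p p')` (`pe_ker`), `c` is biadditive, alternating and depends only on the classes; it is known if `p' ∈ ψ Q`.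
`c₂(v, w) = c((0, v), (0, w))`; conjugation by `t`: `σ c₂ = c₂ + bf v w`, so `n = c₂ + ω bf` has values in `K`.  `pe_conj`, `pe_smul`:
`n(σ a x v, σ a x w) = N a n(v, w)` if `x e = a e`.  `Tq (a, 1)`, `a ∈ K`: `n(a v, a w) = a² n(v, w)`, expand `1 + a`: `n` is `K`-bilinear.
`bf_dual`: `n(v, w) = bf (M v) w`; `endo'`: `M = ν`; `n(v, v) = 0` for a non-isotropic `v`: `Tr ν = 0`.  `vec`: all `e`. -/
theorem exists_zd : ∃ ν, ZD ψ t y ω ν := by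
  obtain ⟨e₀, a0, a1⟩ := h.iso_ex
  obtain ⟨ν, hν, k⟩ := z.cm_one h hω a0 a1
  refine ⟨ν, z, hω, hν, fun e p p' v₁ v₂ w₁ w₂ h0 he q q' => ?_⟩
  obtain ⟨x, rfl⟩ := h.vec h0 a0 he a1
  have := k _ _ _ _ _ _ (z.pe_conj h hω h0 he q x) (z.pe_conj h hω h0 he q' x)
  rw [← conjugate_commutatorElement, ← z.eqv _ _ _ he] at this
  simpa only [bf_iso] using conj_injective this

end ZA

namespace ZD
variable (z : ZD ψ t y ω ν) (h : Ok B)
include z h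

theorem pe_act0 (h0 : e ≠ 0) (he : B e e = 0) (hf : B f f = 0) (hef : B e f = 0) (k₀ : σ r₀ = r₀) (k₁ : σ r₁ = r₁) (q : Va B e w γ) :
    Pe ψ t y ω e (y f (r₀ + r₁ * ω) * ψ (ei B e w γ) * y f (r₀ + r₁ * ω)) (w + r₀ • B f w • f) (r₁ • B f w • f) := by
  have := z.pe_mul h z.hω h0 he (z.pe_mul h z.hω h0 he (z.pe_ei h z.hω h0 he q) (z.pe_P h z.hω h0 he (f := B f w • f) (by simp [hf])
    (by simp [hef]) k₀ k₁)) (z.pe_y h z.hω h0 he (B w f * σ (B w f) * (r₀ + r₁ * ω)))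
  have k := z.eqv (ei B e w γ)⁻¹ f (r₀ + r₁ * ω) hf
  rw [map_inv, inv_inv, h.ei_inv q, h.ei_perp (h.va_inv q) hef, mul_assoc, inv_mul_eq_iff_eq_mul] at k
  rwa [add_zero, add_zero, zero_add, ← h.symm w f, ← z.P_smul h he hf hef, z.P_symm h (by simp [he]) hf (by simp [hef]), PP,
    ← z.smul _ _ _ he, mul_assoc, mul_assoc, z.sq h (by simp [he]), mul_one, ← mul_assoc, ← k, h.symm w f] at this

/-- `Y = y f r`.  (1) `Y ψ u Y⁻¹ = ψ u · PP r e (B f w • f) · y e _` for `u = ei e w γ` (`u⁻¹ f = f + B w f • e`, `P_smul`) has the class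
`(w + r₀ B f w • f, r₁ B f w • f)`.  (2) `cQ`: `⁅Y p Y⁻¹, ψ u⁆ = Y ⁅p, Y⁻¹ ψ u Y⁆ Y⁻¹`, `cm`, `bf v (B f w • f) = bf (B f v • f) w`.
(3) `ct`: `Y⁻¹ t Y = t z'`, `z' = ψ (tv f r₁)`; `k = (t z')⁻¹ p (t z') p⁻¹` has the class `(v₂ + r₁ B f (v₁ + v₂) • f, r₁ B f v₂ • f)`, that of
`Y⁻¹ ψ (ei e w _) Y` for the new `w = v₂'`; `pe_same`. -/
theorem pe_act (h0 : e ≠ 0) (he : B e e = 0) (hf : B f f = 0) (hef : B e f = 0) (k₀ : σ r₀ = r₀) (k₁ : σ r₁ = r₁)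
    (k : Pe ψ t y ω e p v₁ v₂) : Pe ψ t y ω e (y f (r₀ + r₁ * ω) * p * (y f (r₀ + r₁ * ω))⁻¹)
      (v₁ + (r₀ * B f v₁ + r₁ * ν * B f v₂) • f) (v₂ + (r₁ * B f v₁ + (r₀ + r₁) * B f v₂) • f) := by
  have c : ∀ r, y f (r₀ + r₁ * ω) * y e r = y e r * y f (r₀ + r₁ * ω) := fun r => z.comm _ _ _ _ hf he (h.cm hef)
  have i := z.inv h hf (r₀ + r₁ * ω)
  have o : B e (v₂ + (r₁ * B f v₁ + (r₀ + r₁) * B f v₂) • f) = 0 := by simp [k.o2, hef]
  have yt := z.yt h hf (r₀ + r₁ * ω)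
  rw [map_add, map_mul, k₀, k₁, show r₀ + r₁ * ω + (r₀ + r₁ * σ ω) = r₁ by have := z.hω; grind] at yt
  obtain ⟨γ, q⟩ := h.va_ex he o
  have p0 := fun {w γ} => z.pe_act0 h (w := w) (γ := γ) h0 he hf hef k₀ k₁
  generalize y f (r₀ + r₁ * ω) = Y at c i yt p0
  refine ⟨by simp [k.o1, hef], o, fun r => Commute.mul_left (Commute.mul_left (c r) (k.cy r)) (Commute.inv_left (c r)),
    fun w γ q => ?_, γ, ?_⟩
  · rw [show Y * p * Y⁻¹ * ψ (ei B e w γ) * (Y * p * Y⁻¹)⁻¹ = Y * ⁅p, Y⁻¹ * ψ (ei B e w γ) * Y⁆ * Y⁻¹ * ψ (ei B e w γ) by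
      simp only [commutatorElement_def]; group, i, z.cm _ _ _ _ _ _ _ h0 he k (p0 q), c, mul_assoc _ Y Y, mul_eq_one_iff_inv_eq.2 i, mul_one,
      ← z.cS h he (Q_le (h.ei_mem_Q e w γ))]
    congr 2
    simp only [bf, map_add, LinearMap.add_apply, LinearMap.map_smulₛₗ, LinearMap.smul_apply, smul_eq_mul, RingHom.id_apply, map_mul,
      k₀, k₁, z.hν, h.symm]
    ring
  have a := z.pe_conj h z.hω h0 he (z.pe_t h z.hω h0 he k) (tv B f r₁)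
  rw [h.tv_fix (h.cm hef), h.tv_ap hf k₁, h.tv_ap hf k₁] at a
  obtain ⟨s, hs⟩ := z.pe_same h z.hω h0 he (p0 q) (by
    convert z.pe_mul h z.hω h0 he a (z.pe_inv h z.hω h0 he k) using 1 <;> simp only [map_add, map_smul, hf, smul_eq_mul] <;>
      match_scalars <;> grind)
  refine ⟨s, q, ?_⟩
  rw [i] at yt
  have i' : (ψ (tv B f r₁))⁻¹ = ψ (tv B f r₁) := by rw [← map_inv, h.tv_inv]
  calc Y * p * Y⁻¹ * t * (Y * p * Y⁻¹)⁻¹ = Y * p * (Y⁻¹ * t * Y⁻¹⁻¹) * p⁻¹ * Y⁻¹ := by group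
    _ = Y * (t * (ψ (tv B f r₁))⁻¹) * (ψ (tv B f r₁) * (t * p * t) * (ψ (tv B f r₁))⁻¹ * p⁻¹) * Y⁻¹ := by
      rw [inv_inv, i, yt, i']
      simp only [mul_assoc, ← map_mul, ← mul_assoc (ψ _) (ψ _), h.tv_sq, map_one, one_mul, ← mul_assoc t t, z.t2]
    _ = _ := by
      rw [hs, i', ← yt, mul_assoc _ Y, c, i]
      simp only [mul_assoc, ← mul_assoc Y Y, mul_eq_one_iff_inv_eq.2 i, one_mul, mul_one]

omit z in
/-- `x² + x = ν` has a root: `x ↦ x² + x` has kernel `{0, 1}` and its image is the kernel of the absolute trace, which vanishes on `K`.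
Or: if `X² + X + ν` is irreducible over `K`, its root field has order `q²`.  `Tr x ∈ {0, 1}`. -/
theorem _root_.Cfsg.Lib.U42.Ok.root (hν : σ ν = ν) : ∃ x, x * x + x = ν ∧ (σ x = x ∨ x + σ x = 1) := by
  obtain ⟨ω, hω⟩ := h.om
  rcases as_two (K := fixedField σ) ⟨ν, hν⟩ ⟨ω * σ ω, h.nK ω⟩ with ⟨x, k⟩ | ⟨x, k⟩ | ⟨x, k⟩ <;> have k := congrArg Subtype.val k <;>
    have m : σ x = x := x.2 <;> simp only [Subfield.coe_add, Subfield.coe_mul] at k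
  · exact ⟨x, k, .inl m⟩
  · have : (x + ω) * (x + σ ω) = 0 := by grind
    rcases mul_eq_zero.1 this with a | a <;> have b := congrArg σ a <;> simp only [map_add, m, h.ss, map_zero] at b <;> grind
  · exact ⟨x + ω, by grind, .inr (by rw [map_add, m]; grind)⟩

/-- `y' v r = y v (r + (x + ω) Tr r)`, `y' v (a + x b) = y v (a + ω b)` for `a, b ∈ K`; `x σ x = x² + x = ν`. -/
theorem field {x : F} (hx : x * x + x = ν) (hx' : x + σ x = 1) : ∃ y', ZD ψ t y' x (x * σ x) := by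
  have hω := z.hω
  obtain ⟨L, hL⟩ : ∃ L : F → F, ∀ r, L r = r + (x + ω) * (r + σ r) := ⟨_, fun _ => rfl⟩
  have k : σ (x + ω) = x + ω := by rw [map_add]; grind
  have LL : ∀ r, L (L r) = r := fun r => by simp only [hL, map_add, map_mul, h.ss]; grind
  have Lx : ∀ a b, σ a = a → σ b = b → L (a + x * b) = a + ω * b := fun a b ha hb => by simp only [hL, map_add, map_mul, ha, hb]; grind
  have pe : ∀ {e p v₁ v₂}, Pe ψ t (fun v r => y v (L r)) x e p v₁ v₂ → Pe ψ t y ω e p v₁ v₂ := fun k =>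
    ⟨k.o1, k.o2, fun r => by simpa only [LL] using k.cy (L r), fun w γ q => by simpa only [Lx _ _ (h.bfK ..) (h.bfK ..)] using k.cQ w γ q,
      let ⟨γ, r, a, b⟩ := k.ct; ⟨γ, L r, a, b⟩⟩
  refine ⟨fun v r => y v (L r), ⟨z.toS1, fun v c hv hc => ?_, fun v r s hv => ?_, fun v r hv => ?_, fun x v r => z.eqv x v _,
    fun a v r hv => ?_, fun v w r s => z.comm v w _ _, fun e f a b r l => ?_⟩, hx', h.nK x, fun e p p' v₁ v₂ w₁ w₂ h0 he q q' => ?_⟩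
  · rw [hL, hc, aa, mul_zero, add_zero, z.ext v c hv hc]
  · rw [← z.add _ _ _ hv]; simp only [hL, map_add]; congr 1; ring
  · rw [z.ct _ _ hv]; simp only [hL, map_add σ r, map_mul, k, h.tK, h.ss]
  · rw [z.smul _ _ _ hv]; simp only [hL, map_mul, h.ss]; congr 1; ring
  · obtain ⟨s, hs⟩ := z.ql e f a b (L r) l
    exact ⟨L s, by simpa only [LL] using hs⟩
  · rw [z.cm _ _ _ _ _ _ _ h0 he (pe q) (pe q')]
    have := Lx (bf B v₁ w₁ + ν * bf B v₂ w₂) (bf B v₁ w₂ + bf B v₂ w₁ + bf B v₂ w₂) (by simp only [map_add, map_mul, h.bfK, z.hν])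
      (by simp only [map_add, h.bfK])
    rw [show x * σ x = ν by grind]
    congr 1
    rw [show bf B v₁ w₁ + x * (bf B v₁ w₂ + bf B v₂ w₁) + (x + ν) * bf B v₂ w₂ =
      bf B v₁ w₁ + ν * bf B v₂ w₂ + x * (bf B v₁ w₂ + bf B v₂ w₁ + bf B v₂ w₂) by ring, this]
    ring

end ZD

end Cfsg.Lib.U42
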