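import Cfsg.Agent.Lib.U42.SA_a

/-!
# S3138 (copy of `USt`, `q = 2`, dimension `4`), split case I: `H = HH = N(M)`, `t` fixes a unique point of `G / H`, the Sylow subgroup.  Port of `GSt/SA`.
`M = μ J ⊔ ν J` is a central product: `μ x * ν y = 1` only gives `x, y ∈ Z(J)` (odd order).  Orders of `2`-subgroups in `GSt` are
replaced by orders of elementary abelian subgroups (`El`); `b = m.bb 0`.
-/

set_option autoImplicit false
set_option linter.unusedSectionVars false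

namespace Cfsg.Lib.U42

open Subgroup G2S Cfsg.Lib.BG Cfsg.Lib.GW GSt.SLa
open GSt (N0 HH)
open scoped commutatorElement Cfsg.Lib.Transfer

variable {J U A G : Type*} [Group J] [Finite J] [Group U] [Finite U] [Group A] [Group G] [Finite G]
  {ψ μ ν : J →* G} {t g : G} {P T Γ : Subgroup G} {α β α' β' : MulAut J} {θ η θ' η' ι : A}

/-- The hypotheses used before `sw` is known. -/
structure SQ (ψ : J →* G) (t : G) (μ ν : J →* G) : Prop extends St ψ t, SD0 ψ t μ ν where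
  bd : ∀ P ≤ 𝐂[t], IsPGroup 2 P → Nat.card P ≤ 256

theorem SP.sq (s : SP ψ t μ ν) : SQ ψ t μ ν := ⟨s.toSt, s.toSD0, s.bd⟩

namespace SQ
variable (s : SQ ψ t μ ν)
include s

theorem kerν (x : J) (h : ν x = 1) : x ∈ center J :=
  s.kerμ x (conj_eq_one_iff.1 (show t * μ x * t⁻¹ = 1 by rw [s.it, s.tμ, h]))
theorem tν (x : J) : t * ν x * t = μ x := by
  rw [← s.tμ, ← mul_assoc, ← mul_assoc, s.t2, one_mul, mul_assoc, s.t2, mul_one]
theorem symm : SQ ψ t ν μ := ⟨s.toSt, ⟨s.kerν, s.tν, fun x y => (s.comm y x).symm, fun x => by rw [s.diag, s.comm]⟩, s.bd⟩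
theorem tt (g : G) : t * (t * g) = g := by rw [← mul_assoc, s.t2, one_mul]
theorem ac_μν (x y : J) : Ac μ ν (μ x * ν y) (MulAut.conj x) (MulAut.conj y) :=
  ⟨fun w => by rw [mul_assoc (μ x), ← s.comm]; simp [mul_assoc], fun w => by
    rw [s.comm, mul_assoc (ν y), s.comm]; simp [mul_assoc]⟩
theorem ac_t (h : Ac μ ν g α β) : Ac μ ν (t * g * t) β α :=
  ⟨fun x => by rw [← s.tν (β x), ← h.2, ← s.tμ]; simp [mul_assoc, s.it],
    fun x => by rw [← s.tμ (α x), ← h.1, ← s.tν x]; simp [mul_assoc, s.it]⟩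
theorem N0_t (h : g ∈ N0 μ ν) : t * g * t ∈ N0 μ ν := let ⟨_, _, h⟩ := h; ⟨_, _, s.ac_t h⟩
theorem mem_HH : g ∈ HH μ ν t ↔ g ∈ N0 μ ν ∨ g * t ∈ N0 μ ν := by
  have n : zpowers t ≤ 𝐍(N0 μ ν) :=
    zp_norm.2 (Transfer.mem_normalizer_of_conj_le (Transfer.conj_le_iff.2 fun x hx => s.it.symm ▸ s.N0_t hx))
  rw [HH, mem_sup_left_norm n]
  refine ⟨fun ⟨a, ha, b, hb, e⟩ => ?_, fun h => h.elim (fun h => ⟨g, h, 1, one_mem _, mul_one _⟩) fun h =>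
    ⟨_, h, t, mem_zpowers t, by rw [mul_assoc, s.t2, mul_one]⟩⟩
  subst e
  rcases GSt.SN.zp2 s.t2 hb with rfl | rfl
  · exact .inl (by rwa [mul_one])
  · exact .inr (by rwa [mul_assoc, s.t2, mul_one])
/-- `J × J → M`. -/
def pr : J × J →* G := MonoidHom.noncommCoprod μ ν s.comm
theorem pr_apply (x : J × J) : s.pr x = μ x.1 * ν x.2 := rfl
theorem pr_range : s.pr.range = μ.range ⊔ ν.range := MonoidHom.noncommCoprod_range _ _ _
theorem mem_M : g ∈ μ.range ⊔ ν.range ↔ ∃ x y, g = μ x * ν y := by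
  rw [← s.pr_range]; exact ⟨fun ⟨x, e⟩ => ⟨_, _, e.symm⟩, fun ⟨x, y, e⟩ => ⟨(x, y), e.symm⟩⟩
theorem M_le : μ.range ⊔ ν.range ≤ N0 μ ν := fun _ h => let ⟨_, _, e⟩ := s.mem_M.1 h; ⟨_, _, e ▸ s.ac_μν _ _⟩
omit s in
theorem ac_apply (h : Ac μ ν g α β) (x y : J) : g * (μ x * ν y) * g⁻¹ = μ (α x) * ν (β y) := by
  rw [← h.1, ← h.2, conj_mul]
theorem t_apply (x y : J) : t * (μ x * ν y) * t⁻¹ = μ y * ν x := by rw [← conj_mul, s.it, s.tμ, s.tν, s.comm]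
theorem swap (h : Ac μ ν (g * t) α β) (x : J) : g * μ x * g⁻¹ = ν (β x) ∧ g * ν x * g⁻¹ = μ (α x) :=
  ⟨by rw [← h.2, ← s.tν x]; simp [mul_assoc, s.it], by rw [← h.1, ← s.tμ x]; simp [mul_assoc, s.it]⟩
theorem HH_M : HH μ ν t ≤ 𝐍(μ.range ⊔ ν.range) := by
  refine sup_le (le_norm_iff.2 fun g ⟨α, β, h⟩ x hx => ?_) (zp_norm.2 (Transfer.mem_normalizer_of_conj_le
    (Transfer.conj_le_iff.2 fun x hx => ?_))) <;> obtain ⟨a, b, rfl⟩ := s.mem_M.1 hx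
  exacts [s.mem_M.2 ⟨_, _, ac_apply h _ _⟩, s.mem_M.2 ⟨_, _, s.t_apply _ _⟩]
theorem mul_sw {x y : G} (hx : x ∈ HH μ ν t) (hy : y ∈ HH μ ν t) (h1 : x ∉ N0 μ ν) (h2 : y ∉ N0 μ ν) : x * y ∈ N0 μ ν := by
  simpa [mul_assoc, s.tt, s.t2] using mul_mem ((s.mem_HH.1 hx).resolve_left h1) (s.N0_t ((s.mem_HH.1 hy).resolve_left h2))
theorem half (h : P ≤ HH μ ν t) : Nat.card P ≤ 2 * Nat.card ↥(P ⊓ N0 μ ν) := by
  rw [← GSt.card_Prop]
  refine GSt.fx_card P _ (fun x => x.1 ∈ N0 μ ν) fun a b e => ?_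
  by_cases ha : a.1 ∈ N0 μ ν
  · exact mul_mem (inv_mem ha) (e ▸ ha)
  · exact s.mul_sw (inv_mem (h a.2)) (h b.2) (mt inv_mem_iff.1 ha) (e ▸ ha)

variable (b : BM J A)
include b

/-- `center_of`. -/
theorem eq_one {x y : J} (h : μ x * ν y = 1) : x ∈ center J ∧ y ∈ center J := by
  have k : ∀ {μ ν : J →* G}, SQ ψ t μ ν → ∀ {x y}, μ x * ν y = 1 → x ∈ center J := fun s x y h => b.center_of fun w => s.kerμ _ (by
    rw [map_commutatorElement, commutatorElement_eq_one_iff_mul_comm, eq_inv_of_mul_eq_one_left h, ← map_inv, s.comm])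
  exact ⟨k s h, k s.symm (s.comm x y ▸ h)⟩
theorem eq_iff {x y x' y' : J} (h : μ x * ν y = μ x' * ν y') : x⁻¹ * x' ∈ center J ∧ y⁻¹ * y' ∈ center J :=
  s.eq_one b ((map_mul s.pr (x, y)⁻¹ (x', y')).trans (by rw [map_inv, inv_mul_eq_one]; exact h))
/-- `two_eq`. -/
theorem eq_two {x y x' y' : J} {n : ℕ} (h1 : x ^ 2 ^ n = 1) (h2 : y ^ 2 ^ n = 1) (h3 : x' ^ 2 ^ n = 1) (h4 : y' ^ 2 ^ n = 1)
    (h : μ x * ν y = μ x' * ν y') : x = x' ∧ y = y' :=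
  ⟨b.two_eq h1 h3 (s.eq_iff b h).1, b.two_eq h2 h4 (s.eq_iff b h).2⟩
/-- `aut_ext`. -/
theorem uniq (h : Ac μ ν g α β) (h' : Ac μ ν g α' β') : α = α' ∧ β = β' :=
  ⟨b.aut_ext fun x => s.kerμ _ (by rw [map_mul, map_inv, ← h.1, ← h'.1, inv_mul_cancel]),
    b.aut_ext fun x => s.kerν _ (by rw [map_mul, map_inv, ← h.2, ← h'.2, inv_mul_cancel])⟩
theorem t_not : t ∉ N0 μ ν := fun ⟨α, _, h⟩ => b.not_comm fun x y => mem_center_iff.1 ((center J).inv_mem_iff.1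
  (s.eq_one b (x := α y) (by rw [← h.1, s.it, s.tμ, map_inv, mul_inv_cancel])).2) x
theorem cm_odd {n : ℕ} (h : Ac μ ν g 1 1) (hn : g ^ 2 ^ n = 1) : g = 1 := by
  have e : ∀ g, g ∈ 𝐂(μ.range ⊔ ν.range) ↔ Ac μ ν g 1 1 := fun g => ⟨fun h => ⟨fun x => by
    rw [← mem_cent.1 h _ (mem_sup_left ⟨x, rfl⟩)]; simp, fun x => by rw [← mem_cent.1 h _ (mem_sup_right ⟨x, rfl⟩)]; simp⟩,
    fun h => mem_cent.2 fun x hx => by
      obtain ⟨a, b, rfl⟩ := s.mem_M.1 hx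
      exact (mul_inv_eq_iff_eq_mul.1 (ac_apply h a b)).symm⟩
  by_contra c
  obtain ⟨c, hc, h2, h3⟩ := GSt.exists_inv_cent s.t2 (norm_cent s.HH_M (mem_sup_right (mem_zpowers t)))
    ((pgroup_dvd_card (Inv.isPGroup_zpowers hn) (zpowers_ne_bot.2 c)).trans (card_dvd (zpowers_le.2 ((e g).2 h))))
  rcases s.kinv c h3 (fun x => (mem_cent.1 hc _ (s.mem_M.2 ⟨_, _, s.diag x⟩)).symm) (Inv.mul_self_of_orderOf h2) with e' | rfl
  exacts [Inv.ne_one_of_orderOf h2 e', s.t_not b ⟨_, _, (e _).1 hc⟩]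
theorem ac_sq (h : Ac μ ν g α β) (g2 : g * g = 1) : α * α = 1 ∧ β * β = 1 := s.uniq b (h.mul h) (g2 ▸ GSt.Ac.one)
theorem ac_pow {n : ℕ} (h : Ac μ ν g α β) (hn : g ^ n = 1) : α ^ n = 1 ∧ β ^ n = 1 :=
  s.uniq b (h.pow n) (hn ▸ GSt.Ac.one)
/-- A `2`-element acting like a `2`-element of `M` equals it. -/
theorem eq_of_inner' {x y : J} {n k : ℕ} (h : Ac μ ν g (MulAut.conj x) (MulAut.conj y)) (g2 : g ^ 2 ^ n = 1)
    (hx : (μ x * ν y) ^ 2 ^ k = 1) : g = μ x * ν y := by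
  have c := ac_apply h x y
  simp only [MulAut.conj_apply, mul_inv_cancel_right, mul_inv_eq_iff_eq_mul] at c
  have e := (s.ac_μν x y).inv.mul h
  rw [inv_mul_cancel, inv_mul_cancel] at e
  exact (inv_mul_eq_one.1 (s.cm_odd b (n := n + k) e (by
    rw [(Commute.inv_left c.symm).mul_pow, pow_add, pow_mul g, g2, mul_comm (2 ^ n), pow_mul, inv_pow, hx]; simp))).symm
theorem eq_of_inner {x y : J} (h : Ac μ ν g (MulAut.conj x) (MulAut.conj y)) (g2 : g * g = 1) (hx : x * x = 1) (hy : y * y = 1) :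
    g = μ x * ν y := s.eq_of_inner' b (n := 1) (k := 1) h ((sq g).trans g2) (by
  rw [pow_one, sq, ← s.pr_apply (x, y), ← map_mul, Prod.mk_mul_mk, hx, hy]; exact map_one _)
theorem pr_inj {P₁ P₂ : Subgroup J} (h₁ : IsPGroup 2 P₁) (h₂ : IsPGroup 2 P₂) : P₁.prod P₂ ⊓ s.pr.ker = ⊥ :=
  eq_bot_iff.2 fun x hx => Prod.ext (b.two_center (s.eq_one b hx.2).1 (congrArg Subtype.val (h₁ ⟨_, hx.1.1⟩).choose_spec))
    (b.two_center (s.eq_one b hx.2).2 (congrArg Subtype.val (h₂ ⟨_, hx.1.2⟩).choose_spec))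
theorem card_prod {P₁ P₂ : Subgroup J} (h₁ : IsPGroup 2 P₁) (h₂ : IsPGroup 2 P₂) :
    Nat.card ((P₁.prod P₂).map s.pr) = Nat.card P₁ * Nat.card P₂ := by
  rw [← Nat.card_congr (mapEquiv _ (s.pr_inj b h₁ h₂)).toEquiv, Nat.card_congr (prodEquiv P₁ P₂).toEquiv, Nat.card_prod]
/-- The action homomorphism. -/
theorem exists_ρ : ∃ ρ : N0 μ ν →* MulAut J × MulAut J, ∀ {g α β} (_ : Ac μ ν g α β) (h0 : g ∈ N0 μ ν), ρ ⟨g, h0⟩ = (α, β) :=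
  ⟨MonoidHom.mk' (fun g => (g.2.choose, g.2.choose_spec.choose)) fun a c => Prod.ext_iff.2
    (s.uniq b (a * c).2.choose_spec.choose_spec (a.2.choose_spec.choose_spec.mul c.2.choose_spec.choose_spec)),
    fun h h0 => Prod.ext_iff.2 (s.uniq b h0.choose_spec.choose_spec h)⟩
/-- The type homomorphism. -/
theorem exists_τ : ∃ τ : N0 μ ν →* A × A, ∀ {g α β} (_ : Ac μ ν g α β) (h0 : g ∈ N0 μ ν), τ ⟨g, h0⟩ = (b.Θ α, b.Θ β) := by
  obtain ⟨ρ, h⟩ := s.exists_ρ b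
  refine ⟨(b.Θ.prodMap b.Θ).comp ρ, fun {g α β} a h0 => ?_⟩
  rw [MonoidHom.comp_apply, h a h0]; rfl
theorem le_or {φ : J →* G} (hk : ∀ x, φ x = 1 → x ∈ center J) (h1 : φ.range ≤ μ.range ⊔ ν.range)
    (h2 : μ.range ⊔ ν.range ≤ 𝐍(φ.range)) : φ.range ≤ μ.range ∨ φ.range ≤ ν.range := by
  have k : ∀ X : Subgroup G, φ.range ≤ 𝐍(X) → X ≤ 𝐍(φ.range) → ¬ φ.range ≤ X → φ.range ≤ 𝐂(X) := fun X a c d => by
    have z := (b.qs (X.comap φ) ⟨fun x hx y => by simpa using conj_mem_of_norm (a ⟨y, rfl⟩) hx⟩).resolve_left fun e =>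
      d (by rintro _ ⟨x, rfl⟩; exact e.ge (mem_top x))
    have k : ⁅⁅φ.range, X⁆, φ.range⁆ = ⊥ := commutator_eq_bot_iff_le_centralizer.2 fun w hw => by
      obtain ⟨x, rfl⟩ := comm_le_left c hw
      rintro _ ⟨y, rfl⟩
      rw [← map_mul, mem_center_iff.1 (z (mem_comap.2 (comm_le_right a hw))) y, map_mul]
    have := commutator_commutator_eq_bot_of_rotate k (by rwa [commutator_comm X])
    rwa [← map_commutator_eq, b.perf, ← MonoidHom.range_eq_map, commutator_eq_bot_iff_le_centralizer] at this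
  by_contra! c
  have := h1.trans (sup_le (cent_symm (k _ (h1.trans (s.M_le.trans N0_le)) (le_sup_left.trans h2) c.1))
    (cent_symm (k _ (h1.trans (s.M_le.trans (GSt.N0_symm.ge.trans N0_le))) (le_sup_right.trans h2) c.2)))
  exact b.not_comm fun x y => mem_center_iff.1 (b.center_of fun w => hk _ (by
    rw [map_commutatorElement, commutatorElement_eq_one_iff_mul_comm]; exact this ⟨w, rfl⟩ _ ⟨y, rfl⟩)) x
/-- `g μ J g⁻¹` and `g ν J g⁻¹` are commuting quasisimple subgroups generating `M`.  Modulo centres as in `GSt.SP.mem_of_M`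
(project to `J / Z(J)`, which is simple by `qs`); `g μ J g⁻¹ ≤ μ J · Z(M)` gives `g μ J g⁻¹ ≤ μ J` (`perf`); `lift_range`. -/
theorem mem_of_M (h1 : ∀ x, g * μ x * g⁻¹ ∈ μ.range ⊔ ν.range) (h2 : ∀ x, g * ν x * g⁻¹ ∈ μ.range ⊔ ν.range) :
    g ∈ HH μ ν t := by
  have n : g ∈ 𝐍(μ.range ⊔ ν.range) := Transfer.mem_normalizer_of_conj_le (Transfer.conj_le_iff.2 fun x hx => by
    obtain ⟨x, y, rfl⟩ := s.mem_M.1 hx
    rw [← conj_mul]; exact mul_mem (h1 x) (h2 y))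
  have k : ∀ {φ : J →* G}, (∀ x, φ x = 1 → x ∈ center J) → (∀ x, g * φ x * g⁻¹ ∈ μ.range ⊔ ν.range) →
      μ.range ⊔ ν.range ≤ 𝐍(φ.range) → (∃ γ : MulAut J, ∀ x, g * φ x * g⁻¹ = μ (γ x)) ∨ ∃ γ : MulAut J, ∀ x, g * φ x * g⁻¹ = ν (γ x) :=
    fun {φ} a c d => by
    have a' : ∀ x, (MulAut.conj g).toMonoidHom.comp φ x = 1 → x ∈ center J := fun x e => a x (conj_eq_one_iff.1 e)
    refine (s.le_or b a' (by rintro _ ⟨x, rfl⟩; exact c x) ?_).imp (b.lift_range s.kerμ a') (b.lift_range s.kerν a')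
    rw [← MonoidHom.map_range, ← conj_eq_of_norm n, ← Transfer.conj_normalizer]
    exact Transfer.conj_mono g d
  have f : ∀ {μ' ν' : J →* G}, SQ ψ t μ' ν' → μ'.range ⊔ ν'.range = μ.range ⊔ ν.range → (∃ γ : MulAut J, ∀ x, g * μ x * g⁻¹ = μ' (γ x)) →
      (∃ γ : MulAut J, ∀ x, g * ν x * g⁻¹ = μ' (γ x)) → False := fun {μ' ν'} s' e ⟨γ, a⟩ ⟨γ', c⟩ => b.not_comm fun x y => by
    obtain ⟨u, v, e⟩ := s.mem_M.1 (conj_mem_of_norm' n (e.le (mem_sup_right ⟨y, rfl⟩)))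
    refine mem_center_iff.1 ((center J).inv_mem_iff.1 (s'.eq_one b (x := γ u * γ' v) ?_).2) x
    rw [map_mul, ← a, ← c, conj_mul, ← e, map_inv]; group
  rcases k s.kerμ h1 (s.M_le.trans N0_le) with a | a <;>
    rcases k s.kerν h2 (s.M_le.trans (GSt.N0_symm.ge.trans N0_le)) with c | c
  · exact (f s rfl a c).elim
  · exact mem_sup_left ⟨_, _, a.choose_spec, c.choose_spec⟩
  · refine s.mem_HH.2 (.inr ⟨c.choose, a.choose, fun x => ?_, fun x => ?_⟩)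
    · exact Eq.trans (by rw [← s.tμ]; simp [mul_assoc, s.it]) (c.choose_spec x)
    · exact Eq.trans (by rw [← s.tν x]; simp [mul_assoc, s.it]) (a.choose_spec x)
  · exact (f s.symm (sup_comm _ _) a c).elim
omit b

variable (m : SM J U A)

include m in
/-- `fixJ` in both factors gives a `2`-subgroup `(E₁.prod E₂).map pr` of `C(e)`, `e = g t g⁻¹` (`card_prod`, `pg_prod`), of order `≥ 16 * 32`, or
of order `≥ 16 * 16` with both types `≠ 1`; then `e ∉ M` (`uniq`, `ac_μν`, `Θ_conj`) can be adjoined (`GSt.two_mul_le`).  Conjugate by `g⁻¹`: `bd`. -/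
theorem no_fuse (g : G) : g * t * g⁻¹ ∉ N0 μ ν := fun ⟨α, β, h⟩ => by
  obtain ⟨a2, b2⟩ := s.ac_sq m.toBM h (cj2 s.t2 g)
  obtain ⟨E₁, p1, f1, c1, d1⟩ := m.fixJ a2
  obtain ⟨E₂, p2, f2, c2, d2⟩ := m.fixJ b2
  have k : ∀ X ≤ 𝐂[g * t * g⁻¹], IsPGroup 2 X → Nat.card X ≤ 256 := fun X a b => by
    rw [← Transfer.card_conj g⁻¹]
    exact s.bd _ (by rwa [Transfer.conj_le_iff_le_inv_conj, inv_inv, conj_cent1]) ((pgroup_conj _).2 b)
  have l : (E₁.prod E₂).map s.pr ≤ 𝐂[g * t * g⁻¹] := by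
    rintro _ ⟨x, hx, rfl⟩
    exact mc.2 (cjf.1 (by rw [s.pr_apply, ac_apply h, f1 _ hx.1, f2 _ hx.2])).symm
  have p := (pg_prod p1 p2).map s.pr
  have c := s.card_prod m.toBM p1 p2
  have k1 := k _ l p
  by_cases a : m.Θ α = 1
  · have := Nat.mul_le_mul (d1 a) c2; omega
  have k2 := k _ (sup_le l (zpowers_le.2 (self_mem_cent1 _))) (pgroup_sup p (Inv.isPGroup_zpowers_of_mul_self (cj2 s.t2 g))
    (norm_of_cent (cent_symm (cent_zpowers (g * t * g⁻¹) ▸ l))))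
  have k3 := GSt.two_mul_le (le_sup_left.lt_of_ne fun e : (E₁.prod E₂).map s.pr = _ ⊔ zpowers (g * t * g⁻¹) => by
    obtain ⟨x, -, e⟩ := e.ge (mem_sup_right (mem_zpowers _))
    have e' : μ x.1 * ν x.2 = g * t * g⁻¹ := e
    exact a (by rw [(s.uniq m.toBM h (e' ▸ s.ac_μν x.1 x.2)).1, m.Θ_conj]))
  have := Nat.mul_le_mul c1 c2
  omega
/-- As `GSt.SP.sw`, with `St.range` and `can`; `γ⁻¹ z`, where `χ = ψ' ∘ γ`. -/
theorem sp (can : ∀ g, g * g = 1 → (∀ y, y * m.j m.z = m.j m.z * y → g * ψ y = ψ y * g) → g * t * g = t * ψ (m.j m.z) →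
    g ∈ μ.range ⊔ ν.range) : SP ψ t μ ν := by
  refine ⟨s.toSt, s.toSD0, s.bd, fun g h => ?_⟩
  have s' := s.toSt.conj g
  obtain ⟨α, β, h⟩ := (s.mem_HH.1 h).resolve_left (s.no_fuse m g)
  have e := fun x => (s.swap h x).1
  generalize hr : g * t * g⁻¹ = r at s' e
  let χ : J →* G := s.pr.comp ((MonoidHom.id J).prod β.toMonoidHom)
  have hχ : ∀ x, χ x = μ x * ν (β x) := fun _ => rfl
  obtain ⟨γ, hγ⟩ := s'.range m.toBM (χ := χ) (fun x e => (s.eq_one m.toBM e).1) fun x => by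
    conv_rhs => rw [hχ, s.comm]
    simp only [hχ, ← e, mul_assoc, s'.it, ← mul_assoc r r, s'.t2, one_mul, mul_one]
  have d : ∀ x, ψ x = g⁻¹ * χ (γ⁻¹ x) * g := fun x => by simp [hγ, mul_assoc]
  have c : ∀ x y, x * y = y * x → g⁻¹ * μ (γ⁻¹ x) * g * ψ y = ψ y * (g⁻¹ * μ (γ⁻¹ x) * g) := fun x y e => by
    rw [d y, hχ]
    simp only [mul_assoc, mul_inv_cancel_left, mul_right_inj, ← mul_assoc (ν _), ← s.comm]
    simp only [← mul_assoc, ← map_mul, e]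
  have n : ((μ.range ⊔ ν.range).comap ((MulAut.conj g⁻¹).toMonoidHom.comp (μ.comp γ⁻¹.toMonoidHom))).Normal := ⟨fun x hx y => by
    have hy := s.mem_M.2 ⟨_, _, s.diag y⟩
    have := mul_mem (mul_mem hy hx) (inv_mem hy)
    rw [d y, hχ] at this
    change g⁻¹ * μ (γ⁻¹ (y * x * y⁻¹)) * g⁻¹⁻¹ ∈ μ.range ⊔ ν.range
    convert this using 1
    change _ = _ * (g⁻¹ * μ (γ⁻¹ x) * g⁻¹⁻¹) * _
    simp only [map_mul, map_inv, _root_.mul_inv_rev, inv_inv, mul_assoc, mul_inv_cancel_left, ← mul_assoc (ν _) (μ _), ← s.comm]⟩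
  have top := (m.qs _ n).resolve_right fun e' => m.jz (e' (by
    have := can (g⁻¹ * μ (γ⁻¹ (m.j m.z)) * g) (by
        simp only [mul_assoc, mul_inv_cancel_left, ← mul_assoc (μ _), ← map_mul, m.elZ _ m.zZ, map_one, one_mul, inv_mul_cancel])
      (fun y e => c _ _ e.symm) (by
        rw [d, hχ, show t = g⁻¹ * r * g by rw [← hr]; group, s.comm, ← e]
        simp only [mul_assoc, mul_inv_cancel_left, s'.it, ← mul_assoc r r, s'.t2, one_mul])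
    simpa using this))
  have h1 : ∀ x, g⁻¹ * μ x * g⁻¹⁻¹ ∈ μ.range ⊔ ν.range := fun x => by simpa using top.ge (mem_top (γ x))
  refine inv_mem_iff.1 (s.mem_of_M m.toBM h1 fun x => ?_)
  have := mul_mem (inv_mem (h1 (β⁻¹ x))) (s.mem_M.2 ⟨_, _, s.diag (γ (β⁻¹ x))⟩)
  rw [d, hχ] at this
  simpa [mul_assoc] using this
/-- `S' ≅ U × U`. -/
def i : U × U →* G := s.pr.comp (m.j.prodMap m.j)
theorem i_apply (x : U × U) : s.i m x = μ (m.j x.1) * ν (m.j x.2) := rfl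
theorem i_inj : Function.Injective (s.i m) := (injective_iff_map_eq_one _).2 fun x e =>
  Prod.ext ((map_eq_one_iff _ m.em.inj).1 (m.two_center (s.eq_one m.toBM e).1 (m.j_two _).choose_spec))
    ((map_eq_one_iff _ m.em.inj).1 (m.two_center (s.eq_one m.toBM e).2 (m.j_two _).choose_spec))
theorem i_range : (s.i m).range = SS m μ ν := le_antisymm
  (by rintro _ ⟨x, rfl⟩; exact mul_mem_sup ⟨_, rfl⟩ ⟨_, rfl⟩)
  (sup_le (by rintro _ ⟨x, rfl⟩; exact ⟨(x, 1), by simp [i_apply]⟩) (by rintro _ ⟨x, rfl⟩; exact ⟨(1, x), by simp [i_apply]⟩))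
theorem mem_SS : g ∈ SS m μ ν ↔ ∃ a b, g = μ (m.j a) * ν (m.j b) := by
  rw [← s.i_range]; exact ⟨fun ⟨x, e⟩ => ⟨_, _, e.symm⟩, fun ⟨x, y, e⟩ => ⟨(x, y), e.symm⟩⟩
theorem SS_M : SS m μ ν ≤ μ.range ⊔ ν.range := fun _ h => let ⟨_, _, e⟩ := (s.mem_SS m).1 h; s.mem_M.2 ⟨_, _, e⟩
theorem syl_SS : Syl 2 (SS m μ ν) (μ.range ⊔ ν.range) := by
  have : Syl 2 (m.j.range.prod m.j.range) ⊤ := Syl.mk' le_top (pg_prod m.em.syl.pgroup m.em.syl.pgroup) (by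
    have := m.em.syl.not_dvd'
    rw [relIndex_top_right] at this ⊢
    rw [index_prod, Nat.prime_two.dvd_mul]; tauto)
  have := this.map s.pr
  rwa [← MonoidHom.range_eq_map, s.pr_range, ← MonoidHom.range_prodMap, ← MonoidHom.range_comp,
    show (s.pr.comp _).range = _ from s.i_range m] at this
theorem U12 : (μ.comp m.j).range ⊓ (ν.comp m.j).range = ⊥ := eq_bot_iff.2 fun _ ⟨⟨a, h⟩, ⟨c, h'⟩⟩ => by
  have := s.i_inj m (a₁ := (a, 1)) (a₂ := (1, c)) (by simpa [i_apply] using h.trans h'.symm)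
  rw [mem_bot, ← h, show a = 1 from congrArg Prod.fst this, map_one]
theorem ty_Θ (h : Ty m μ ν g θ η) (h' : Ac μ ν g α β) : m.Θ α = θ ∧ m.Θ β = η := by
  obtain ⟨a, c, h⟩ := h
  obtain ⟨rfl, rfl⟩ := s.uniq m.toBM h h'
  exact ⟨m.Θ_spec _ _, m.Θ_spec _ _⟩
theorem ty_uniq (h : Ty m μ ν g θ η) (h' : Ty m μ ν g θ' η') : θ = θ' ∧ η = η' :=
  let ⟨_, _, a⟩ := h; ⟨(m.Θ_spec _ _).symm.trans (s.ty_Θ m h' a).1, (m.Θ_spec _ _).symm.trans (s.ty_Θ m h' a).2⟩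
omit s in
theorem ty_mul {g' : G} (h : Ty m μ ν g θ η) (h' : Ty m μ ν g' θ' η') : Ty m μ ν (g * g') (θ * θ') (η * η') :=
  let ⟨a, c, h⟩ := h; let ⟨a', c', h'⟩ := h'; ⟨_, _, m.R_mul a a' θ θ' ▸ m.R_mul c c' η η' ▸ h.mul h'⟩
/-- The projections of `P` to the two factors are fixed by the automorphisms induced by `g`. -/
theorem fix_pr {a c : U} (h : Ac μ ν g (MulAut.conj (m.j a) * m.fl θ) (MulAut.conj (m.j c) * m.fl η)) {x : U × U}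
    (hc : g * s.i m x = s.i m x * g) : a * m.fU θ x.1 * a⁻¹ = x.1 ∧ c * m.fU η x.2 * c⁻¹ = x.2 := by
  have := ac_apply h (m.j x.1) (m.j x.2)
  rw [← s.i_apply, hc, mul_inv_cancel_right, m.R_j, m.R_j] at this
  exact Prod.ext_iff.1 (s.i_inj m (a₁ := (_, _)) this.symm)

variable {m} (y : SY m μ ν t T Γ)
include y
theorem SS_le : SS m μ ν ≤ T := fun x hx => (y.mem x).2 ⟨x, hx, 1, one_mem _, (mul_one _).symm⟩
theorem Γ_le : Γ ≤ T := fun x hx => (y.mem x).2 ⟨1, one_mem _, x, hx, (one_mul _).symm⟩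
theorem exists_ty (h : g ∈ T) (h0 : g ∈ N0 μ ν) : ∃ θ η, Ty m μ ν g θ η := by
  obtain ⟨u, hu, σ, hσ, rfl⟩ := (y.mem g).1 h
  obtain ⟨θ, η, h' | h'⟩ := y.std σ hσ
  · obtain ⟨a, c, rfl⟩ := (s.mem_SS m).1 hu
    exact ⟨θ, η, a, c, (s.ac_μν _ _).mul h'⟩
  · exact absurd ((mul_mem_cancel_left ((mul_mem_cancel_left (s.M_le (s.SS_M m hu))).1 h0)).1 ⟨_, _, h'⟩) (s.t_not m.toBM)
theorem ty_one (h : g ∈ T) : Ty m μ ν g 1 1 ↔ g ∈ SS m μ ν := by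
  refine ⟨fun ⟨a, c, e⟩ => ?_, fun e => ?_⟩
  · have hu := (s.mem_SS m).2 ⟨a, c, rfl⟩
    obtain ⟨k, hk⟩ := y.syl.pgroup ⟨_, mul_mem (inv_mem (s.SS_le y hu)) h⟩
    exact inv_mul_eq_one.1 (s.cm_odd m.toBM (by simpa using (s.ac_μν (m.j a) (m.j c)).inv.mul e) (congrArg Subtype.val hk)) ▸ hu
  · obtain ⟨a, c, rfl⟩ := (s.mem_SS m).1 e
    exact ⟨a, c, by simpa using s.ac_μν _ _⟩
theorem card_ty (hP : P ≤ T ⊓ N0 μ ν) {D : Subgroup (A × A)} (h : ∀ g ∈ P, ∀ θ η, Ty m μ ν g θ η → (θ, η) ∈ D) :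
    Nat.card P ≤ Nat.card D * Nat.card ↥(P ⊓ SS m μ ν) := by
  have := m.fin
  choose θ η e using fun x : P => s.exists_ty y (hP x.2).1 (hP x.2).2
  refine GSt.fx_card P _ (fun x => (⟨_, h x x.2 _ _ (e x)⟩ : D)) fun a c k => ?_
  obtain ⟨θ', η', e'⟩ := s.exists_ty y (hP (mul_mem (inv_mem a.2) c.2)).1 (hP (mul_mem (inv_mem a.2) c.2)).2
  have := ty_mul m (e a) e'
  obtain ⟨k1, k2⟩ := Prod.ext_iff.1 (congrArg Subtype.val k)
  obtain ⟨e1, e2⟩ := s.ty_uniq m (mul_inv_cancel_left a.1 c.1 ▸ this) (e c)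
  rw [mul_eq_left.1 (e1.trans k1.symm), mul_eq_left.1 (e2.trans k2.symm)] at e'
  exact (s.ty_one y (hP (mul_mem (inv_mem a.2) c.2)).1).1 e'
end SQ

namespace SP
variable (s : SP ψ t μ ν)
include s
theorem symm : SP ψ t ν μ := ⟨s.toSt, s.sq.symm.toSD0, s.bd, by simpa only [HH, GSt.N0_symm (μ := μ)] using s.sw⟩
omit s in
theorem ac_comp (δ : MulAut J) (h : Ac μ ν g α β) :
    Ac (μ.comp δ.toMonoidHom) (ν.comp δ.toMonoidHom) g (δ⁻¹ * α * δ) (δ⁻¹ * β * δ) := ⟨fun x => by simp [h.1], fun x => by simp [h.2]⟩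
omit s in
theorem ac_comp' (δ : MulAut J) (h : Ac (μ.comp δ.toMonoidHom) (ν.comp δ.toMonoidHom) g α β) : Ac μ ν g (δ * α * δ⁻¹) (δ * β * δ⁻¹) :=
  ⟨fun x => by simpa using h.1 (δ⁻¹ x), fun x => by simpa using h.2 (δ⁻¹ x)⟩
theorem comp (δ : MulAut J) : SP (ψ.comp δ.toMonoidHom) t (μ.comp δ.toMonoidHom) (ν.comp δ.toMonoidHom) := by
  have e : N0 (μ.comp δ.toMonoidHom) (ν.comp δ.toMonoidHom) = N0 μ ν :=
    ext fun _ => ⟨fun ⟨_, _, h⟩ => ⟨_, _, ac_comp' δ h⟩, fun ⟨_, _, h⟩ => ⟨_, _, ac_comp δ h⟩⟩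
  exact ⟨s.toSt.comp δ, ⟨fun x h => mem_center_iff.2 fun y => δ.injective (by
    simpa using mem_center_iff.1 (s.kerμ _ h) (δ y)), fun _ => s.tμ _, fun _ _ => s.comm _ _, fun _ => s.diag _⟩,
    s.bd, by simpa only [HH, e] using s.sw⟩
theorem two (hP : IsPGroup 2 P) (h : t ∈ P) : P ≤ HH μ ν t := by
  by_contra c
  exact (nil_norm_grow (pgroup_nil hP) (inf_lt_left.2 c)).not_ge fun x hx =>
    ⟨hx.1, s.sw _ (conj_mem_of_norm hx.2 ⟨h, mem_sup_right (mem_zpowers t)⟩).2⟩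
/-- The elements acting as field automorphisms, and such swaps. -/
def Γ0 (m : SM J U A) : Subgroup G where
  carrier := {σ | ∃ θ η, Ac μ ν σ (m.fl θ) (m.fl η) ∨ Ac μ ν (σ * t) (m.fl θ) (m.fl η)}
  one_mem' := ⟨1, 1, .inl (by simpa using GSt.Ac.one)⟩
  mul_mem' := by
    rintro a c ⟨θ, η, h | h⟩ ⟨θ', η', h' | h'⟩
    · exact ⟨θ * θ', η * η', .inl (by simpa using h.mul h')⟩
    · exact ⟨θ * θ', η * η', .inr (by simpa [mul_assoc] using h.mul h')⟩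
    · exact ⟨θ * η', η * θ', .inr (by simpa [mul_assoc, s.sq.tt] using h.mul (s.sq.ac_t h'))⟩
    · exact ⟨θ * η', η * θ', .inl (by simpa [mul_assoc, s.sq.tt, s.t2] using h.mul (s.sq.ac_t h'))⟩
  inv_mem' := by
    rintro a ⟨θ, η, h | h⟩
    · exact ⟨θ⁻¹, η⁻¹, .inl (by simpa using h.inv)⟩
    · exact ⟨η⁻¹, θ⁻¹, .inr (by simpa [mul_assoc, s.sq.tt, s.it] using s.sq.ac_t h.inv)⟩
theorem sy_of (m : SM J U A) (hT : Syl 2 T ⊤) (ht : t ∈ T) (h : ∀ x ∈ T, ∀ α β, Ac μ ν x α β → α ∈ m.R) :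
    SY m μ ν t T (T ⊓ s.Γ0 m) := by
  have k : ∀ x ∈ T, x ∈ N0 μ ν → ∃ θ η, Ty m μ ν x θ η := fun x hx ⟨α, β, e⟩ => by
    obtain ⟨a, θ, rfl⟩ := h x hx _ _ e
    obtain ⟨c, η, rfl⟩ := h _ (mul_mem (mul_mem ht hx) ht) _ _ (s.sq.ac_t e)
    exact ⟨θ, η, a, c, e⟩
  have hH := s.two hT.pgroup ht
  have hS : SS m μ ν ≤ T := ((hT.inf le_top (hH.trans s.sq.HH_M)).eq_of_le' (s.sq.syl_SS m) fun x hx => by
    obtain ⟨θ, η, e⟩ := k x hx.1 (s.sq.M_le hx.2)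
    obtain ⟨u, v, e'⟩ := s.sq.mem_M.1 hx.2
    obtain ⟨e1, e2⟩ := s.sq.ty_Θ m e (e' ▸ s.sq.ac_μν u v)
    rw [m.Θ_conj] at e1 e2
    subst e1 e2
    obtain ⟨a, c, e⟩ := e
    obtain ⟨n, hn⟩ := hT.pgroup ⟨x, hx.1⟩
    obtain ⟨n', hn'⟩ := (s.sq.syl_SS m).pgroup ⟨_, (s.sq.mem_SS m).2 ⟨a, c, rfl⟩⟩
    exact (s.sq.mem_SS m).2 ⟨a, c, s.sq.eq_of_inner' m.toBM (by simpa using e) (congrArg Subtype.val hn)
      (congrArg Subtype.val hn')⟩).ge.trans inf_le_left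
  have k' : ∀ x ∈ T, x ∈ N0 μ ν → ∃ u ∈ SS m μ ν, u⁻¹ * x ∈ T ⊓ s.Γ0 m := fun x hx h0 => by
    obtain ⟨θ, η, a, c, e⟩ := k x hx h0
    have hu := (s.sq.mem_SS m).2 ⟨a, c, rfl⟩
    exact ⟨_, hu, T.mul_mem (T.inv_mem (hS hu)) hx, θ, η, .inl (by simpa using (s.sq.ac_μν (m.j a) (m.j c)).inv.mul e)⟩
  have tΓ : t ∈ T ⊓ s.Γ0 m := ⟨ht, 1, 1, .inr (by simpa [s.t2] using GSt.Ac.one)⟩
  refine ⟨hT, tΓ, fun x => ⟨fun hx => ?_, ?_⟩, fun _ h => h.2⟩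
  · rcases s.sq.mem_HH.1 (hH hx) with h0 | h0
    · exact let ⟨u, hu, e⟩ := k' x hx h0; ⟨u, hu, _, e, by simp⟩
    · exact let ⟨u, hu, e⟩ := k' _ (mul_mem hx ht) h0; ⟨u, hu, _, mul_mem e tΓ, by simp [mul_assoc, s.t2]⟩
  · rintro ⟨u, hu, σ, hσ, rfl⟩
    exact mul_mem (hS hu) hσ.1
/-- `T ∋ t` Sylow in `G`, `T ≤ HH` (`two`), `T₀ = T ⊓ N0` is Sylow in `N0`.  The first components of the actions of `T₀` form a
`2`-subgroup of `Aut J`; choose `δ` conjugating it into `R` (`syl_R`) and reparametrize.  The second component of `x` is the first of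
`t x t`.  `T₀ ⊓ μ J` is Sylow in `μ J` and consists of `μ l`, `l` a `2`-element with `conj l ∈ R`, so `l ∈ j U` (`two_eq`): `S' ≤ T`.
`Γ = {σ ∈ T | std}`; for `x ∈ T₀` with actions `conj (j a) * fl θ`, `conj (j b) * fl η`: `(μ (j a) ν (j b))⁻¹ x ∈ Γ`. -/
theorem exists_sy (m : SM J U A) : ∃ (δ : MulAut J) (T Γ : Subgroup G), SY m (μ.comp δ.toMonoidHom) (ν.comp δ.toMonoidHom) t T Γ := by
  obtain ⟨T, hT, ht⟩ := Syl.exists_ge (Inv.isPGroup_zpowers_of_mul_self s.t2) le_top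
  obtain ⟨ρ, hρ⟩ := s.sq.exists_ρ m.toBM
  obtain ⟨γ, -, e⟩ := m.syl_R.exists_conj_le (hT.pgroup.comap_subtype.map ((MonoidHom.fst _ _).comp ρ)) le_top
  refine ⟨γ⁻¹, T, _, (s.comp γ⁻¹).sy_of m hT (ht (mem_zpowers t)) fun x hx α β a => ?_⟩
  have a := ac_comp' _ a
  simpa [mul_assoc] using Transfer.conj_le_iff.1 e _ ⟨⟨x, _, _, a⟩, hx, congrArg Prod.fst (hρ a _)⟩
end SP

end Cfsg.Lib.U42
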