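import Cfsg.Agent.Lib.U42.SA
import Cfsg.Agent.Lib.GSt.SB

/-!
# S3138 (copy of `USt`, `q = 2`, dimension `4`), split case II (first part).  Port of the first half of `GSt/SB` (reuse its generic lemmas `two_mul_le`, `SN.zp2`, `Ac.pow`, `N0_symm`, ...).
`U₁ = (μ.comp j).range`, `U₂ = (ν.comp j).range`, `Z = center U`, `b = m.bb 0`; a *swap* is an element of `HH \ N0`.
-/

set_option autoImplicit false
set_option linter.unusedSectionVars false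

namespace Cfsg.Lib.U42

open Subgroup G2S Cfsg.Lib.BG Cfsg.Lib.GW GSt.SLa
open GSt (N0 HH)
open scoped commutatorElement Cfsg.Lib.Transfer

variable {J U A G : Type*} [Group J] [Finite J] [Group U] [Finite U] [Group A] [Group G] [Finite G] {m : SM J U A}
  {ψ μ ν : J →* G} {t g φ : G} {P T Γ N : Subgroup G} {α β : MulAut J} {θ η ι : A}

theorem Ty.symm (h : Ty m μ ν g θ η) : Ty m ν μ g η θ := let ⟨a, b, h⟩ := h; ⟨b, a, And.symm h⟩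
theorem Ty.N0 (h : Ty m μ ν g θ η) : g ∈ N0 μ ν := let ⟨_, _, h⟩ := h; ⟨_, _, h⟩
theorem SS_symm : SS m ν μ = SS m μ ν := sup_comm _ _
theorem Ph.symm (p : Ph m μ ν Γ N φ ι) : Ph m ν μ Γ N φ ι := ⟨p.mem, p.memN, p.cen, p.sq, And.symm p.ac, p.ι2, p.ι1⟩
theorem Pt.symm (p : Pt m μ ν t φ ι) : Pt m ν μ t φ ι :=
  ⟨p.sq, p.ct, let ⟨α, β, a, b, c⟩ := p.ac; ⟨β, α, And.symm a, c, b⟩, p.ι2, p.ι1⟩
theorem SM.fl_inj (m : SM J U A) (h : m.fl θ = m.fl η) : θ = η := by rw [← m.Θ_fl θ, h, m.Θ_fl]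
theorem ty_fl (h : Ac μ ν g (m.fl θ) (m.fl η)) : Ty m μ ν g θ η := ⟨1, 1, by simpa using h⟩
theorem sup_t [N.Normal] (t2 : t * t = 1) : g ∈ N ⊔ zpowers t ↔ g ∈ N ∨ g * t ∈ N := by
  refine ⟨fun h => ?_, fun h => h.elim mem_sup_left fun h => (mul_mem_cancel_right (mem_sup_right (mem_zpowers t))).1 (mem_sup_left h)⟩
  obtain ⟨a, ha, c, hc, rfl⟩ := mem_sup_of_normal_left.1 h
  rcases GSt.SN.zp2 t2 hc with rfl | rfl
  exacts [.inl (by rwa [mul_one]), .inr (by rwa [mul_assoc, t2, mul_one])]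
theorem El.sup {E : Subgroup G} (h : El E) (g2 : g * g = 1) (c : ∀ x ∈ E, x * g = g * x) : El (E ⊔ zpowers g) := fun x hx => by
  obtain ⟨a, ha, d, hd, rfl⟩ := (mem_sup_left_norm (norm_of_cent (zp_cent.2 fun x hx => mc.2 (c x hx)))).1 hx
  rcases GSt.SN.zp2 g2 hd with rfl | rfl
  exacts [by rw [mul_one, h a ha], Inv.mul_self_mul_of_comm (h a ha) g2 (c a ha)]

namespace SN
variable (s : SN m ψ t μ ν T Γ N)
include s

theorem sq : SQ ψ t μ ν := s.toSP.sq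
theorem symm : SN m ψ t ν μ T Γ N := ⟨s.toSP.symm, ⟨s.syl, s.tΓ, fun x => SS_symm (m := m) (μ := μ) (ν := ν) ▸ s.mem x, fun σ h =>
  let ⟨θ, η, h⟩ := s.std σ h; ⟨η, θ, h.imp And.symm And.symm⟩⟩, s.nN, s.pN, s.νN, s.μN⟩
theorem t_not : t ∉ N0 μ ν := s.sq.t_not m.toBM
/-- `GSt.tf`, `sw`. -/
theorem ct (h : g ∈ N) (hc : g * t = t * g) : g ∈ N0 μ ν :=
  GSt.tf le_sup_left (fun _ hx _ hy => s.sq.mul_sw hx hy) s.t2 (mem_sup_right (mem_zpowers t)) s.sw hc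
    (commutator_mono le_top le_top (s.pN.ge h))
theorem t_notN : t ∉ N := fun h => s.t_not (s.ct h rfl)
theorem tT : t ∈ T := s.sq.Γ_le s.toSY s.tΓ
theorem Γ_T : Γ ≤ T := s.sq.Γ_le s.toSY
theorem T_HH : T ≤ HH μ ν t := s.two s.syl.pgroup s.tT
theorem SS_T : SS m μ ν ≤ T := s.sq.SS_le s.toSY
theorem SS_N : SS m μ ν ≤ N := (s.sq.SS_M m).trans (sup_le s.μN s.νN)
theorem SS_N0 : SS m μ ν ≤ N0 μ ν := (s.sq.SS_M m).trans s.sq.M_le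
theorem cjN (h : g ∈ N) (c : G) : c * g * c⁻¹ ∈ N := s.nN.conj_mem _ h c
theorem HH_N0 : HH μ ν t ≤ 𝐍(N0 μ ν) := sup_le (le_norm _)
  (zp_norm.2 (Transfer.mem_normalizer_of_conj_le (Transfer.conj_le_iff.2 fun _ hx => s.it.symm ▸ s.sq.N0_t hx)))
theorem ty (h : g ∈ T) (h0 : g ∈ N0 μ ν) : ∃ θ η, Ty m μ ν g θ η := s.sq.exists_ty s.toSY h h0
theorem T_U1 (h : g ∈ T) (h0 : g ∈ N0 μ ν) : g ∈ 𝐍((μ.comp m.j).range) := by
  obtain ⟨θ, η, a, b, h⟩ := s.ty h h0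
  refine Transfer.mem_normalizer_of_conj_le (Transfer.conj_le_iff.2 ?_)
  rintro _ ⟨x, rfl⟩
  exact ⟨a * m.fU θ x * a⁻¹, by simp [h.1, m.fl_j]⟩
theorem T_U2 (h : g ∈ T) (h0 : g ∈ N0 μ ν) : g ∈ 𝐍((ν.comp m.j).range) := s.symm.T_U1 h (GSt.N0_symm.ge h0)
theorem T_sw (h : g ∈ T) (h0 : g ∉ N0 μ ν) {y : G} (hy : y ∈ (μ.comp m.j).range) : g * y * g⁻¹ ∈ (ν.comp m.j).range := by
  obtain ⟨x, rfl⟩ := hy
  have := conj_mem_of_norm (s.T_U2 (mul_mem h s.tT) ((s.sq.mem_HH.1 (s.T_HH h)).resolve_left h0)) ⟨x, rfl⟩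
  simpa [← s.tμ, mul_assoc, s.sq.tt, s.it] using this
theorem std0 (h : g ∈ Γ) (h0 : g ∈ N0 μ ν) : ∃ θ η, Ac μ ν g (m.fl θ) (m.fl η) :=
  let ⟨θ, η, e⟩ := s.std g h
  ⟨θ, η, e.resolve_right fun e => s.t_not ((mul_mem_cancel_left h0).1 ⟨_, _, e⟩)⟩
theorem std1 (h : g ∈ Γ) (h0 : g ∉ N0 μ ν) : ∃ θ η, Ac μ ν (g * t) (m.fl θ) (m.fl η) :=
  let ⟨θ, η, e⟩ := s.std g h
  ⟨θ, η, e.resolve_left fun e => h0 ⟨_, _, e⟩⟩
theorem pΓ : IsPGroup 2 Γ := pgroup_of_le s.syl.pgroup s.Γ_T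
/-- Elements of `Γ` are determined by their types (`cm_odd`). -/
theorem Γ_eq {g' : G} (h : g ∈ Γ) (h' : g' ∈ Γ) (a : Ac μ ν g (m.fl θ) (m.fl η)) (a' : Ac μ ν g' (m.fl θ) (m.fl η)) : g = g' :=
  let ⟨_, e⟩ := s.pΓ ⟨_, mul_mem (inv_mem h) h'⟩
  inv_mul_eq_one.1 (s.sq.cm_odd m.toBM (by simpa using a.inv.mul a') (congrArg Subtype.val e))
/-- The decomposition of an element of `T ⊓ N0`. -/
theorem dec (h : g ∈ T) (e : Ty m μ ν g θ η) : ∃ u ∈ SS m μ ν, ∃ σ ∈ Γ, g = u * σ ∧ Ac μ ν σ (m.fl θ) (m.fl η) := by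
  obtain ⟨u, hu, σ, hσ, rfl⟩ := (s.mem g).1 h
  obtain ⟨θ', η', a⟩ := s.std0 hσ ((mul_mem_cancel_left (s.SS_N0 hu)).1 e.N0)
  obtain ⟨e1, e2⟩ := s.sq.ty_uniq m e (SQ.ty_mul m ((s.sq.ty_one s.toSY (s.SS_T hu)).2 hu) (ty_fl a))
  exact ⟨u, hu, σ, hσ, rfl, by rwa [e1, e2, one_mul, one_mul]⟩
theorem T0_z (h : g ∈ T) (h0 : g ∈ N0 μ ν) : g * μ (m.j m.z) * g⁻¹ = μ (m.j m.z) := by
  obtain ⟨θ, η, a, b, h⟩ := s.ty h h0
  rw [h.1, m.R_j, m.fz, cjf.2 (mem_center_iff.1 m.zZ a)]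
theorem exists_ph (h : ¬ T ⊓ N ≤ SS m μ ν) : ∃ φ ι, Ph m μ ν Γ N φ ι := by
  obtain ⟨x, hx, c⟩ := SetLike.not_le_iff_exists.1 h
  obtain ⟨u, hu, σ, hσ, rfl⟩ := (s.mem x).1 hx.1
  have := s.nN
  obtain ⟨φ, h1, h2⟩ := Inv.exists_involution_mem_of_even (even_iff_two_dvd.2 (pgroup_dvd_card
    (pgroup_of_le s.pΓ (inf_le_left.trans inf_le_left)) (nil_meet_center (pgroup_nil s.pΓ) (N := Γ ⊓ N) inf_le_left
      (norm_inf (le_norm Γ) le_normalizer_of_normal)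
      (ne_bot_of_mem (x := σ) ⟨hσ, (mul_mem_cancel_left (s.SS_N hu)).1 hx.2⟩ fun e => c (by simpa [e] using hu)))))
  have h3 := (mem_cent.1 h1.2 t s.tΓ).symm
  obtain ⟨θ, η, e⟩ := s.std0 h1.1.1 (s.ct h1.1.2 h3)
  have e' := s.sq.ac_t e
  rw [mul_assoc, h3, s.sq.tt] at e'
  obtain rfl := m.fl_inj (s.sq.uniq m.toBM e e').1
  have h4 := Inv.mul_self_of_orderOf h2
  refine ⟨φ, θ, h1.1.1, h1.1.2, fun σ h => (mem_cent.1 h1.2 σ h).symm, h4, e,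
    m.fl_inj (by rw [map_mul, (s.sq.ac_sq m.toBM e h4).1, map_one]), ?_⟩
  rintro rfl
  exact Inv.ne_one_of_orderOf h2 (s.sq.cm_odd m.toBM (n := 1) (by simpa using e) (by rw [pow_one, _root_.sq, h4]))
theorem pt (p : Ph m μ ν Γ N φ ι) : Pt m μ ν t φ ι :=
  ⟨p.sq, p.cen t s.tΓ, ⟨_, _, p.ac, m.Θ_fl _, m.Θ_fl _⟩, p.ι2, p.ι1⟩
/-- `Γ_eq`, `eq_of_inv`. -/
theorem eq_ph (p : Ph m μ ν Γ N φ ι) {w : G} (hw : w ∈ Γ) (a : Ac μ ν w (m.fl θ) (m.fl η)) (h1 : θ * θ = 1) (h2 : η * η = 1)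
    (h3 : θ ≠ 1) (h4 : η ≠ 1) : w = φ := by
  obtain rfl := m.eq_of_inv h1 p.ι2 h3 p.ι1
  obtain rfl := m.eq_of_inv h2 p.ι2 h4 p.ι1
  exact s.Γ_eq hw p.mem a p.ac
/-- An odd power of `w` is a `2`-element with the same properties; conjugate it by `N0` into `T ⊓ N0` (Sylow in `N0`): `w = u γ`,
`γ ∈ Γ` of type `(θ, θ)` commutes with `t` (`Γ_eq`), `γ t ∈ N` is a swap centralizing `t`, against `ct`. -/
theorem dl {w : G} (a : Ac μ ν w α β) (h : m.Θ α = m.Θ β) (hN : w * t ∈ N) : False := by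
  have := s.nN
  obtain ⟨k, _, ⟨n, rfl⟩, e⟩ := Nat.exists_eq_two_pow_mul_odd (orderOf_pos w).ne'
  have h1 := s.cjN (GSt.pow_mul_mem (p := t) (le_normalizer_of_normal (mem_top t)) (s.cjN hN t) (2 * n + 1)) t
  rw [pow_odd s.t2, ← mul_assoc t w, mul_inv_cancel_right, s.sq.tt, mul_inv_cancel_left, s.it] at h1
  have h2 : (w ^ (2 * n + 1)) ^ 2 ^ k = 1 := by rw [← pow_mul, mul_comm, ← e, pow_orderOf_eq_one]
  have a := a.pow (2 * n + 1)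
  replace h : m.Θ (α ^ (2 * n + 1)) = m.Θ (β ^ (2 * n + 1)) := by rw [map_pow, map_pow, h]
  generalize w ^ (2 * n + 1) = w at h1 h2 a
  have y : Syl 2 (T ⊓ (N ⊔ zpowers t)) (N ⊔ zpowers t) := Syl.of_max inf_le_right (pgroup_of_le s.syl.pgroup inf_le_left)
    fun Q hQ q1 q2 x hx => by
    have e := Syl.eq_of_le_pgroup (s.syl.inf le_top (le_normalizer_of_normal (H := N))) (Q := Q ⊓ N)
      (le_inf ((inf_le_inf_left _ le_sup_left).trans q1) inf_le_right) inf_le_right (pgroup_of_le hQ inf_le_left)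
    exact ⟨((sup_t s.t2).1 (q2 hx)).elim (fun h => (e.ge ⟨hx, h⟩).1) fun h => (mul_mem_cancel_right s.tT).1
      (e.ge ⟨Q.mul_mem hx (q1 ⟨s.tT, mem_sup_right (mem_zpowers t)⟩), h⟩).1, q2 hx⟩
  obtain ⟨c, ⟨⟨α', β', a'⟩, hc⟩, e⟩ := Syl.exists_conj_le (y.inf (N := N0 μ ν ⊓ (N ⊔ zpowers t)) inf_le_right
    (norm_inf (inf_le_left.trans (s.T_HH.trans s.HH_N0)) (inf_le_right.trans (le_norm _)))) (Inv.isPGroup_zpowers h2)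
    (zpowers_le.2 ⟨⟨_, _, a⟩, (sup_t s.t2).2 (.inr h1)⟩)
  have hT := (Transfer.conj_le_iff.1 e w (mem_zpowers w)).1.1
  have a2 := (a'.mul a).mul a'.inv
  obtain ⟨θ, η, e'⟩ := s.ty hT ⟨_, _, a2⟩
  obtain ⟨e1, e2⟩ := s.sq.ty_Θ m e' a2
  obtain rfl : θ = η := by rw [← e1, ← e2, m.Θ_cj, m.Θ_cj, h]
  obtain ⟨u, hu, σ, hσ, e3, a3⟩ := s.dec hT e'
  have c1 := s.Γ_eq (mul_mem (mul_mem s.tΓ hσ) s.tΓ) hσ (s.sq.ac_t a3) a3
  have h3 : c * w * c⁻¹ * t ∈ N := by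
    rcases (sup_t s.t2).1 hc with hc | hc
    · convert mul_mem (mul_mem hc h1) (s.cjN (inv_mem hc) t⁻¹) using 1; group
    · convert mul_mem (s.cjN h1 c) (mul_mem hc (s.cjN (inv_mem hc) t)) using 1
      simp [mul_assoc, s.sq.tt, s.it]
  rw [e3, mul_assoc, mul_mem_cancel_left (s.SS_N hu)] at h3
  exact s.t_not ((mul_mem_cancel_left (show σ ∈ N0 μ ν from ⟨_, _, a3⟩)).1 (s.ct h3 (by rw [mul_assoc, s.t2, mul_one, ← mul_assoc, c1])))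
end SN

end Cfsg.Lib.U42
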