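import Cfsg.Agent.Lib.U42.PD

/-!
# S3138 (copy of `USt`, `q = 2`, dimension `4`): the field case, the transvections `X e u = 1 + e u^*` and `t (X e u) t = 1 + u e^*`.  See `docs/U42.md`.
`X₀ e u = PP (σ ω) e u · ψ (ei e (σ ω u) 0)` for isotropic `u`.  `σ ω = 1 + 1 * ω`.
-/

set_option autoImplicit false

namespace Cfsg.Lib.U42

open Module Subgroup G2S Cfsg.Lib.BG Cfsg.Lib.GW GSt.SLa Cfsg.Lib.Unitary
open scoped commutatorElement Cfsg.Lib.Transfer

variable {F V : Type*} [Field F] [CharP F 2] [Finite F] [AddCommGroup V] [Module F V] [Finite V] {σ : F →+* F}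
  {B : V →ₛₗ[σ] V →ₗ[F] F} {G : Type*} [Group G] [Finite G] {ψ : SUG B →* G} {t p p' : G} {e e' f g a b u v w : V}
  {c r γ ω : F} {y : V → F → G} {X : V → V → G}

/-- `1 + e u^*` for isotropic `u`. -/
noncomputable def X0 (ψ : SUG B →* G) (y : V → F → G) (ω : F) (e u : V) : G := PP y (σ ω) e u * ψ (ei B e (σ ω • u) 0)

omit [Finite F] [Finite G] in
theorem va0 (he : B e e = 0) (hu : B u u = 0) (heu : B e u = 0) (c : F) : Va B e (c • u) 0 := .zero he (by simp [hu]) (by simp [heu])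

namespace ZD
variable (z : ZD ψ t y ω (ω * σ ω)) (h : Ok B)
include z h

omit [Finite F] [Finite G] h in
theorem σω : σ ω = ω + 1 := by linear_combination z.hω - aa ω

theorem x0_pe (h0 : e ≠ 0) (he : B e e = 0) (hu : B u u = 0) (heu : B e u = 0) :
    Pe ψ t y ω e (PP y (σ ω) e u * ψ (ei B e (σ ω • u) 0)) (ω • u) u := by
  have := z.toZA.pe_mul h z.hω h0 he (z.toZA.pe_P h z.hω h0 he hu heu (map_one σ) (map_one σ))
    (z.toZA.pe_ei h z.hω h0 he (va0 he hu heu (σ ω)))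
  rwa [one_mul, add_comm 1, ← z.σω, add_zero, ← add_smul, one_smul, z.σω, add_comm 1, add_assoc, aa, add_zero, ← z.σω] at this

theorem cm_AA (h0 : e ≠ 0) (he : B e e = 0) (k : Pe ψ t y ω e p (ω • u) u) (k' : Pe ψ t y ω e p' (ω • v) v) : p * p' = p' * p := by
  rw [← commutatorElement_eq_one_iff_mul_comm, z.cm _ _ _ _ _ _ _ h0 he k k', ← z.toZA.zero h he]
  congr 1
  simp only [bf, map_smul, LinearMap.map_smulₛₗ, LinearMap.smul_apply, smul_eq_mul, z.σω]
  grind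

theorem cm_AA' (h0 : e ≠ 0) (he : B e e = 0) (k : Pe ψ t y ω e p (ω • u) u) (k' : Pe ψ t y ω e p' (σ ω • v) v) :
    ⁅p, p'⁆ = y e (B u v) := by
  rw [z.cm _ _ _ _ _ _ _ h0 he k k']
  congr 1
  simp only [bf, map_smul, LinearMap.map_smulₛₗ, LinearMap.smul_apply, smul_eq_mul, h.ss]
  rw [z.σω]
  grind

theorem x0_smul (he : B e e = 0) (hu : B u u = 0) (heu : B e u = 0) (c : F) : X0 ψ y ω (c • e) u = X0 ψ y ω e (σ c • u) := by
  rw [X0, X0, z.toZA.P_smul h he hu heu, h.ei_smul (va0 he hu heu _), mul_zero, smul_comm]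

theorem x0_eqv (he : B e e = 0) (hu : B u u = 0) (heu : B e u = 0) (x : SUG B) :
    ψ x * X0 ψ y ω e u * (ψ x)⁻¹ = X0 ψ y ω (x.1 e) (x.1 u) := by
  rw [X0, X0, ← conj_mul, z.toZA.P_eqv h he hu heu, ← map_inv, ← map_mul, ← map_mul, h.ei_conj, map_smul]

theorem x0_add (he : B e e = 0) (hu : B u u = 0) (heu : B e u = 0) (c d : F) :
    X0 ψ y ω e ((c + d) • u) = X0 ψ y ω e (c • u) * X0 ψ y ω e (d • u) := by
  have k : ∀ c : F, Va B e (σ ω • c • u) 0 := fun c => va0 he (by simp [hu]) (by simp [heu]) _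
  rw [X0, X0, X0, z.toZA.P_add h he hu heu, mul_assoc (PP _ _ _ _) (ψ _), ← mul_assoc (ψ _), z.toZA.P_cS h he (by simp [hu]) (by simp [heu])
    (Q_le (h.ei_mem_Q ..)) (h.ei_fix (k c) (by simp [heu]) (by simp [hu])), mul_assoc, mul_assoc, ← map_mul, h.ei_mul (k c) (k d)]
  simp [hu, add_smul]

theorem x0_shift (he : B e e = 0) (hu : B u u = 0) (heu : B e u = 0) (c : F) :
    X0 ψ y ω e (u + c • e) = X0 ψ y ω e u * y e (σ c) := by
  have k := va0 he hu heu (σ ω)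
  rw [X0, X0, z.toZA.P_shift h he hu heu, smul_add, smul_smul, h.ei_shift k, ← h.ei_tv k (h.tK _), map_mul, ← z.ext _ _ he (h.tK _),
    mul_assoc, mul_assoc, ← mul_assoc (y e _), ← z.toZA.cS h he (Q_le (h.ei_mem_Q ..)), mul_assoc, ← z.add _ _ _ he, map_mul, h.ss, z.σω]
  congr 3
  grind

/-- Conjugation by an element fixing the point. -/
theorem pe_cj (h0 : e ≠ 0) (he : B e e = 0) {x : SUG B} (hc : c ≠ 0) (hx : x.1 e = c • e) (k : Pe ψ t y ω e p (ω • u) u) :
    Pe ψ t y ω e (ψ x * p * (ψ x)⁻¹) (ω • σ c • x.1 u) (σ c • x.1 u) := by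
  have := z.toZA.pe_smul h z.hω h0 he hc (hx ▸ z.toZA.pe_conj h z.hω h0 he k x)
  rwa [map_smul, smul_comm] at this

omit [Finite F] [Finite G] h in
theorem y_cj (he : B e e = 0) {x : SUG B} (hc : c * σ c = 1) (hx : x.1 e = c • e) (r : F) : ψ x * y e r * (ψ x)⁻¹ = y e r := by
  rw [z.eqv _ _ _ he, hx, z.smul _ _ _ he, hc, one_mul]

/-- `A = {p | ∃ u, Pe e p (ω u) u}` is an abelian group (`cm_AA`), an extension of `Y e` by `V₀`.  `n = Tq (l, l⁻¹)` normalizes `A`, centralizes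
`Y e`, has odd order `o` (`tq_odd`) and acts on the classes as `u ↦ σ l • n u` without fixed points (`tq_fpf`).  `A₀ = {ψ n p (ψ n)⁻¹ p⁻¹}`
is a subgroup onto `V₀`; `A₀ ⊓ Y e = 1`: if `ψ n p (ψ n)⁻¹ = p y₀` then the class of `p` is fixed, so `p ∈ Y e`, `y₀ = 1`.  `α u` is the element of
`A₀` of class `u`.  For isotropic `u ∈ V₀`, `X₀ e (c u) = α (c u) · y e (s c)`, `s` additive (`P_add`); the element of `wt` normalizes `A₀`
and gives `s (σ l' μ c) = s c` (`P_smul`, `ei_smul`), so `s = 0`. -/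
theorem exists_al (k : Hy B e e') : ∃ α : V → G, (∀ u v, B e u = 0 → B e' u = 0 → B e v = 0 → B e' v = 0 → α (u + v) = α u * α v) ∧
    (∀ u, B e u = 0 → B e' u = 0 → Pe ψ t y ω e (α u) (ω • u) u) ∧
    ∀ u, B u u = 0 → B e u = 0 → B e' u = 0 → α u = PP y (σ ω) e u * ψ (ei B e (σ ω • u) 0) := by
  have h0 := k.ne
  have he := k.ee
  obtain ⟨f, f', fr⟩ := h.fr_ex' k
  obtain ⟨l, hl, hl'⟩ := h.n1
  have l0 : l ≠ 0 := left_ne_zero_of_mul_eq_one hl
  obtain ⟨n, hn⟩ := h.tq_ex fr l0 (inv_ne_zero l0) (by rw [mul_inv_cancel₀ l0, map_one])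
  obtain ⟨n1, n2, -⟩ := h.tq_ap fr hn
  replace n2 : n.1 e' = l • e' := by rw [n2, inv_eq_of_mul_eq_one_left hl]
  have o : ∀ {x : SUG B} {c : F} {e v : V}, c * σ c = 1 → x.1 e = c • e → B e v = 0 → B e (σ c • x.1 v) = 0 := fun hc hx hv => by
    rw [map_smul, h.eig hc hx, hv, mul_zero, smul_zero]
  have m : ∀ {v}, v ∈ hypPerp B e e' ↔ B e v = 0 ∧ B e' v = 0 := mem_hypPerp
  let T : hypPerp B e e' → hypPerp B e e' := fun v =>
    ⟨σ l • n.1 v + v, add_mem (m.2 ⟨o hl n1 (m.1 v.2).1, o hl n2 (m.1 v.2).2⟩) v.2⟩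
  have Ts : Function.Surjective T := fun w =>
    let ⟨v, a, b, c⟩ := h.tq_fpf fr hl hl' hn (m.1 w.2).1 (m.1 w.2).2; ⟨⟨v, m.2 ⟨a, b⟩⟩, Subtype.ext c⟩
  have ex : ∀ {v}, B e v = 0 → ∃ p, Pe ψ t y ω e p (ω • v) v := fun k => z.toZA.pe_ex h z.hω h0 he (by simp [k]) k
  have H : ∀ u, ∃ a, ∀ v p, B e v = 0 → B e' v = 0 → σ l • n.1 v + v = u → Pe ψ t y ω e p (ω • v) v → a = ψ n * p * (ψ n)⁻¹ * p⁻¹ := fun u => by
    by_cases k : ∃ v p, B e v = 0 ∧ B e' v = 0 ∧ σ l • n.1 v + v = u ∧ Pe ψ t y ω e p (ω • v) v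
    · obtain ⟨v, p, a, b, c, d⟩ := k
      refine ⟨ψ n * p * (ψ n)⁻¹ * p⁻¹, fun v' p' a' b' c' d' => ?_⟩
      obtain rfl : v = v' := congrArg Subtype.val (Finite.injective_iff_surjective.2 Ts (a₁ := ⟨v, m.2 ⟨a, b⟩⟩) (a₂ := ⟨v', m.2 ⟨a', b'⟩⟩)
        (Subtype.ext (c.trans c'.symm)))
      obtain ⟨r, rfl⟩ := z.toZA.pe_same h z.hω h0 he d d'
      rw [← conj_mul, z.y_cj he hl n1, _root_.mul_inv_rev, mul_assoc _ (y e r), mul_inv_cancel_left]
    · exact ⟨1, fun v p a b c d => (k ⟨v, p, a, b, c, d⟩).elim⟩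
  choose α hα using H
  have su : ∀ u, B e u = 0 → B e' u = 0 → ∃ v p, B e v = 0 ∧ B e' v = 0 ∧ σ l • n.1 v + v = u ∧ Pe ψ t y ω e p (ω • v) v := fun u a b =>
    let ⟨v, a, b, c⟩ := h.tq_fpf fr hl hl' hn a b; let ⟨p, d⟩ := ex a; ⟨v, p, a, b, c, d⟩
  have a1 : ∀ u v, B e u = 0 → B e' u = 0 → B e v = 0 → B e' v = 0 → α (u + v) = α u * α v := fun u v a b a' b' => by
    obtain ⟨u, p, a₁, b₁, rfl, d⟩ := su u a b
    clear a b; rename' a₁ => a, b₁ => b
    obtain ⟨v, p', a₁, b₁, rfl, d'⟩ := su v a' b'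
    clear a' b'; rename' a₁ => a', b₁ => b'
    have i := z.toZA.pe_inv h z.hω h0 he d
    rw [hα _ _ _ a b rfl d, hα _ _ _ a' b' rfl d', hα _ (u + v) (p * p') (by simp [a, a']) (by simp [b, b'])
      (by rw [map_add, smul_add]; abel) (smul_add ω u v ▸ z.toZA.pe_mul h z.hω h0 he d d'), ← conj_mul, _root_.mul_inv_rev,
      z.cm_AA h h0 he (z.toZA.pe_inv h z.hω h0 he d') i, mul_assoc _ p⁻¹, ← mul_assoc p⁻¹, z.cm_AA h h0 he i (z.pe_cj h h0 he l0 n1 d')]
    simp only [mul_assoc]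
  have a2 : ∀ u, B e u = 0 → B e' u = 0 → Pe ψ t y ω e (α u) (ω • u) u := fun u a b => by
    obtain ⟨u, p, a₁, b₁, rfl, d⟩ := su u a b
    clear a b; rename' a₁ => a, b₁ => b
    rw [hα _ _ _ a b rfl d, smul_add]
    exact z.toZA.pe_mul h z.hω h0 he (z.pe_cj h h0 he l0 n1 d) (z.toZA.pe_inv h z.hω h0 he d)
  refine ⟨α, a1, a2, fun u hu a b => ?_⟩
  obtain ⟨x, l', μ, xn, hl', x1, x2, x3, hμ⟩ := h.wt fr hl hl' hn hu a b
  have l0' : l' ≠ 0 := left_ne_zero_of_mul_eq_one hl'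
  have a3 : ∀ u, B e u = 0 → B e' u = 0 → ψ x * α u * (ψ x)⁻¹ = α (σ l' • x.1 u) := fun u a b => by
    obtain ⟨u, p, a₁, b₁, rfl, d⟩ := su u a b
    clear a b; rename' a₁ => a, b₁ => b
    have c : ψ x * ψ n = ψ n * ψ x := by rw [← map_mul, ← map_mul, xn]
    rw [hα _ _ _ a b rfl d, hα _ _ _ (o hl' x1 a) (o hl' x2 b) (by
      rw [map_add, map_smul, map_smul, smul_add, smul_comm, ← mul_ap, xn, mul_ap]) (z.pe_cj h h0 he l0' x1 d), ← conj_mul, ← conj_mul,
      ← conj_mul, ← conj_inv, ← conj_inv, cjf.2 c]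
  choose s hs using fun c : F => z.toZA.pe_same h z.hω h0 he (a2 (c • u) (by simp [a]) (by simp [b]))
    (z.x0_pe h h0 he (u := c • u) (by simp [hu]) (by simp [a]))
  replace hs : ∀ c, X0 ψ y ω e (c • u) = α (c • u) * y e (s c) := hs
  have s1 : ∀ c d, s (c + d) = s c + s d := fun c d => z.toZA.inj h h0 he (mul_left_cancel (a := α ((c + d) • u)) (by
    rw [← hs, z.x0_add h he hu a, hs, hs, add_smul, a1 _ _ (by simp [a]) (by simp [b]) (by simp [a]) (by simp [b]), z.add _ _ _ he,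
      mul_assoc, ← mul_assoc (y e _), ← (a2 _ (by simp [a]) (by simp [b])).cy]
    simp only [mul_assoc]))
  have s2 : ∀ c, s (σ l' * μ * c) = s c := fun c => z.toZA.inj h h0 he (mul_left_cancel (a := α ((σ l' * μ * c) • u)) (by
    have e1 : σ l' • x.1 (c • u) = (σ l' * μ * c) • u := by rw [map_smul, x3, smul_smul, smul_smul, mul_right_comm]
    rw [← hs, ← z.y_cj he hl' x1 (s c), ← e1, ← a3 _ (by simp [a]) (by simp [b]), conj_mul, ← hs,
      z.x0_eqv h he (by simp [hu]) (by simp [a]), x1, z.x0_smul h he (by simp [hu]) (by rw [h.eig hl' x1]; simp [a])]))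
  have s3 : s 1 = 0 := by
    have := s1 (σ l' * μ * (1 + σ l' * μ)⁻¹) (1 + σ l' * μ)⁻¹
    rwa [s2, aa, ← add_one_mul, add_comm, mul_inv_cancel₀ (add1_ne hμ)] at this
  have := hs 1
  rw [s3, one_smul, z.toZA.zero h he, mul_one] at this
  exact this.symm

/-- `X e u = α (u + B e' u • e) * y e (σ (B e' u))`; `P_shift`, `ei_shift`: `X₀ e (u + c e) = X₀ e u · y e (σ c)`. -/
theorem exists_xd : ∃ X, XD ψ t y ω X := by
  have : ∀ e, ∃ X : V → G, e ≠ 0 → B e e = 0 → (∀ u, B u u = 0 → B e u = 0 → X u = X0 ψ y ω e u) ∧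
      ∀ u v, B e u = 0 → B e v = 0 → X (u + v) = X u * X v := fun e => by
    by_cases k : e ≠ 0 ∧ B e e = 0
    · obtain ⟨h0, he⟩ := k
      obtain ⟨e', q⟩ := h.hy_ex h0 he
      obtain ⟨α, a1, a2, a3⟩ := z.exists_al h q
      have m1 : ∀ {u}, B e u = 0 → B e (u + B e' u • e) = 0 := fun k => by simp [k, he]
      have m2 : ∀ u, B e' (u + B e' u • e) = 0 := fun u => by simp [h.fe q, aa]
      refine ⟨fun u => α (u + B e' u • e) * y e (σ (B e' u)), fun _ _ => ⟨fun u hu k => ?_, fun u v k k' => ?_⟩⟩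
      · have i : B (u + B e' u • e) (u + B e' u • e) = 0 := by simp [hu, k, h.cm k, he]
        have := z.x0_shift h he i (m1 k) (B e' u)
        rw [add_assoc, vv F, add_zero] at this
        rw [this]; exact congrArg (· * _) (a3 _ i (m1 k) (m2 u))
      · simp only
        rw [map_add, add_smul, add_add_add_comm, a1 _ _ (m1 k) (m2 u) (m1 k') (m2 v), map_add, z.add _ _ _ he, mul_assoc, mul_assoc,
          ← mul_assoc (y e _), ← (a2 _ (m1 k') (m2 v)).cy, mul_assoc]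
    · exact ⟨fun _ => 1, fun a b => (k ⟨a, b⟩).elim⟩
  choose X hX using this
  exact ⟨X, z, fun e u a b => (hX e a b).1 u, fun e u v a b => (hX e a b).2 u v⟩

end ZD

namespace XD
variable (z : XD ψ t y ω X) (h : Ok B) (h0 : e ≠ 0) (he : B e e = 0)
include z h h0 he

theorem zero : X e 0 = 1 := by simpa using z.xadd e 0 0 h0 he (by simp) (by simp)

theorem sq (hu : B e u = 0) : X e u * X e u = 1 := by rw [← z.xadd e u u h0 he hu hu, vv F, z.zero h h0 he]

theorem comm' (hu : B e u = 0) (hv : B e v = 0) : X e u * X e v = X e v * X e u := by rw [← z.xadd e u v h0 he hu hv, ← z.xadd e v u h0 he hv hu, add_comm]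

/-- `ind1`, `x0_pe`. -/
theorem pe (hu : B e u = 0) : Pe ψ t y ω e (X e u) (ω • u) u := h.ind1 he (P := fun u => Pe ψ t y ω e (X e u) (ω • u) u)
  (fun u a b => z.iso e u h0 he a b ▸ z.toZD.x0_pe h h0 he a b)
  (fun u v a b k k' => by rw [z.xadd e u v h0 he a b, smul_add]; exact z.toZA.pe_mul h z.hω h0 he k k') hu

theorem pe' (hu : B e u = 0) : Pe ψ t y ω e (t * X e u * t) (σ ω • u) u := by
  rw [z.toZD.σω, add_smul, one_smul]; exact z.toZA.pe_t h z.hω h0 he (z.pe h h0 he hu)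

omit [Finite F] [Finite G] h in
theorem iso' (hu : B u u = 0) (k : B e u = 0) : X e u = X0 ψ y ω e u := z.iso e u h0 he hu k

theorem self (c : F) : X e (c • e) = y e (σ c) := by
  have := z.toZD.x0_shift h he (u := 0) (by simp) (by simp) c
  rw [zero_add, ← z.iso' h0 he (by simp [he]) (by simp [he]), ← z.iso' h0 he (by simp) (by simp), z.zero h h0 he, one_mul] at this
  exact this

/-- `ind1`, `P_smul`, `ei_smul`. -/
theorem xsmul (hc : c ≠ 0) (hu : B e u = 0) : X (c • e) u = X e (σ c • u) := h.ind1 he (P := fun u => X (c • e) u = X e (σ c • u))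
  (fun u a b => by
    rw [z.iso' (smul_ne_zero hc h0) (by simp [he]) a (by simp [b]), z.iso' h0 he (by simp [a]) (by simp [b]), z.toZD.x0_smul h he a b])
  (fun u v a b k k' => by
    rw [z.xadd _ u v (smul_ne_zero hc h0) (by simp [he]) (by simp [a]) (by simp [b]), smul_add,
      z.xadd e _ _ h0 he (by simp [a]) (by simp [b]), k, k']) hu

/-- `ind1`. -/
theorem xeqv (hu : B e u = 0) (x : SUG B) : ψ x * X e u * (ψ x)⁻¹ = X (x.1 e) (x.1 u) := h.ind1 he (P := fun u => ψ x * X e u * (ψ x)⁻¹ = X (x.1 e) (x.1 u))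
  (fun u a b => by
    rw [z.iso' h0 he a b, z.iso' (by simpa using h0) (by simp [he]) (by simp [a]) (by simp [b]), z.toZD.x0_eqv h he a b])
  (fun u v a b k k' => by
    rw [z.xadd e u v h0 he a b, ← conj_mul, k, k', map_add,
      z.xadd _ _ _ (by simpa using h0) (by simp [he]) (by simp [a]) (by simp [b])]) hu

/-- `PP (σ ω) = PP ω · PP 1`, `P_ext`, `ei f (σ ω e) 0 = ei e (ω f) 0` (`ei_symm`, `ei_smul`). -/
theorem xt (f0 : f ≠ 0) (hf : B f f = 0) (hef : B e f = 0) : t * X e f * t = X f e := by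
  have hfe := h.cm hef
  rw [z.iso e f h0 he hf hef, z.iso f e f0 hf he hfe, z.toZA.tc, z.toZA.P_t h he hf hef, h.ss, z.tψ, mul_assoc (ψ _), z.t2, mul_one,
    z.toZA.P_symm h hf he hfe, h.ei_symm hf (by simp [he]) (by simp [hfe]), h.ei_smul (.zero he hf hef), h.ss, mul_zero, z.toZD.σω,
    z.toZA.P_add_r h he hf hef, z.toZA.P_ext h he hf hef (map_one σ), mul_assoc, ← map_mul, h.ei_mul (va0 he hf hef _) (va0 he hf hef _)]
  simp [hf, add_smul, add_comm]

theorem xcm (hu : B e u = 0) (hv : B e v = 0) : ⁅X e u, t * X e v * t⁆ = y e (B u v) := z.toZD.cm_AA' h h0 he (z.pe h h0 he hu) (z.pe' h h0 he hv)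

/-- `pe_act`, `pe_same`: the two sides differ by `y e (ρ u)`, `ρ` additive.  Clear for `g ∈ F e` (`cy`).  Otherwise take a frame
`(e, e', g, g')`; `n = Tq (l, l⁻¹)` commutes with `y g r`, `ρ (σ l • n u) = ρ u`, `tq_fpf`: `ρ = 0` on `V₀`; `ρ (c e) = 0` (`self`). -/
theorem ay (hg : B g g = 0) (heg : B e g = 0) (hu : B e u = 0) (r : F) :
    y g r * X e u * (y g r)⁻¹ = X e (u + (σ r * B g u) • g) := by
  have hge := h.cm heg
  by_cases l : g ∈ F ∙ e
  · obtain ⟨a, rfl⟩ := Submodule.mem_span_singleton.1 l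
    rw [z.smul _ _ _ he, cjf.2 ((z.pe h h0 he hu).cy _).symm]; simp [hu]
  obtain ⟨e', g', fr⟩ := h.fr_ex ⟨he, hg, heg, h0, l⟩
  obtain ⟨l, hl, hl'⟩ := h.n1
  have l0 : l ≠ 0 := left_ne_zero_of_mul_eq_one hl
  obtain ⟨n, hn⟩ := h.tq_ex fr l0 (inv_ne_zero l0) (by rw [mul_inv_cancel₀ l0, map_one])
  obtain ⟨n1, -, n3, -⟩ := h.tq_ap fr hn
  rw [inv_eq_of_mul_eq_one_right hl] at n3
  have hl2 : σ l * σ (σ l) = 1 := by rw [h.ss, mul_comm, hl]
  have m : ∀ {u}, B e u = 0 → B e (u + (σ r * B g u) • g) = 0 := fun k => by simp [k, heg]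
  let R : V → F → Prop := fun u c => y g r * X e u * (y g r)⁻¹ = X e (u + (σ r * B g u) • g) * y e c
  have R1 : ∀ {u v c d}, B e u = 0 → B e v = 0 → R u c → R v d → R (u + v) (c + d) := fun {u v c d} a b k k' => by
    simp only [R] at k k' ⊢
    rw [z.xadd e u v h0 he a b, ← conj_mul, k, k', map_add, mul_add, add_smul, add_add_add_comm, z.xadd e _ _ h0 he (m a) (m b),
      z.add _ _ _ he, mul_assoc, mul_assoc, ← mul_assoc (y e c), ← (z.pe h h0 he (m b)).cy, mul_assoc]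
  have cj : ∀ {u}, B e u = 0 → ψ n * X e u * (ψ n)⁻¹ = X e (σ l • n.1 u) := fun k => by
    rw [z.xeqv h h0 he k, n1, z.xsmul h h0 he l0 (by rw [h.eig hl n1, k, mul_zero])]
  have R2 : ∀ {u c}, B e u = 0 → R u c → R (σ l • n.1 u) c := fun {u c} a k => by
    have := congrArg (fun x => ψ n * x * (ψ n)⁻¹) k
    simp only [← conj_mul, ← conj_inv, z.toZD.y_cj hg hl2 n3, z.toZD.y_cj he hl n1, cj a, cj (m a)] at this
    simp only [R]
    rw [this, map_add, map_smul, n3, map_smul, h.eig hl2 n3]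
    congr 2
    simp only [smul_eq_mul]; module
  have R3 : ∀ {u}, B e u = 0 → ∃ c, R u c := fun {u} a => by
    have k₀ : σ (r + ω * (r + σ r)) = r + ω * (r + σ r) := by rw [map_add, map_mul, h.tK, z.toZD.σω]; grind
    have := z.toZD.pe_act h h0 he hg heg k₀ (h.tK r) (z.pe h h0 he a)
    rw [show r + ω * (r + σ r) + (r + σ r) * ω = r by grind] at this
    refine z.toZA.pe_same h z.hω h0 he (z.pe h h0 he (m a)) (by
      convert this using 1
      · rw [smul_add, smul_smul, map_smul, z.toZD.σω]; congr 2; simp only [smul_eq_mul]; grind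
      · rw [map_smul]; congr 2; simp only [smul_eq_mul]; grind)
  have R4 : ∀ c : F, R (c • e) 0 := fun c => by
    simp only [R]
    rw [map_smul, hge, smul_zero, mul_zero, zero_smul, add_zero, z.toZA.zero h he, mul_one, z.self h h0 he, cjf.2 (z.comm _ _ _ _ hg he hge)]
  obtain ⟨v, a, -, k⟩ := h.tq_fpf fr hl hl' hn (w := u + B e' u • e) (by simp [hu, he]) (by simp [h.fe fr.he, aa])
  obtain ⟨c, hc⟩ := R3 a
  have a' : B e (σ l • n.1 v) = 0 := by rw [map_smul, h.eig hl n1, a, mul_zero, smul_zero]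
  have := R1 (by simp [a, a']) (by simp [he]) (R1 a' a (R2 a hc) hc) (R4 (B e' u))
  simp only [R] at this
  rwa [k, add_assoc, vv F, add_zero, aa, add_zero, z.toZA.zero h he, mul_one] at this

/-- Both sides have the class `(w, 0)`, they differ by `y e (ρ w)`, `ρ` independent of `γ`, additive (`ei_mul`, `xcm`), `0` for isotropic `w`;
`ind1`.  (Directly: `ind1` for `∀ γ, Va e w γ → …`.) -/
theorem ef (k : Va B e w γ) : ψ (ei B e w γ) = t * X e w * t * X e w * y e γ := by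
  refine h.ind1 he (P := fun w => ∀ γ, Va B e w γ → ψ (ei B e w γ) = t * X e w * t * X e w * y e γ) (fun u a b γ k => ?_)
    (fun u v a b k k' γ q => ?_) k.ew γ k
  · have hγ : σ γ = γ := (CharTwo.add_eq_zero.1 (k.tr.trans a)).symm
    have q := va0 he a b (σ ω)
    rw [z.iso e u h0 he a b, z.toZA.tc, z.toZA.P_t h he a b, h.ss, z.tψ, mul_assoc (ψ _), z.t2, mul_one, mul_assoc _ (ψ _), ← mul_assoc (ψ _),
      z.toZA.P_cS h he a b (Q_le (h.ei_mem_Q ..)) (h.ei_fix q b (by simp [a])), mul_assoc _ (ψ _), ← map_mul, h.ei_sq q, ← mul_assoc,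
      ← z.toZA.P_add_r h he a b, z.hω, z.toZA.P_ext h he a b (map_one σ), z.ext _ _ he hγ, ← map_mul, ← map_mul, one_smul]
    simp [a, h.tv_zero, h.ei_tv (.zero he a b) hγ]
  · obtain ⟨γ₁, q₁⟩ := h.va_ex he a
    obtain ⟨γ₂, q₂⟩ := h.va_ex he b
    have q' := h.va_mul q₁ q₂
    obtain ⟨c, rfl⟩ : ∃ c, γ = γ₁ + γ₂ + B u v + c := ⟨γ - (γ₁ + γ₂ + B u v), by ring⟩
    have hc : σ c = c := by
      have := q.tr.trans q'.tr.symm
      rw [map_add _ _ c] at this
      linear_combination this - aa c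
    have cm := z.xcm h h0 he a b
    rw [commutatorElement_def, mul_inv_eq_iff_eq_mul, mul_inv_eq_iff_eq_mul] at cm
    have c1 := (z.pe h h0 he a).cy
    have c2 := (z.pe h h0 he b).cy
    have c3 := (z.pe' h h0 he b).cy
    rw [← h.ei_tv q' hc, ← h.ei_mul q₁ q₂, map_mul, map_mul, k _ q₁, k' _ q₂, ← z.ext _ _ he hc, z.xadd e u v h0 he a b, z.toZA.tc,
      z.add _ _ c he, add_comm _ (B u v), z.add _ (B u v) _ he, z.add _ γ₁ _ he]
    generalize t * X e v * t = v' at cm c3 ⊢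
    calc _ = t * X e u * t * (X e u * v') * X e v * y e γ₁ * y e γ₂ * y e c := by
          simp only [mul_assoc]; rw [← mul_assoc (y e γ₁), ← c3, mul_assoc, ← mul_assoc (y e γ₁), ← c2, mul_assoc]
      _ = _ := by
          rw [cm, ← c3, mul_assoc v', ← c1]; simp only [mul_assoc]; rw [← mul_assoc (y e (B u v)), ← c2, mul_assoc]

/-- `ind2` for `b`; for isotropic `b` use `iso`, `ay` three times and `xeqv`. -/
theorem act_a (a0 : a ≠ 0) (ha : B a a = 0) (hab : B a b = 0) (hea : B e a = 0) (heb : B e b = 0) (hw : B e w = 0) :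
    X a b * X e w * (X a b)⁻¹ = X e (w + B a w • b) := by
  have hae := h.cm hea
  refine h.ind2 ha he hae (P := fun b => ∀ w, B e w = 0 → X a b * X e w * (X a b)⁻¹ = X e (w + B a w • b)) (fun b hb hab heb w hw => ?_)
    (fun b b' k1 k2 k1' k2' k k' w hw => ?_) hab heb w hw
  · have q := va0 ha hb hab (σ ω)
    have hba := h.cm hab
    have cj : ∀ a b c d x : G, a * b * c * d * x * (a * b * c * d)⁻¹ = a * (b * (c * (d * x * d⁻¹) * c⁻¹) * b⁻¹) * a⁻¹ := by intros; group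
    rw [z.iso a b a0 ha hb hab, PP, cj, z.xeqv h h0 he hw, h.ei_fix q hae (by simp [h.cm heb]), h.ei_ap q,
      z.ay h h0 he hb heb (by simp [hw, hea, heb]), z.ay h h0 he ha hea (by simp [hw, hea, heb]),
      z.ay h h0 he (by simp [ha, hb, hab, hba]) (by simp [hea, heb]) (by simp [hw, hea, heb])]
    congr 1
    simp only [map_add, map_smul, LinearMap.map_smulₛₗ, LinearMap.add_apply, LinearMap.smul_apply, smul_eq_mul, ha, hb, hab, hba, h.ss]
    rw [z.toZD.σω]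
    linear_combination (norm := module) (ω * B a w + ω * B b w) • vv F a + (ω * B a w + ω * B b w) • vv F b
  · rw [z.xadd a b b' a0 ha k1 k1', show ∀ a b x : G, a * b * x * (a * b)⁻¹ = a * (b * x * b⁻¹) * a⁻¹ by intros; group, k' w hw,
      k _ (by simp [hw, k2'])]
    congr 1
    simp only [map_add, map_smul, k1', smul_eq_mul]; module

/-- `t (X b a) t = ψ (ei b a γ) · y b γ · X b a` (`ef`), `act_a`, `ay`, `xeqv`. -/
theorem act_b (b0 : b ≠ 0) (hb : B b b = 0) (hab : B b a = 0) (hea : B e a = 0) (heb : B e b = 0) (hw : B e w = 0) :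
    t * X b a * t * X e w * (t * X b a * t)⁻¹ = X e (w + B a w • b) := by
  obtain ⟨γ, q⟩ := h.va_ex hb hab
  have e1 : t * X b a * t = ψ (ei B b a γ) * y b γ * X b a := by
    rw [z.ef h b0 hb q, mul_assoc _ (y b γ) (y b γ), z.toZA.sq h hb, mul_one, mul_assoc _ (X b a) (X b a), z.sq h b0 hb hab,
      mul_one]
  rw [e1, show ∀ a b c x : G, a * b * c * x * (a * b * c)⁻¹ = a * (b * (c * x * c⁻¹) * b⁻¹) * a⁻¹ by intros; group,
    z.act_a h h0 he b0 hb hab heb hea hw, z.ay h h0 he hb heb (by simp [hw, hea]), z.xeqv h h0 he (by simp [hw, hea, heb]),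
    h.ei_fix q (h.cm heb) (h.cm hea), h.ei_ap q]
  congr 1
  simp only [map_add, map_smul, smul_eq_mul, hb, hab, h.cm hab, ← q.tr]
  linear_combination (norm := module) B b w • vv F a + (γ * B b w + σ γ * B b w) • vv F b

/-- `X e u` lies in every normal subgroup containing `ψ J`: `y v r = ⁅X v u, t (X v u') t⁆`; or `ψ n (y v r) (ψ n)⁻¹ · y v r = y v ((a² + 1) r)`
for `q ≥ 4`.  In general: modulo `N`, `kap` with `f + a e`, `f` conjugate under `ψ J` (`eqv`, `vec`) gives `y e (r Tr (a σ b)) ∈ N`. -/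
theorem mem {N : Subgroup G} [N.Normal] (hN : ψ.range ≤ N) (hu : B e u = 0) : (∀ r, y e r ∈ N) ∧ X e u ∈ N := by
  have k : ∀ {e}, B e e = 0 → ∀ r, y e r ∈ N := fun {e} he r => by
    rcases eq_or_ne e 0 with rfl | h0
    · rw [z.toZA.zero' h]; exact one_mem _
    obtain ⟨f, l⟩ := h.ln_ex h0 he
    have m : ∀ c : F, (QuotientGroup.mk' N) (y (f + c • e) r) = QuotientGroup.mk' N (y f r) := fun c => by
      obtain ⟨x, hx⟩ := h.vec (v := f + c • e) l.ne' (fun k => by simpa using (l.indep (a := c) (b := 1) (by rw [← k, one_smul, add_comm])).2)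
        l.ff (by simp [l.ff, l.ef, h.cm l.ef, he])
      rw [← hx, ← z.eqv _ _ _ l.ff, map_mul, map_mul, map_inv, show QuotientGroup.mk' N (ψ x) = 1 from (QuotientGroup.eq_one_iff _).2
        (hN ⟨x, rfl⟩), one_mul, inv_one, mul_one]
    have := congrArg (QuotientGroup.mk' N) (z.toZA.kap h he l.ff l.ef ω 1 r)
    rw [map_mul, map_mul, map_mul, m, m, m, mul_assoc, ← map_mul, z.toZA.sq h l.ff, map_one, mul_one, map_one, mul_one, mul_one, z.hω,
      mul_one] at this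
    exact (QuotientGroup.eq_one_iff _).1 this.symm
  exact ⟨k he, h.ind1 he (P := fun u => X e u ∈ N) (fun u a b => z.iso e u h0 he a b ▸
    mul_mem (mul_mem (mul_mem (k (by simp [he, a, b, h.cm b]) _) (k he _)) (k a _)) (hN ⟨_, rfl⟩))
    (fun u v a b k k' => z.xadd e u v h0 he a b ▸ mul_mem k k') hu⟩

end XD

end Cfsg.Lib.U42
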