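import Cfsg.Agent.Lib.U42.S0

/-!
# S3138 (copy of `USt`, `q = 2`, dimension `4`): the groups `Y v`, part a: the action on `Q / Z`, the elements `E1`.  See `docs/U42.md`.
-/

set_option autoImplicit false
set_option linter.unusedSectionVars false

namespace Cfsg.Lib.U42

open Module Subgroup G2S Cfsg.Lib.BG Cfsg.Lib.GW GSt.SLa Cfsg.Lib.Unitary
open scoped commutatorElement Cfsg.Lib.Transfer

variable {F V : Type*} [Field F] [CharP F 2] [Finite F] [AddCommGroup V] [Module F V] [Finite V] {σ : F →+* F}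
  {B : V →ₛₗ[σ] V →ₗ[F] F} {G : Type*} [Group G] [Finite G] {ψ : SUG B →* G} {t g k k' w x y : G} {e e' f : V} {a c d : F}

/-- `k` normalizes `ψ Q` and acts as `T` on `Q / Z`. -/
def AQ (ψ : SUG B →* G) (e e' : V) (k : G) (T : hypPerp B e e' ≃+ hypPerp B e e') : Prop :=
  ∀ (v : hypPerp B e e') γ, Va B e v γ → ∃ γ', Va B e (T v) γ' ∧ k * ψ (ei B e v γ) * k⁻¹ = ψ (ei B e (T v) γ')

namespace Z1

/-- `AQ` for a function. -/
def AF (ψ : SUG B →* G) (e e' : V) (k : G) (T : hypPerp B e e' → hypPerp B e e') : Prop :=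
  ∀ (v : hypPerp B e e') γ, Va B e v γ → ∃ γ', Va B e (T v) γ' ∧ k * ψ (ei B e v γ) * k⁻¹ = ψ (ei B e (T v) γ')

/-- `k` normalizes `ψ Q`. -/
def NQ (ψ : SUG B →* G) (e : V) (k : G) : Prop := ∀ u ∈ Q B e, ∃ u' ∈ Q B e, k * ψ u * k⁻¹ = ψ u'

variable {T T' : hypPerp B e e' → hypPerp B e e'}

theorem h1 (v : hypPerp B e e') : B e v = 0 := (mem_hypPerp.1 v.2).1
theorem h2 (v : hypPerp B e e') : B e' v = 0 := (mem_hypPerp.1 v.2).2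

theorem lmem {x : SUG B} (hx : x.1 e = e) (hx' : x.1 e' = e') (v : hypPerp B e e') : x.1 v ∈ hypPerp B e e' :=
  mem_hypPerp.2 ⟨by simpa [hx, h1 v] using iso x e v, by simpa [hx', h2 v] using iso x e' v⟩

theorem AF.mul (a : AF ψ e e' k T) (a' : AF ψ e e' k' T') : AF ψ e e' (k * k') (T ∘ T') := fun v γ p =>
  let ⟨_, p1, q1⟩ := a' v γ p
  let ⟨γ2, p2, q2⟩ := a _ _ p1
  ⟨γ2, p2, by rw [Function.comp, ← q2, ← q1]; group⟩

theorem AF.congr (a : AF ψ e e' k T) (q : ∀ v, T v = T' v) : AF ψ e e' k T' := funext q ▸ a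

theorem AF.cen (q : ∀ u ∈ Q B e, k * ψ u = ψ u * k) (h : Ok B) : AF ψ e e' k id := fun v γ p =>
  ⟨γ, p, cjf.2 (q _ (h.ei_mem_Q ..))⟩

theorem NQ.inv (q : NQ ψ e k) : NQ ψ e k⁻¹ := by
  have : k ∈ 𝐍((Q B e).map ψ) := mem_normalizer_fintype (S := ((Q B e).map ψ : Set G)) (by
    rintro _ ⟨u, hu, rfl⟩
    obtain ⟨u', hu', k⟩ := q u hu
    exact ⟨u', hu', k.symm⟩)
  intro u hu
  obtain ⟨u', hu', k⟩ := (mem_normalizer_iff.1 (inv_mem this) (ψ u)).1 ⟨u, hu, rfl⟩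
  exact ⟨u', hu', k.symm⟩

theorem va_diff {v : V} {γ γ' : F} (p : Va B e v γ) (p' : Va B e v γ') : σ (γ + γ') = γ + γ' := by
  rw [map_add]; linear_combination p.tr - p'.tr - aa γ + aa (σ γ')

variable (h : Ok B)
include h

theorem AF.nq (a : AF ψ e e' k T) (p : Hy B e e') : NQ ψ e k := fun u hu => by
  obtain ⟨w, γ, q, h3, rfl⟩ := h.Q_ex p hu
  obtain ⟨γ', -, r⟩ := a ⟨w, mem_hypPerp.2 ⟨q.ew, h3⟩⟩ γ q
  exact ⟨_, h.ei_mem_Q .., r⟩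

theorem Qex (p : Hy B e e') {u : SUG B} (hu : u ∈ Q B e) : ∃ (v : hypPerp B e e') (γ : F), Va B e v γ ∧ u = ei B e v γ :=
  let ⟨w, γ, q, h3, r⟩ := h.Q_ex p hu; ⟨⟨w, mem_hypPerp.2 ⟨q.ew, h3⟩⟩, γ, q, r⟩

theorem vex (p : Hy B e e') (v : hypPerp B e e') : ∃ γ, Va B e v γ := h.va_ex p.ee (h1 v)

/-- The action of an element of the point stabilizer. -/
theorem af_lin {x : SUG B} (hx : x.1 e = a • e) (q : ∀ v : hypPerp B e e', (T v).1 = σ a • x.1 v) : AF ψ e e' (ψ x) T := fun v γ p => by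
  have a0 : a ≠ 0 ∨ e = 0 := by
    by_cases z : a = 0
    · exact .inr (by simpa [z] using hx)
    · exact .inl z
  have p1 : Va B e (x.1 v) γ := ⟨p.ee, by
    have := (p.map x).ew
    rcases a0 with a0 | rfl
    · simpa [hx, a0] using this
    · simp, by simp [p.tr]⟩
  refine ⟨a * σ a * γ, q v ▸ h.va_smul p1 a, ?_⟩
  rw [← map_inv, ← map_mul, ← map_mul, h.ei_conj, hx, h.ei_smul p1, q]

theorem ei_cj {u v : V} {γ δ : F} (p : Va B e u γ) (q : Va B e v δ) :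
    ei B e u γ * ei B e v δ * (ei B e u γ)⁻¹ = ei B e v δ * tv B e (bf B u v) := by
  rw [h.ei_swap p q, mul_assoc (ei B e v δ), h.stab_tv (Q_le (h.ei_mem_Q ..))]; group

theorem af_Q (p : Hy B e e') {u : SUG B} (hu : u ∈ Q B e) : AF ψ e e' (ψ u) id := fun v γ q => by
  obtain ⟨w, δ, r, rfl⟩ := Qex h p hu
  exact ⟨_, h.va_add q (h.bfK w v), by rw [← map_inv, ← map_mul, ← map_mul, ei_cj h r q, h.ei_tv q (h.bfK ..)]; rfl⟩

/-- A torus element acting as a scalar on `Q / Z`. -/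
theorem xa_ex (p : Hy B e e') (ha : σ a = a) (a0 : a ≠ 0) : ∃ x : SUG B, x.1 e = a • e ∧ ∀ v : hypPerp B e e', x.1 v = v := by
  obtain ⟨f, f', r⟩ := h.fr_ex' p
  obtain ⟨x, hx⟩ := h.tq_ex r a0 one_ne_zero (by simpa using ha)
  exact ⟨x, (h.tq_ap r hx).1, fun v => by rw [hx]; simp [h1 v, h2 v, aa]⟩

theorem xa_ex' (h0 : e ≠ 0) (he : B e e = 0) (ha : σ a = a) (a0 : a ≠ 0) : ∃ x : SUG B, x.1 e = a • e :=
  let ⟨_, p⟩ := h.hy_ex h0 he; let ⟨x, k, _⟩ := xa_ex h p ha a0; ⟨x, k⟩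

theorem hnt (p : Hy B e e') : ∃ v : hypPerp B e e', v ≠ 0 :=
  let ⟨f, _, r⟩ := h.fr_ex' p
  ⟨⟨f, mem_hypPerp.2 ⟨r.ef, r.e'f⟩⟩, fun z => r.hf.ne (congrArg Subtype.val z)⟩

variable (s : St ψ t)
include s

theorem Qinj (h0 : e ≠ 0) {u u' : SUG B} (hu : u ∈ Q B e) (hu' : u' ∈ Q B e) (k : ψ u = ψ u') : u = u' :=
  s.stab_inj h h0 (Q_le hu) (Q_le hu') k

theorem tvi (h0 : e ≠ 0) (he : B e e = 0) (hc : σ c = c) (hd : σ d = d) (k : ψ (tv B e c) = ψ (tv B e d)) : c = d :=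
  h.tv_inj h0 he hc hd (Qinj h s h0 (h.tv_mem_Q ..) (h.tv_mem_Q ..) k)

theorem eii (p : Hy B e e') {v w : hypPerp B e e'} {γ δ : F} (q : Va B e v γ) (q' : Va B e w δ)
    (k : ψ (ei B e v γ) = ψ (ei B e w δ)) : v = w ∧ γ = δ :=
  let r := h.ei_inj' p (h2 v) (h2 w) q q' (Qinj h s p.ne (h.ei_mem_Q ..) (h.ei_mem_Q ..) k)
  ⟨Subtype.ext r.1, r.2⟩

theorem AF.uniq (p : Hy B e e') (a : AF ψ e e' k T) (a' : AF ψ e e' k T') (v : hypPerp B e e') : T v = T' v := by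
  obtain ⟨γ, q⟩ := vex h p v
  obtain ⟨_, q1, r1⟩ := a v γ q
  obtain ⟨_, q2, r2⟩ := a' v γ q
  exact (eii h s p q1 q2 (r1.symm.trans r2)).1

theorem NQ.z (h0 : e ≠ 0) (he : B e e = 0) (q : NQ ψ e k) (c : F) : ∃ d, σ d = d ∧ k * ψ (tv B e c) * k⁻¹ = ψ (tv B e d) := by
  obtain ⟨u, hu, r⟩ := q _ (h.tv_mem_Q e c)
  obtain ⟨d, hd, rfl⟩ := h.zq h0 he (Q_le hu) fun v hv => by
    obtain ⟨v', hv', r'⟩ := q.inv v hv
    refine Qinj h s h0 (mul_mem hu hv) (mul_mem hv hu) ?_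
    have e1 : ψ v = k * ψ v' * k⁻¹ := by rw [← r']; group
    rw [map_mul, map_mul, ← r, e1]
    exact cjc (by rw [← map_mul, ← map_mul, h.stab_tv (Q_le hv')]) k
  exact ⟨d, hd, r⟩

theorem af_ex (p : Hy B e e') (q : NQ ψ e k) : ∃ T, AF ψ e e' k T := by
  have key : ∀ v : hypPerp B e e', ∃ w : hypPerp B e e', ∀ γ, Va B e v γ → ∃ γ', Va B e w γ' ∧
      k * ψ (ei B e v γ) * k⁻¹ = ψ (ei B e w γ') := fun v => by
    obtain ⟨γ, r⟩ := vex h p v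
    obtain ⟨u, hu, r1⟩ := q _ (h.ei_mem_Q e v γ)
    obtain ⟨w, δ, r2, rfl⟩ := Qex h p hu
    refine ⟨w, fun γ' r' => ?_⟩
    obtain ⟨d, hd, r3⟩ := q.z h s p.ne p.ee (γ + γ')
    refine ⟨_, h.va_add r2 hd, ?_⟩
    rw [show γ' = γ + (γ + γ') by rw [← add_assoc, aa, zero_add], ← h.ei_tv r (va_diff r r'), ← h.ei_tv r2 hd, map_mul, map_mul,
      ← r1, ← r3, conj_mul]
  choose T hT using key
  exact ⟨T, hT⟩

theorem AF.add (p : Hy B e e') (a : AF ψ e e' k T) (v w : hypPerp B e e') : T (v + w) = T v + T w := by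
  obtain ⟨γ, q⟩ := vex h p v
  obtain ⟨δ, q'⟩ := vex h p w
  obtain ⟨_, q1, r1⟩ := a v γ q
  obtain ⟨_, q2, r2⟩ := a w δ q'
  obtain ⟨_, q3, r3⟩ := a (v + w) _ (h.va_mul q q')
  refine (eii h s p q3 (w := T v + T w) (h.va_mul q1 q2) ?_).1
  rw [← r3, Submodule.coe_add, Submodule.coe_add, ← h.ei_mul q q', ← h.ei_mul q1 q2, map_mul, map_mul, ← r1, ← r2, conj_mul]

theorem AF.inv (p : Hy B e e') {T : hypPerp B e e' ≃+ hypPerp B e e'} (a : AF ψ e e' k T) : AF ψ e e' k⁻¹ T.symm := by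
  obtain ⟨T', a'⟩ := af_ex h s p (a.nq h p).inv
  refine a'.congr fun v => ?_
  obtain ⟨v, rfl⟩ := T.surjective v
  have := (a'.mul a).uniq h s p (AF.cen (by simp) h) v
  simpa using this

theorem AF.cm (p : Hy B e e') (a : AF ψ e e' k T) (v w : hypPerp B e e') :
    k * ψ (tv B e (bf B v.1 w.1)) * k⁻¹ = ψ (tv B e (bf B (T v).1 (T w).1)) := by
  obtain ⟨γ, q⟩ := vex h p v
  obtain ⟨δ, q'⟩ := vex h p w
  obtain ⟨_, q1, r1⟩ := a v γ q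
  obtain ⟨_, q2, r2⟩ := a w δ q'
  rw [h.tv_cm' q q', h.tv_cm' q1 q2, map_commutatorElement, map_commutatorElement, ← r1, ← r2, conjugate_commutatorElement]

theorem AF.chi (p : Hy B e e') (a : AF ψ e e' k T) : ∃ χ : F → F, χ 0 = 0 ∧ (∀ c, σ (χ c) = χ c) ∧
    (∀ c, k * ψ (tv B e c) * k⁻¹ = ψ (tv B e (χ c))) ∧ ∀ v w, bf B (T v).1 (T w).1 = χ (bf B v.1 w.1) := by
  choose χ h1 h2 using (a.nq h p).z h s p.ne p.ee
  refine ⟨χ, tvi h s p.ne p.ee (h1 0) (map_zero σ) (by rw [← h2]; simp [h.tv_zero]), h1, h2, fun v w => ?_⟩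
  exact tvi h s p.ne p.ee (h.bfK ..) (h1 _) (by rw [← h2, a.cm h s p])

omit h in
theorem tz (x : SUG B) : ψ x * t = t * ψ x := (s.tψ x).symm

/-- `k⁻¹ t k` if `k t k⁻¹ = t z` and `k` centralizes `z`. -/
theorem inv_t (c : F) (k1 : k * t * k⁻¹ = t * ψ (tv B e c)) (k2 : k * ψ (tv B e c) = ψ (tv B e c) * k) :
    k⁻¹ * t * k = t * ψ (tv B e c) := by
  have e1 : ψ (tv B e c) * ψ (tv B e c) = 1 := by rw [← map_mul, h.tv_sq, map_one]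
  calc k⁻¹ * t * k = k⁻¹ * (t * ψ (tv B e c)) * (ψ (tv B e c) * k) := by
        simp only [mul_assoc]; rw [← mul_assoc (ψ _), e1, one_mul]
    _ = k⁻¹ * (k * t * k⁻¹) * (k * ψ (tv B e c)) := by rw [k1, k2]
    _ = _ := by group

theorem w0_of (p : Hy B e e') (hc : σ c = c) (h1 : w * t * w⁻¹ = t * ψ (tv B e c)) (a : AF ψ e e' w id) : W0 ψ t e w c := by
  refine ⟨hc, h1, fun d => ?_, fun u hu => ?_⟩
  · by_cases hd : σ d = d
    · obtain ⟨u, hu, v, hv, r⟩ := h.tv_cm p.ne p.ee hd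
      obtain ⟨u, γ, q, rfl⟩ := Qex h p hu
      obtain ⟨v, δ, q', rfl⟩ := Qex h p hv
      rw [r, ← h.tv_cm' q q']
      exact cjf.1 (a.cm h s p u v)
    · simp [tv, ei_junk fun k => hd (Va.fix k)]
  · obtain ⟨u, γ, q, rfl⟩ := Qex h p hu
    obtain ⟨γ', q', r⟩ := a u γ q
    exact ⟨γ + γ', va_diff q q', by rw [r, h.ei_tv q (va_diff q q'), ← add_assoc, aa, zero_add]; rfl⟩

end Z1

open Z1

namespace St
variable (s : St ψ t) (h : Ok B)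
include s h

/-- The centre of `Q` is `Z` (`zq`), so `k` normalizes `ψ Z`; `Q_ex`, `ei_inj'`, `inj2` (`ei_two`); finiteness. -/
theorem aq_ex (p : Hy B e e') (hk : ∀ u ∈ Q B e, ∃ u' ∈ Q B e, k * ψ u * k⁻¹ = ψ u') : ∃ T, AQ ψ e e' k T := by
  obtain ⟨T, a⟩ := af_ex h s p hk
  obtain ⟨T', a'⟩ := af_ex h s p (NQ.inv hk)
  exact ⟨⟨⟨T, T', fun v => (a'.mul a).uniq h s p (AF.cen (by simp) h) v, fun v => (a.mul a').uniq h s p (AF.cen (by simp) h) v⟩,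
    a.add h s p⟩, a⟩

/-- Commutators (`ei_swap`). -/
theorem aq_cm (p : Hy B e e') {T : hypPerp B e e' ≃+ hypPerp B e e'} (a : AQ ψ e e' k T) (v w : hypPerp B e e') :
    k * ψ (tv B e (bf B v.1 w.1)) * k⁻¹ = ψ (tv B e (bf B (T v).1 (T w).1)) := AF.cm h s p a v w

/-- `tv_cm`. -/
theorem w0_of (p : Hy B e e') (hc : σ c = c) (h1 : w * t * w⁻¹ = t * ψ (tv B e c)) (a : AQ ψ e e' w (.refl _)) : W0 ψ t e w c :=
  Z1.w0_of h s p hc h1 a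

end St

namespace S1
variable (s : S1 ψ t ⊥) (h : Ok B)
include s h

theorem cq0 (h0 : e ≠ 0) (he : B e e = 0) (h1 : k * t = t * k) (h2 : ∀ u ∈ Q B e, k * ψ u = ψ u * k) :
    ∃ c, σ c = c ∧ (k = ψ (tv B e c) ∨ k = ψ (tv B e c) * t) := by
  simpa using s.cq h h0 he h1 h2

theorem cq0' (h0 : e ≠ 0) (he : B e e = 0) (h1 : k * t = t * k)
    (h2 : ∀ u ∈ Q B e, ∃ d, σ d = d ∧ k * ψ u * k⁻¹ = ψ (u * tv B e d)) : ∃ u ∈ Q B e, k = ψ u ∨ k = ψ u * t := by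
  simpa using s.cq' h h0 he h1 h2

omit [Finite F] [Finite G] in
theorem e1_mul (he : B e e = 0) (p : E1 ψ t e x c) (p' : E1 ψ t e y d) : E1 ψ t e (x * y) (c + d) := by
  refine ⟨by rw [map_add, p.K, p'.K], ?_, fun u hu => by rw [mul_assoc, p'.cQ u hu, ← mul_assoc, p.cQ u hu, mul_assoc]⟩
  calc _ = x * (y * t * y⁻¹) * x⁻¹ := by group
    _ = x * t * x⁻¹ * (x * ψ (tv B e d) * x⁻¹) := by rw [p'.xt]; group
    _ = _ := by rw [p.xt, cjf.2 (p.cQ _ (h.tv_mem_Q ..)), h.tv_add he p.K p'.K, map_mul, mul_assoc]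

omit [Finite F] [Finite G] in
theorem e1_inv (he : B e e = 0) (p : E1 ψ t e x c) : E1 ψ t e x⁻¹ c := by
  refine ⟨p.K, ?_, fun u hu => (show Commute x (ψ u) from p.cQ u hu).inv_left⟩
  have e1 : ψ (tv B e c) * ψ (tv B e c) = 1 := by rw [← map_mul, h.tv_sq, map_one]
  calc _ = x⁻¹ * (t * ψ (tv B e c)) * (ψ (tv B e c) * x) := by
        simp only [mul_assoc]; rw [← mul_assoc (ψ _), e1, one_mul, inv_inv]
    _ = x⁻¹ * (x * t * x⁻¹) * (x * ψ (tv B e c)) := by rw [p.xt, p.cQ _ (h.tv_mem_Q ..)]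
    _ = _ := by group

theorem e1_conj (h0 : e ≠ 0) (he : B e e = 0) (p : E1 ψ t e x c) (n : SUG B) {a : F} (k : n.1 e = a • e) :
    E1 ψ t e (ψ n * x * (ψ n)⁻¹) (a * σ a * c) := by
  have a0 : a ≠ 0 := fun z => h0 (by simpa [z] using k)
  refine ⟨by rw [map_mul, h.nK, p.K], ?_, fun u hu => ?_⟩
  · calc _ = ψ n * (x * ((ψ n)⁻¹ * t * ψ n) * x⁻¹) * (ψ n)⁻¹ := by group
      _ = ψ n * t * (ψ n)⁻¹ * ψ (n * tv B e c * n⁻¹) := by
        rw [mul_assoc _ t, s.tψ, inv_mul_cancel_left, p.xt, map_mul, map_mul, map_inv]; group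
      _ = _ := by rw [cjf.2 (s.tψ n).symm, h.tv_conj, k, h.tv_smul he p.K]
  · have := cjc (p.cQ _ (h.Q_conj (x := n⁻¹) (a := a⁻¹) (inv_eq_of (by rw [map_smul, k, inv_smul_smul₀ a0])) hu)) (ψ n)
    simpa [mul_assoc] using this

theorem e1_uniq (h0 : e ≠ 0) (he : B e e = 0) (p : E1 ψ t e x c) (p' : E1 ψ t e x d) : c = d :=
  tvi h s.toSt h0 he p.K p'.K (mul_left_cancel (p.xt.symm.trans p'.xt))

theorem e1_zero (h0 : e ≠ 0) (he : B e e = 0) (p : E1 ψ t e x 0) : ∃ c, σ c = c ∧ (x = ψ (tv B e c) ∨ x = ψ (tv B e c) * t) :=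
  s.cq0 h h0 he (cjf.1 (by simpa [h.tv_zero] using p.xt)) p.cQ

theorem e1_tv (e : V) (c : F) : E1 ψ t e (ψ (tv B e c)) 0 :=
  ⟨map_zero σ, by rw [cjf.2 (s.tψ _).symm, h.tv_zero, map_one, mul_one], fun u hu => by
    rw [← map_mul, ← map_mul, h.stab_tv (Q_le hu)]⟩

theorem e1_t (e : V) : E1 ψ t e t 0 := ⟨map_zero σ, by simp [h.tv_zero], fun u _ => s.tψ u⟩

theorem zsq (e : V) (c : F) : ψ (tv B e c) * ψ (tv B e c) = 1 := by rw [← map_mul, h.tv_sq, map_one]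

theorem zt_sq (e : V) (c : F) : ψ (tv B e c) * t * (ψ (tv B e c) * t) = 1 := by
  rw [mul_assoc, ← mul_assoc t, s.tψ, mul_assoc, s.t2, mul_one, s.zsq h]

theorem t_ne (x : SUG B) : t ≠ ψ x := fun k => s.not_mem h.bm ⟨x, k.symm⟩

/-- `x² ∈ ψ Z t` is impossible: `x` commutes with `x²`. -/
theorem e1_sq (h0 : e ≠ 0) (he : B e e = 0) (p : E1 ψ t e x d) : ∃ c, σ c = c ∧ x * x = ψ (tv B e c) := by
  obtain ⟨c, hc, k | k⟩ := s.e1_zero h h0 he (aa d ▸ s.e1_mul h he p p)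
  · exact ⟨c, hc, k⟩
  have k1 : x * t * x⁻¹ = t := by
    refine mul_left_cancel (a := ψ (tv B e c)) ?_
    rw [← k, ← mul_assoc, ← mul_assoc, ← p.cQ _ (h.tv_mem_Q ..), mul_assoc x, ← k]; group
  obtain ⟨c', -, k' | k'⟩ := s.cq0 h h0 he (cjf.1 k1) p.cQ
  · exact ⟨0, map_zero σ, by rw [k', s.zsq h, h.tv_zero, map_one]⟩
  · exact ⟨0, map_zero σ, by rw [k', s.zt_sq h, h.tv_zero, map_one]⟩

/-- `u ↦ ⁅ψ u, x⁆` is a homomorphism from `Stab e` to the elementary abelian group `⟨t⟩ ψ Z`; it kills `Q` and the transvections; `stab_gen`. -/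
theorem e2_cS (h0 : e ≠ 0) (he : B e e = 0) (p₂ : E2 ψ t e x) : ∀ u ∈ Stab B e, x * ψ u = ψ u * x := by
  have p := p₂.toE1
  have A : ∀ u ∈ Stab B e, ∃ c, ψ u * x * (ψ u)⁻¹ * x⁻¹ = ψ (tv B e c) ∨ ψ u * x * (ψ u)⁻¹ * x⁻¹ = ψ (tv B e c) * t := fun u hu => by
    have := s.e1_mul h he (s.e1_conj h h0 he p u (a := 1) (by rw [one_smul]; exact hu)) (s.e1_inv h he p)
    rw [map_one, one_mul, one_mul, aa] at this
    exact let ⟨c, _, k⟩ := s.e1_zero h h0 he this; ⟨c, k⟩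
  have c1 : ∀ u ∈ Stab B e, ∀ v ∈ Stab B e, Commute (ψ u * x * (ψ u)⁻¹ * x⁻¹) (ψ v) := fun u hu v hv => by
    have z : ∀ c, Commute (ψ (tv B e c)) (ψ v) := fun c => (show Commute (tv B e c) v from (h.stab_tv hv c).symm).map ψ
    obtain ⟨c, k | k⟩ := A u hu <;> rw [k]
    exacts [z c, (z c).mul_left (s.tψ v)]
  have c2 : ∀ u ∈ Stab B e, Commute (ψ u * x * (ψ u)⁻¹ * x⁻¹) t := fun u hu => by
    obtain ⟨c, k | k⟩ := A u hu <;> rw [k]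
    exacts [(s.tψ _).symm, Commute.mul_left (s.tψ _).symm rfl]
  have c3 : ∀ u ∈ Stab B e, ∀ v ∈ Stab B e, Commute (ψ u * x * (ψ u)⁻¹ * x⁻¹) (ψ v * x * (ψ v)⁻¹ * x⁻¹) := fun u hu v hv => by
    obtain ⟨c, k | k⟩ := A v hv <;> rw [k]
    exacts [c1 u hu _ (Q_le (h.tv_mem_Q ..)), (c1 u hu _ (Q_le (h.tv_mem_Q ..))).mul_right (c2 u hu)]
  let κ : Stab B e →* G := MonoidHom.mk' (fun u => ψ u * x * (ψ u)⁻¹ * x⁻¹) fun u v => by
    rw [c3 _ u.2 _ v.2, ← mul_assoc, ← mul_assoc, ← mul_assoc, c1 _ v.2 _ u.2]; simp [mul_assoc]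
  have sq : ∀ u, κ u * κ u = 1 := fun u => by
    obtain ⟨c, k | k⟩ := A u.1 u.2 <;> simp only [κ, MonoidHom.mk'_apply, k]
    exacts [s.zsq h .., s.zt_sq h ..]
  have cj : ∀ u v, κ (u * v * u⁻¹) = κ v := fun u v => by
    rw [map_mul, map_mul, map_inv]; exact cjf.2 (c3 _ u.2 _ v.2)
  obtain ⟨f₀, l₀, c₀⟩ := p₂.cf
  obtain ⟨e', r⟩ := h.hy_ex h0 he
  intro u hu
  refine mc.1 (h.stab_gen r (N := 𝐂[x].comap ψ) (fun u hu => mc.2 (p.cQ u hu).symm) (fun f c hf h1 h2 hc => mc.2 ?_) hu) |>.symm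
  rcases h.q2 c hc with rfl | rfl
  · simp [h.tv_zero]
  by_cases m : f ∈ F ∙ e
  · obtain ⟨a, rfl⟩ := Submodule.mem_span_singleton.1 m
    rw [h.tv_smul he hc]
    exact (p.cQ _ (h.tv_mem_Q ..)).symm
  obtain ⟨y, a, a0, y1, y2⟩ := h.ln_tr ⟨he, hf, h1, h0, m⟩ l₀
  have k1 : κ ⟨tv B f 1, h.tv_fix (h.cm h1) 1⟩ = 1 := by
    rw [← cj ⟨y, y1⟩, show (⟨y, y1⟩ * ⟨tv B f 1, h.tv_fix (h.cm h1) 1⟩ * ⟨y, y1⟩⁻¹ : Stab B e) = ⟨tv B f₀ 1, h.tv_fix (h.cm l₀.ef) 1⟩ from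
      Subtype.ext (show y * _ * y⁻¹ = _ by rw [h.tv_conj, y2, h.tv_smul l₀.ff hc, (h.two h.q2).2.1 a a0, one_mul])]
    exact mul_inv_eq_one.2 (cjf.2 c₀.symm)
  exact cjf.1 (mul_inv_eq_one.1 k1)

theorem e1_cS (h0 : e ≠ 0) (he : B e e = 0) (p₂ : E2 ψ t e w) (p : E1 ψ t e x d) : ∀ u ∈ Stab B e, x * ψ u = ψ u * x := fun u hu => by
  have z : ∀ {y}, E1 ψ t e y 0 → Commute y (ψ u) := fun q => by
    have c : ∀ c, Commute (ψ (tv B e c)) (ψ u) := fun c => (show Commute (tv B e c) u from (h.stab_tv hu c).symm).map ψ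
    obtain ⟨c', -, rfl | rfl⟩ := s.e1_zero h h0 he q
    exacts [c _, (c _).mul_left (s.tψ u)]
  rcases h.q2 d p.K with rfl | rfl
  · exact z p
  · have k := (z (aa (1 : F) ▸ s.e1_mul h he p (s.e1_inv h he p₂.toE1))).mul_left (s.e2_cS h h0 he p₂ u hu)
    rwa [mul_assoc, inv_mul_cancel, mul_one] at k

theorem zadd (he : B e e = 0) (c d : F) : ∃ r, σ r = r ∧ ψ (tv B e c) * ψ (tv B e d) = ψ (tv B e r) := by
  obtain ⟨r, hr, k⟩ := (h.mem_We he).1 (mul_mem (h.tv_W (Submodule.mem_span_singleton_self e) c)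
    (h.tv_W (Submodule.mem_span_singleton_self e) d))
  exact ⟨r, hr, by rw [← map_mul, k]⟩

theorem mkY (h0 : e ≠ 0) (he : B e e = 0) (S : Set G) (h1 : ∀ y ∈ S, ∃ d, E1 ψ t e y d) (hz : ∀ c, ψ (tv B e c) ∈ S)
    (hm : ∀ y ∈ S, ∀ y' ∈ S, y * y' ∈ S) : ∃ Y : Subgroup G, ∀ y, y ∈ Y ↔ y ∈ S :=
  ⟨{ carrier := S, mul_mem' := fun a b => hm _ a _ b, one_mem' := by simpa [h.tv_zero] using hz 0
     inv_mem' {y} hy := by
      obtain ⟨d, p⟩ := h1 y hy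
      obtain ⟨c, -, k⟩ := s.e1_sq h h0 he p
      rw [inv_eq_of_mul_eq_one_right (show y * (y * ψ (tv B e c)) = 1 by rw [← mul_assoc, k, s.zsq h])]
      exact hm _ hy _ (hz c) }, fun _ => Iff.rfl⟩

theorem e1_cm (h0 : e ≠ 0) (he : B e e = 0) (p : E1 ψ t e x c) (p' : E1 ψ t e y d) : ∃ r, x * y = y * x * ψ (tv B e r) := by
  obtain ⟨c1, -, k1⟩ := s.e1_sq h h0 he p
  obtain ⟨c2, -, k2⟩ := s.e1_sq h h0 he p'
  obtain ⟨c3, -, k3⟩ := s.e1_sq h h0 he (s.e1_mul h he p' p)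
  obtain ⟨r, -, k4⟩ := s.zadd h he c2 c3
  obtain ⟨r', -, k5⟩ := s.zadd h he c1 r
  refine ⟨r', ?_⟩
  have z1 := fun c => p.cQ _ (h.tv_mem_Q e c)
  have z2 := fun c => p'.cQ _ (h.tv_mem_Q e c)
  calc x * y = (y * x)⁻¹ * (y * (x * x) * y) := by group
    _ = (y * x)⁻¹ * ψ (tv B e c3) * (ψ (tv B e c3) * (ψ (tv B e c1) * ψ (tv B e c2))) := by
      rw [k1, z2, mul_assoc (ψ _), k2, mul_assoc, ← mul_assoc (ψ (tv B e c3)), s.zsq h, one_mul]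
    _ = _ := by
      rw [← k5, ← k4, ← mul_assoc (ψ (tv B e c1)), ← map_mul ψ (tv B e c1), ← map_mul, ← map_mul,
        h.stab_tv (Q_le (mul_mem (h.tv_mem_Q ..) (h.tv_mem_Q ..))), ← k3]
      group

theorem e1_tsq (he : B e e = 0) (p : E1 ψ t e x d) : x * t * (x * t) = ψ (tv B e d) * (x * x) := by
  have k : x * x * t = t * (x * x) := cjf.1 (by simpa [aa, h.tv_zero] using (s.e1_mul h he p p).xt)
  calc _ = x * t * x⁻¹ * (x * x * t) := by group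
    _ = _ := by rw [k, p.xt, s.tψ, mul_assoc, ← mul_assoc t, s.t2, one_mul]

/-- The subgroup `Y₀` of index `2` in `Y₁ = {x | ∃ d, E1 x d}`.  All `d ∈ K` occur (`Tq (a, 1)`, `sqrt`).  `Y₁ / ψ Z` is elementary abelian.
`q ≥ 4`: `Y₀ = {⁅ψ n, x⁆ ψ z}`, `n = Tq (a, 1)`, `a ≠ 0, 1`; if `n' e = b e` then `⁅n, n'⁆ ∈ Stab e` centralizes `Y₁` (`e1_cS`).
`q = 2`: one of `w`, `w t` is an involution `w₀`, `Y₀ = {1, z, w₀, w₀ z}`, the elements of `Y₁` not in `{t, t z}` with square `1`. -/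
theorem exists_y0 (h0 : e ≠ 0) (he : B e e = 0) (c0 : c ≠ 0) (p : E1 ψ t e w c) : ∃ Y : Subgroup G, (∀ y ∈ Y, ∃ d, E1 ψ t e y d) ∧
    (∀ c, ψ (tv B e c) ∈ Y) ∧ t ∉ Y ∧ (∀ d, σ d = d → ∃ y ∈ Y, E1 ψ t e y d) ∧
    ∀ (n : SUG B) (a : F), n.1 e = a • e → ∀ y ∈ Y, ψ n * y * (ψ n)⁻¹ ∈ Y := by
  have cz : ∀ (n : SUG B) (a : F), n.1 e = a • e → ∀ c, ∃ r, ψ n * ψ (tv B e c) * (ψ n)⁻¹ = ψ (tv B e r) := fun n a k c => by
    rw [← map_inv, ← map_mul, ← map_mul, h.tv_conj, k]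
    by_cases hc : σ c = c
    · exact ⟨_, by rw [h.tv_smul he hc]⟩
    · exact ⟨0, by rw [tv, ei_junk fun k => hc (Va.fix k), h.tv_zero]⟩
  · have hq' : ∀ a, σ a = a → a ≠ 0 → a = 1 := fun a ha a0 => (h.q2 a ha).resolve_left a0
    obtain rfl := hq' c p.K c0
    have z1 : ψ (tv B e 1) ≠ 1 := fun k => one_ne_zero (tvi h s.toSt h0 he (map_one σ) (map_zero σ) (by rw [k, h.tv_zero, map_one]))
    have zm : ∀ {y} c, E1 ψ t e y 1 → y * y = 1 → y * ψ (tv B e c) * (y * ψ (tv B e c)) = 1 := fun c q k => by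
      rw [mul_assoc, ← mul_assoc (ψ _), ← q.cQ _ (h.tv_mem_Q ..), mul_assoc, s.zsq h, mul_one, k]
    obtain ⟨Y, hY⟩ := s.mkY h h0 he {y | (∃ c, y = ψ (tv B e c)) ∨ (E1 ψ t e y 1 ∧ y * y = 1)}
      (by rintro y (⟨c, rfl⟩ | q); exacts [⟨_, s.e1_tv h e c⟩, ⟨_, q.1⟩]) (fun c => .inl ⟨c, rfl⟩) (by
        rintro y (⟨c, rfl⟩ | ⟨q, k⟩) y' (⟨c', rfl⟩ | ⟨q', k'⟩)
        · exact .inl (let ⟨r, _, k⟩ := s.zadd h he c c'; ⟨r, k⟩)
        · rw [← q'.cQ _ (h.tv_mem_Q ..)]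
          exact .inr ⟨by simpa using s.e1_mul h he q' (s.e1_tv h e c), zm c q' k'⟩
        · exact .inr ⟨by simpa using s.e1_mul h he q (s.e1_tv h e c'), zm c' q k⟩
        · obtain ⟨r, -, k1 | k1⟩ := s.e1_zero h h0 he (aa (1 : F) ▸ s.e1_mul h he q q')
          · exact .inl ⟨r, k1⟩
          · have := s.e1_tsq h he (s.e1_mul h he q (s.e1_tv h e r))
            rw [zm r q k, mul_assoc y (ψ _) t, ← k1, ← mul_assoc y y y', k, one_mul, k', add_zero, mul_one] at this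
            exact (z1 this.symm).elim)
    refine ⟨Y, fun y hy => ?_, fun c => (hY _).2 (.inl ⟨c, rfl⟩), fun ht => ?_, fun d hd => ?_, fun m b hm y hy => (hY _).2 ?_⟩
    · rcases (hY _).1 hy with ⟨c, rfl⟩ | q
      exacts [⟨_, s.e1_tv h e c⟩, ⟨_, q.1⟩]
    · rcases (hY _).1 ht with ⟨c, k⟩ | q
      exacts [s.t_ne h _ k, one_ne_zero (s.e1_uniq h h0 he q.1 (s.e1_t h e))]
    · by_cases d0 : d = 0
      · exact ⟨_, (hY _).2 (.inl ⟨0, rfl⟩), d0 ▸ s.e1_tv h e 0⟩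
      obtain rfl := hq' d hd d0
      obtain ⟨r, hr, k⟩ := s.e1_sq h h0 he p
      by_cases r0 : r = 0
      · exact ⟨w, (hY _).2 (.inr ⟨p, by rw [k, r0, h.tv_zero, map_one]⟩), p⟩
      · have q : E1 ψ t e (w * t) 1 := by simpa using s.e1_mul h he p (s.e1_t h e)
        exact ⟨w * t, (hY _).2 (.inr ⟨q, by rw [s.e1_tsq h he p, k, hq' r hr r0, s.zsq h]⟩), q⟩
    · rcases (hY _).1 hy with ⟨c, rfl⟩ | ⟨q, k⟩
      · exact .inl (cz m b hm c)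
      · have b0 : b ≠ 0 := fun z => h0 (by simpa [z] using hm)
        exact .inr ⟨by simpa [hq' _ (h.nK b) (by simp [b0])] using s.e1_conj h h0 he q m hm, cj2 k _⟩

end S1

end Cfsg.Lib.U42
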