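import Cfsg.Agent.Lib.U42.Z1a

/-!
# S3138 (copy of `USt`, `q = 2`, dimension `4`): the parametrization `y v r`, part a: commuting groups.  See `docs/U42.md`.  `ℓ = span {e, f}`, `Fix ℓ = Stab e ⊓ Stab f`.
-/

set_option autoImplicit false
set_option linter.unusedSectionVars false

namespace Cfsg.Lib.U42

open Module Subgroup G2S Cfsg.Lib.BG Cfsg.Lib.GW GSt.SLa Cfsg.Lib.Unitary
open scoped commutatorElement Cfsg.Lib.Transfer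

variable {F V : Type*} [Field F] [CharP F 2] [Finite F] [AddCommGroup V] [Module F V] [Finite V] {σ : F →+* F}
  {B : V →ₛₗ[σ] V →ₗ[F] F} {G : Type*} [Group G] [Finite G] {ψ : SUG B →* G} {t k y y' : G} {e f g v w : V} {a b c d d' s₀ β β' ζ ζ' : F}
  {Y : V → Subgroup G} {z : V → G} {I : Submodule F V}

theorem Ok.ln_trN (h : Ok B) {e₁ f₁ : V} (p : Ln B e f) (p' : Ln B e₁ f₁) :
    ∃ (x : SUG B) (a : F), a * σ a = 1 ∧ x.1 e = e₁ ∧ x.1 f = a • f₁ := by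
  obtain ⟨x, a, a0, x1, x2⟩ := h.ln_tr p p'
  obtain ⟨b, hb, k⟩ := h.sqrt (h.nK a)
  have b0 : b ≠ 0 := by rintro rfl; simp [a0] at k
  obtain ⟨e', f', r⟩ := h.fr_ex p
  obtain ⟨y, y1, y2⟩ := h.tq_K r (c := b⁻¹) (by rw [map_inv₀, hb]) (inv_ne_zero b0)
  exact ⟨x * y, b⁻¹ * a, by rw [map_mul, map_inv₀, hb]; field_simp; rw [← k]; ring, by rw [mul_ap, y1, x1],
    by rw [mul_ap, y2, map_smul, x2, smul_smul]⟩

theorem Ln.ml (_ : Ln B e f) : e ∈ Submodule.span F {e, f} := Submodule.subset_span (by simp)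
theorem Ln.mr (_ : Ln B e f) : f ∈ Submodule.span F {e, f} := Submodule.subset_span (by simp)

namespace ZP
variable (p : ZP ψ t Y) (h : Ok B)
include p h

theorem e1 (h0 : v ≠ 0) (hv : B v v = 0) (a : Pa ψ t Y v y d) : E1 ψ t v y d :=
  ⟨a.K, a.yt, fun u hu => p.cS v h0 hv y a.mem u (Q_le hu)⟩

theorem cj (x : SUG B) (v : V) (c : F) : ψ x * ψ (tv B v c) * (ψ x)⁻¹ = ψ (tv B (x.1 v) c) := by
  rw [← map_inv, ← map_mul, ← map_mul, h.tv_conj]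

theorem pa_uniq (h0 : v ≠ 0) (hv : B v v = 0) (a : Pa ψ t Y v y d) (a' : Pa ψ t Y v y d') : d = d' :=
  p.toS1.e1_uniq h h0 hv (p.e1 h h0 hv a) (p.e1 h h0 hv a')

theorem pa_mul (h0 : v ≠ 0) (hv : B v v = 0) (a : Pa ψ t Y v y d) (a' : Pa ψ t Y v y' d') : Pa ψ t Y v (y * y') (d + d') :=
  let q := p.toS1.e1_mul h hv (p.e1 h h0 hv a) (p.e1 h h0 hv a'); ⟨mul_mem a.mem a'.mem, q.K, q.xt⟩

theorem pa_inv (h0 : v ≠ 0) (hv : B v v = 0) (a : Pa ψ t Y v y d) : Pa ψ t Y v y⁻¹ d :=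
  let q := p.toS1.e1_inv h hv (p.e1 h h0 hv a); ⟨inv_mem a.mem, q.K, q.xt⟩

theorem pa_zero (h0 : v ≠ 0) (hv : B v v = 0) (a : Pa ψ t Y v y 0) : ∃ c, σ c = c ∧ y = ψ (tv B v c) :=
  p.kt v h0 hv y a.mem (cjf.1 (by simpa [h.tv_zero] using a.yt))

theorem pa_tv (h0 : v ≠ 0) (hv : B v v = 0) (c : F) : Pa ψ t Y v (ψ (tv B v c)) 0 :=
  ⟨p.zz v h0 hv c, map_zero σ, (p.toS1.e1_tv h v c).xt⟩

theorem pa_same (h0 : v ≠ 0) (hv : B v v = 0) (a : Pa ψ t Y v y d) (a' : Pa ψ t Y v y' d) : ∃ c, σ c = c ∧ y' = y * ψ (tv B v c) :=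
  let ⟨c, hc, k⟩ := p.pa_zero h h0 hv (aa d ▸ p.pa_mul h h0 hv (p.pa_inv h h0 hv a) a')
  ⟨c, hc, by rw [← k, mul_inv_cancel_left]⟩

theorem pa_conj (h0 : v ≠ 0) (hv : B v v = 0) (a : Pa ψ t Y v y d) (x : SUG B) : Pa ψ t Y (x.1 v) (ψ x * y * (ψ x)⁻¹) d := by
  refine ⟨p.eqv x v h0 hv y a.mem, a.K, ?_⟩
  calc _ = ψ x * (y * ((ψ x)⁻¹ * t * ψ x) * y⁻¹) * (ψ x)⁻¹ := by group
    _ = _ := by rw [mul_assoc _ t, p.tψ, inv_mul_cancel_left, a.yt, ← conj_mul, cjf.2 (p.tψ x).symm, p.cj h]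

theorem pa_smul (h0 : v ≠ 0) (hv : B v v = 0) (ha : a ≠ 0) (hd : σ d = d) : Pa ψ t Y (a • v) y d ↔ Pa ψ t Y v y (a * σ a * d) :=
  ⟨fun q => ⟨p.smul a v ha h0 hv ▸ q.mem, by rw [map_mul, h.nK, hd], h.tv_smul hv hd a ▸ q.yt⟩,
    fun q => ⟨(p.smul a v ha h0 hv).symm ▸ q.mem, hd, (h.tv_smul hv hd a).symm ▸ q.yt⟩⟩

theorem cj_eq (h0 : v ≠ 0) (hv : B v v = 0) (hy : y ∈ Y v) {x x' : SUG B} (k : x.1 v = x'.1 v) : ψ x * y * (ψ x)⁻¹ = ψ x' * y * (ψ x')⁻¹ := by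
  have := p.cS v h0 hv y hy (x'⁻¹ * x) (inv_eq_of k.symm)
  rw [map_mul, map_inv] at this
  calc _ = ψ x' * ((ψ x')⁻¹ * ψ x * y) * (ψ x)⁻¹ := by group
    _ = _ := by rw [← this]; group

/-- `z (x v) = ψ x y (ψ x)⁻¹` is well defined by `cS`; `vec`. -/
theorem fm_ex (h0 : v ≠ 0) (hv : B v v = 0) (a : Pa ψ t Y v y d) : ∃ z, Fm ψ t Y z d ∧ z v = y := by
  have key : ∀ w, ∃ u, ∀ x : SUG B, x.1 v = w → u = ψ x * y * (ψ x)⁻¹ := fun w => by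
    by_cases k : ∃ x : SUG B, x.1 v = w
    · obtain ⟨x, rfl⟩ := k
      exact ⟨_, fun x' k => p.cj_eq h h0 hv a.mem k.symm⟩
    · exact ⟨1, fun x q => (k ⟨x, q⟩).elim⟩
  choose z hz using key
  refine ⟨z, ⟨fun w w0 hw => ?_, fun x w w0 hw => ?_⟩, by simpa using hz v 1 rfl⟩ <;> obtain ⟨n, rfl⟩ := h.vec h0 w0 hv hw
  · exact hz _ n rfl ▸ p.pa_conj h h0 hv a n
  · rw [hz _ n rfl, hz (x.1 (n.1 v)) (x * n) rfl, map_mul]; group

/-- `y² = ψ (tv v (s d))`, `s` depends only on `d` (`pa_same`, `vec`); `Tq (a, 1)`: `s (a² d) = a² s d`; `s₀ = s 1`, `sqrt`. -/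
theorem exists_sq : ∃ s₀, σ s₀ = s₀ ∧ ∀ v y d, v ≠ 0 → B v v = 0 → Pa ψ t Y v y d → y * y = ψ (tv B v (s₀ * d)) := by
  obtain ⟨e, h0, he⟩ := h.iso_ex
  obtain ⟨u, q⟩ := p.onto e h0 he 1 (map_one σ)
  obtain ⟨s, hs, k⟩ := p.toS1.e1_sq h h0 he (p.e1 h h0 he q)
  refine ⟨s, hs, fun v y d v0 hv a => ?_⟩
  by_cases d0 : d = 0
  · subst d0
    obtain ⟨c, -, rfl⟩ := p.pa_zero h v0 hv a
    rw [p.toS1.zsq h, mul_zero, h.tv_zero, map_one]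
  obtain ⟨b, hb, rfl⟩ := h.sqrt a.K
  have b0 : b ≠ 0 := left_ne_zero_of_mul d0
  obtain ⟨x, hx⟩ := h.vec h0 (smul_ne_zero b0 v0) he (by simp [hv])
  have q' := p.pa_conj h h0 he q x
  rw [hx, p.pa_smul h v0 hv b0 (map_one σ), hb, mul_one] at q'
  obtain ⟨c, -, rfl⟩ := p.pa_same h v0 hv q' a
  rw [mul_assoc, ← mul_assoc (ψ (tv ..)), ← p.cS v v0 hv _ q'.mem _ (h.tv_fix hv c), mul_assoc _ (ψ (tv ..)), p.toS1.zsq h, mul_one,
    conj_mul, k, p.cj h, hx, h.tv_smul hv hs, hb, mul_comm s]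

/-- `(y y')² = y² y'²`. -/
theorem ab (h0 : v ≠ 0) (hv : B v v = 0) (hy : y ∈ Y v) (hy' : y' ∈ Y v) : y * y' = y' * y := by
  obtain ⟨s, hs, k⟩ := p.exists_sq h
  obtain ⟨d, a⟩ := p.par v h0 hv y hy
  obtain ⟨d', a'⟩ := p.par v h0 hv y' hy'
  have := k _ _ _ h0 hv (p.pa_mul h h0 hv a a')
  rw [mul_add, h.tv_add hv (by rw [map_mul, hs, a.K]) (by rw [map_mul, hs, a'.K]), map_mul, ← k _ _ _ h0 hv a, ← k _ _ _ h0 hv a'] at this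
  calc _ = y⁻¹ * (y * y * (y' * y')) * y'⁻¹ := by group
    _ = _ := by rw [← this]; group

theorem cr0 (hI : Ti B I) (hI2 : 2 ≤ finrank F I) (h1 : k * t = t * k) (h2 : ∀ x ∈ Fix B I, k * ψ x = ψ x * k) (hv : v ∈ I) (h0 : v ≠ 0)
    (a : Pa ψ t Y v y d) (d0 : d ≠ 0) (h3 : k * k = 1 → k * y = y * k) : ∃ w ∈ W B I, k = ψ w := by
  have vv : B v v = 0 := hI hv v hv
  obtain ⟨w, hw, r | r⟩ : ∃ w ∈ W B I, k = ψ w ∨ k = ψ w * t := by simpa using p.toS1.cr h hI hI2 h1 h2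
  · exact ⟨w, hw, r⟩
  have e1 := h3 (by rw [r, mul_assoc, ← mul_assoc t, p.tψ, mul_assoc, p.t2, mul_one, ← map_mul, h.W_el hI w hw, map_one])
  rw [r, ← mul_assoc, p.cS v h0 vv y a.mem w (mem_Fix.1 (h.W_le hI hw) v hv), mul_assoc, mul_assoc, mul_right_inj] at e1
  refine (d0 (Z1.tvi h p.toSt h0 vv a.K (map_zero σ) ?_)).elim
  rw [h.tv_zero, map_one, ← mul_right_inj t, ← a.yt, cjf.2 e1.symm, mul_one]

/-- `cr`; the coset of `t` is excluded since `y` moves `t` and centralizes `ψ (W I) ≤ ψ (Stab v)`. -/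
theorem cw (hI : Ti B I) (hI2 : 2 ≤ finrank F I) (h1 : k * t = t * k) (h2 : ∀ x ∈ Fix B I, k * ψ x = ψ x * k) (hv : v ∈ I) (h0 : v ≠ 0)
    (h3 : ∀ y ∈ Y v, k * y = y * k) : ∃ w ∈ W B I, k = ψ w :=
  let ⟨_, a⟩ := p.onto v h0 (hI hv v hv) 1 (map_one σ)
  p.cr0 h hI hI2 h1 h2 hv h0 a one_ne_zero fun _ => h3 _ a.mem

theorem kap_dep {u u' : G} (l : Ln B e f) (a : Pa ψ t Y e y d) (a' : Pa ψ t Y f y' d') (b : Pa ψ t Y e u d) (b' : Pa ψ t Y f u' d') :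
    ⁅u, u'⁆ = ⁅y, y'⁆ := by
  obtain ⟨c, -, rfl⟩ := p.pa_same h l.ne l.ee a b
  obtain ⟨c', -, rfl⟩ := p.pa_same h l.ne' l.ff a' b'
  have k1 : Commute (ψ (tv B e c)) (y' * ψ (tv B f c')) := (p.cS f l.ne' l.ff _ b'.mem _ (h.tv_fix l.ef c)).symm
  have k2 : Commute y (ψ (tv B f c')) := p.cS e l.ne l.ee _ a.mem _ (h.tv_fix (h.cm l.ef) c')
  calc _ = y * (ψ (tv B e c) * (y' * ψ (tv B f c')) * (ψ (tv B e c))⁻¹) * y⁻¹ * (y' * ψ (tv B f c'))⁻¹ := by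
        rw [commutatorElement_def]; group
    _ = y * y' * (ψ (tv B f c') * y⁻¹ * (ψ (tv B f c'))⁻¹) * y'⁻¹ := by rw [cjf.2 k1]; group
    _ = _ := by rw [cjf.2 k2.inv_left.symm, commutatorElement_def]

theorem kap0 (l : Ln B e f) (a : Pa ψ t Y e y d) (a' : Pa ψ t Y f y' d') (d0 : d' ≠ 0) :
    ∃ α α', σ α = α ∧ σ α' = α' ∧ ⁅y, y'⁆ = ψ (tv B e α * tv B f α') := by
  have c1 : ∀ c, y * ψ (tv B f c) = ψ (tv B f c) * y := fun c => p.cS e l.ne l.ee _ a.mem _ (h.tv_fix (h.cm l.ef) c)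
  have c2 : ∀ c, y' * ψ (tv B e c) = ψ (tv B e c) * y' := fun c => p.cS f l.ne' l.ff _ a'.mem _ (h.tv_fix l.ef c)
  obtain ⟨w, hw, k⟩ := p.cr0 h (k := ⁅y, y'⁆) (h.ln_ti l).1 (h.ln_ti l).2.ge (cjf.1 (by
      have e1 : y⁻¹ * (t * ψ (tv B f d')) * y⁻¹⁻¹ = t * ψ (tv B e d) * ψ (tv B f d') := by
        rw [← conj_mul, (p.pa_inv h l.ne l.ee a).yt, cjf.2 (Commute.inv_left (c1 _))]
      have e2 : y' * (t * ψ (tv B e d) * ψ (tv B f d')) * y'⁻¹ = t * ψ (tv B e d) := by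
        rw [← conj_mul, ← conj_mul, a'.yt, cjf.2 (c2 _), cjf.2 (p.cS f l.ne' l.ff _ a'.mem _ (h.tv_fix l.ff _)), mul_assoc t, mul_assoc t,
          ← map_mul, ← map_mul, h.tv_comm (h.cm l.ef), mul_assoc (tv ..), h.tv_sq, mul_one]
      calc _ = y * (y' * (y⁻¹ * (y'⁻¹ * t * y'⁻¹⁻¹) * y⁻¹⁻¹) * y'⁻¹) * y⁻¹ := by rw [commutatorElement_def]; group
        _ = t := by
          rw [(p.pa_inv h l.ne' l.ff a').yt, e1, e2, ← conj_mul, a.yt, cjf.2 (p.cS e l.ne l.ee _ a.mem _ (h.tv_fix l.ee _)), mul_assoc,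
            p.toS1.zsq h, mul_one]))
    (fun x hx => by
      have k1 : Commute y (ψ x) := p.cS e l.ne l.ee _ a.mem _ (mem_Fix.1 hx e l.ml)
      have k2 : Commute y' (ψ x) := p.cS f l.ne' l.ff _ a'.mem _ (mem_Fix.1 hx f l.mr)
      exact ((k1.mul_left k2).mul_left k1.inv_left).mul_left k2.inv_left) l.mr l.ne' a' d0 fun k2 => by
      obtain ⟨s, -, k⟩ := p.exists_sq h
      have e1 : ⁅y, y'⁆ * y' * (⁅y, y'⁆ * y') = y' * y' := by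
        rw [commutatorElement_def, inv_mul_cancel_right, conj_mul, k _ _ _ l.ne' l.ff a', cjf.2 (c1 _)]
      calc _ = ⁅y, y'⁆ * y' * (⁅y, y'⁆ * y') * y'⁻¹ * ⁅y, y'⁆ * (⁅y, y'⁆ * ⁅y, y'⁆)⁻¹ := by group
        _ = _ := by rw [e1, k2]; group
  obtain ⟨α, β, α', h1, h2, rfl⟩ := (h.mem_Wl l).1 hw
  obtain ⟨m, m1, m2⟩ := h.n1
  have m0 : m ≠ 0 := left_ne_zero_of_mul_eq_one m1
  obtain ⟨e', f', r⟩ := h.fr_ex l
  obtain ⟨x, hx⟩ := h.tq_ex r m0 (inv_ne_zero m0) (by simp [m0])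
  obtain ⟨x1, -, x2, -⟩ := h.tq_ap r hx
  have m3 : m⁻¹ * σ m⁻¹ = 1 := by rw [map_inv₀, ← mul_inv, m1, inv_one]
  have b1 := p.pa_conj h l.ne l.ee a x
  have b2 := p.pa_conj h l.ne' l.ff a' x
  rw [x1, p.pa_smul h l.ne l.ee m0 a.K, m1, one_mul] at b1
  rw [x2, p.pa_smul h l.ne' l.ff (inv_ne_zero m0) a'.K, m3, one_mul] at b2
  have e1 := p.kap_dep h l a a' b1 b2
  rw [← conjugate_commutatorElement, k, ← map_inv, ← map_mul, ← map_mul, ← conj_mul, h.ei_conj, h.tv_conj, x1, map_smul, x2,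
    h.ei_smul ⟨l.ee, by simp [l.ef], by simp [l.ff, h1, aa]⟩, h.tv_smul l.ff h2, m1, m3, one_mul, one_mul, smul_smul, smul_smul] at e1
  have mem : ∀ β : F, ei B e (β • f) α * tv B f α' ∈ Stab B e := fun β => mul_mem (Q_le (h.ei_mem_Q ..)) (h.tv_fix (h.cm l.ef) _)
  obtain ⟨-, e2, -⟩ := h.Wl_inj l h1 h2 h1 h2 (p.toSt.stab_inj h l.ne (mem _) (mem _) e1)
  obtain rfl : β = 0 := by_contra fun b0 => m2 (by
    have : σ m = m := by field_simp at e2; exact e2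
    rw [← m1, this])
  exact ⟨α, α', h1, h2, by rw [k, zero_smul]; rfl⟩

theorem tt_inj {α α' δ δ' : F} (l : Ln B e f) (h1 : σ α = α) (h2 : σ α' = α') (h3 : σ δ = δ) (h4 : σ δ' = δ')
    (k : ψ (tv B e α * tv B f α') = ψ (tv B e δ * tv B f δ')) : α = δ ∧ α' = δ' := by
  have mem : ∀ a b : F, tv B e a * tv B f b ∈ Stab B e := fun a b => mul_mem (h.tv_fix l.ee _) (h.tv_fix (h.cm l.ef) _)
  have := h.Wl_inj l (β := 0) (ε := 0) h1 h2 h3 h4 (by rw [zero_smul]; exact p.toSt.stab_inj h l.ne (mem _ _) (mem _ _) k)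
  exact ⟨this.1, this.2.2⟩

/-- `κ = ⁅y, y'⁆` centralizes `t` and `ψ (Fix ℓ)`: `κ ∈ ψ (W ℓ) ⟨t⟩` (`cr`).  `y y' y⁻¹ = κ y'` has the same square as `y'`, so `κ` commutes
with `y'` and `κ = ψ (ei e (β f) α · tv f α')` if `d' ≠ 0` (`κ = 1` if `d = 0` or `d' = 0`).  `κ` depends only on `d`, `d'` (`pa_same`).
`Tq (l, l⁻¹)`, `N l = 1`, fixes `κ` and multiplies `β` by `l⁻²`: `β = 0`.  `Tq (a, 1)`, `Tq (1, b)`: `α = d α₁`, `α' = d' α₂` for `d, d' ≠ 0`;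
`ln_swap`: `α₁ = α₂`.  `α₁` is the same for all lines: `ln_tr`, and `(α₁ (a² d), …)` scales correctly under `f ↦ a f`. -/
theorem kap : ∃ α, σ α = α ∧ ∀ e f y y' d d', Ln B e f → Pa ψ t Y e y d → Pa ψ t Y f y' d' → d ≠ 0 → d' ≠ 0 →
    ⁅y, y'⁆ = ψ (tv B e (α * d) * tv B f (α * d')) := by
  obtain ⟨e, h0, he⟩ := h.iso_ex
  obtain ⟨f, l⟩ := h.ln_ex h0 he
  obtain ⟨u, a⟩ := p.onto e h0 he 1 (map_one σ)
  obtain ⟨u', a'⟩ := p.onto f l.ne' l.ff 1 (map_one σ)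
  obtain ⟨α, α', h1, h2, k⟩ := p.kap0 h l a a' one_ne_zero
  have tr : ∀ x : SUG B, ⁅ψ x * u * (ψ x)⁻¹, ψ x * u' * (ψ x)⁻¹⁆ = ψ (tv B (x.1 e) α * tv B (x.1 f) α') := fun x => by
    rw [← conjugate_commutatorElement, k, map_mul, ← conj_mul, p.cj h, p.cj h, map_mul]
  obtain rfl : α = α' := by
    obtain ⟨n, n1, n2⟩ := h.ln_swap l
    have := tr n
    rw [p.kap_dep h (h.ln_symm l) a' a (n1 ▸ p.pa_conj h h0 he a n) (n2 ▸ p.pa_conj h l.ne' l.ff a' n), ← commutatorElement_inv, k,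
      n1, n2, ← map_inv, mul_inv_rev, h.tv_inv, h.tv_inv] at this
    exact (p.tt_inj h (h.ln_symm l) h2 h1 h1 h2 this).2
  refine ⟨α, h1, fun e₁ f₁ y y' d d' l₁ b b' d0 d0' => ?_⟩
  obtain ⟨r, hr, rfl⟩ := h.sqrt b.K
  obtain ⟨s, hs, rfl⟩ := h.sqrt b'.K
  have r0 := left_ne_zero_of_mul d0
  have s0 := left_ne_zero_of_mul d0'
  obtain ⟨x, m, m1, x1, x2⟩ := h.ln_trN l (h.ln_symm ((h.ln_symm (l₁.smul s0)).smul r0))
  have b1 := p.pa_conj h h0 he a x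
  have b2 := p.pa_conj h l.ne' l.ff a' x
  have m2 : m * s * σ (m * s) = s * s := by rw [map_mul, hs]; linear_combination s * s * m1
  rw [x1, p.pa_smul h l₁.ne l₁.ee r0 (map_one σ), hr, mul_one] at b1
  rw [x2, smul_smul, p.pa_smul h l₁.ne' l₁.ff (mul_ne_zero (left_ne_zero_of_mul_eq_one m1) s0) (map_one σ), m2, mul_one] at b2
  rw [p.kap_dep h l₁ b1 b2 b b', tr, x1, x2, smul_smul, h.tv_smul l₁.ee h1, h.tv_smul l₁.ff h1, m2, hr, mul_comm α, mul_comm α]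

theorem zq_of (k : ∀ e f y y' d d', Ln B e f → Pa ψ t Y e y d → Pa ψ t Y f y' d' → d ≠ 0 → d' ≠ 0 → y * y' = y' * y) : ZQ ψ t Y := by
  refine ⟨p, fun v w v0 hv w0 hw vw y hy y' hy' => ?_⟩
  by_cases m : w ∈ F ∙ v
  · obtain ⟨a, rfl⟩ := Submodule.mem_span_singleton.1 m
    exact p.ab h v0 hv hy (p.smul a v (left_ne_zero_of_smul w0) v0 hv ▸ hy')
  obtain ⟨d, a⟩ := p.par v v0 hv y hy
  obtain ⟨d', a'⟩ := p.par w w0 hw y' hy'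
  by_cases d0 : d = 0
  · obtain ⟨c, -, rfl⟩ := p.pa_zero h v0 hv (d0 ▸ a)
    exact (p.cS w w0 hw _ hy' _ (h.tv_fix vw c)).symm
  by_cases d0' : d' = 0
  · obtain ⟨c, -, rfl⟩ := p.pa_zero h w0 hw (d0' ▸ a')
    exact p.cS v v0 hv _ hy _ (h.tv_fix (h.cm vw) c)
  exact k v w y y' d d' ⟨hv, hw, vw, v0, m⟩ a a' d0 d0'

/-- `q ≥ 4`: `κ` is multiplicative in `y`; `d = 1`, `c`, `1 + c` give `α d' = 0` (`Wl_inj`).  `q = 2`, `α = 1`: replace `Y v` by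
`{y | y ∈ ψ Z v ∨ y t ∈ Y v ∖ ψ Z v}` (cyclic of order `4` or a four-group): `y t · y' t = y y' z_f`, `y' t · y t = y' y z_e`. -/
theorem exists_zq : ∃ Y, ZQ ψ t Y := by
  obtain ⟨α, hα, k⟩ := p.kap h
  by_cases α0 : α = 0
  · exact ⟨Y, p.zq_of h fun e f y y' d d' l a a' d0 d0' => commutatorElement_eq_one_iff_mul_comm.1 (by
      simp [k e f y y' d d' l a a' d0 d0', α0, h.tv_zero])⟩
  have hq : ∀ c, σ c = c → c ≠ 0 → c = 1 := fun c hc c0 => by_contra fun c1 => α0 (by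
    obtain ⟨e, h0, he⟩ := h.iso_ex
    obtain ⟨f, l⟩ := h.ln_ex h0 he
    obtain ⟨u, a⟩ := p.onto e h0 he 1 (map_one σ)
    obtain ⟨u₂, a₂⟩ := p.onto e h0 he c hc
    obtain ⟨u', a'⟩ := p.onto f l.ne' l.ff 1 (map_one σ)
    have k1 := k _ _ _ _ _ _ l (p.pa_mul h h0 he a a₂) a' (add1_ne c1) one_ne_zero
    have K : σ (α * c) = α * c := by rw [map_mul, hα, hc]
    rw [show ⁅u * u₂, u'⁆ = u * ⁅u₂, u'⁆ * u⁻¹ * ⁅u, u'⁆ by simp only [commutatorElement_def]; group, k _ _ _ _ _ _ l a a' one_ne_zero one_ne_zero,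
      k _ _ _ _ _ _ l a₂ a' c0 one_ne_zero, cjf.2 (p.cS e h0 he _ a.mem _ (mul_mem (h.tv_fix he _) (h.tv_fix (h.cm l.ef) _))), ← map_mul,
      mul_one, mul_assoc, ← mul_assoc (tv B f α), h.tv_comm (h.cm l.ef), mul_assoc, h.tv_sq, mul_one, ← h.tv_add he K hα,
      ← mul_one (tv B e _), ← h.tv_zero f] at k1
    exact (p.tt_inj h l (by rw [map_add, K, hα]) (map_zero σ) (by rw [map_mul, map_add, map_one, hα, hc]) hα k1).2.symm)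
  obtain rfl := hq α hα α0
  have s := p.toS1
  have tt : ∀ y : G, y * t * t = y := fun y => by rw [mul_assoc, p.t2, mul_one]
  have mt : ∀ v y y', v ≠ 0 → B v v = 0 → Pa ψ t Y v (y' * t) 1 → y * y' = y * t * (y' * t) * ψ (tv B v 1) := fun v y y' v0 hv a => by
    have := (p.pa_inv h v0 hv a).yt
    calc _ = y * (t * t) * y' * (t * t) := by rw [p.t2, mul_one, mul_one]
      _ = y * t * (y' * t) * (((y' * t)⁻¹ * t * (y' * t)⁻¹⁻¹) * t) := by group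
      _ = _ := by rw [this, p.tψ, tt]
  have key : ∀ v, ∃ Z : Subgroup G, v ≠ 0 → B v v = 0 → ∀ y, y ∈ Z ↔ Pa ψ t Y v y 0 ∨ Pa ψ t Y v (y * t) 1 := fun v => by
    by_cases q : v ≠ 0 ∧ B v v = 0
    swap
    · exact ⟨⊥, fun a b => (q ⟨a, b⟩).elim⟩
    obtain ⟨v0, hv⟩ := q
    obtain ⟨Z, hZ⟩ := s.mkY h v0 hv {y | Pa ψ t Y v y 0 ∨ Pa ψ t Y v (y * t) 1} (by
      rintro y (a | a)
      exacts [⟨_, p.e1 h v0 hv a⟩, ⟨_, tt y ▸ s.e1_mul h hv (p.e1 h v0 hv a) (s.e1_t h v)⟩]) (fun c => .inl (p.pa_tv h v0 hv c)) (by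
      rintro y (a | a) y' (a' | a')
      · exact .inl (by simpa using p.pa_mul h v0 hv a a')
      · exact .inr (by simpa [mul_assoc] using p.pa_mul h v0 hv a a')
      · obtain ⟨c, -, rfl⟩ := p.pa_zero h v0 hv a'
        exact .inr (by rw [mul_assoc, ← p.tψ, ← mul_assoc]; simpa using p.pa_mul h v0 hv a a')
      · exact .inl (by rw [mt v y y' v0 hv a']; simpa [aa] using p.pa_mul h v0 hv (p.pa_mul h v0 hv a a') (p.pa_tv h v0 hv 1)))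
    exact ⟨Z, fun _ _ => hZ⟩
  choose Z hZ using key
  have yt : ∀ v y, Pa ψ t Y v (y * t) 1 → y * t * y⁻¹ = t * ψ (tv B v 1) := fun v y a => by rw [← a.yt]; group
  have p' : ZP ψ t Z := by
    refine ⟨s, fun x v v0 hv y hy => ?_, fun a v a0 v0 hv => ?_, fun v v0 hv y hy x hx => ?_, fun v v0 hv c => ?_,
      fun v v0 hv y hy => ?_, fun v v0 hv y hy k => ?_, fun v v0 hv d hd => ?_⟩
    · refine (hZ _ (by simpa using v0) (by simpa using hv) _).2 (((hZ v v0 hv y).1 hy).imp (p.pa_conj h v0 hv · x) fun a => ?_)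
      have := p.pa_conj h v0 hv a x
      rwa [← conj_mul, cjf.2 (p.tψ x).symm] at this
    · ext y
      rw [hZ v v0 hv, hZ _ (smul_ne_zero a0 v0) (by simp [hv]), p.pa_smul h v0 hv a0 (map_zero σ), p.pa_smul h v0 hv a0 (map_one σ),
        hq _ (h.nK a) (by simp [a0]), mul_zero, mul_one]
    · rcases (hZ v v0 hv y).1 hy with a | a
      · exact p.cS v v0 hv _ a.mem x hx
      · exact tt y ▸ (show Commute _ _ from p.cS v v0 hv _ a.mem x hx).mul_left (p.tψ x)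
    · exact (hZ v v0 hv _).2 (.inl (p.pa_tv h v0 hv c))
    · rcases (hZ v v0 hv y).1 hy with a | a
      exacts [⟨0, hy, a.K, a.yt⟩, ⟨1, hy, a.K, yt v y a⟩]
    · rcases (hZ v v0 hv y).1 hy with a | a
      · exact p.pa_zero h v0 hv a
      · refine (one_ne_zero (Z1.tvi h p.toSt v0 hv a.K (map_zero σ) ?_)).elim
        rw [h.tv_zero, map_one, ← mul_right_inj t, ← yt v y a, cjf.2 k, mul_one]
    · by_cases d0 : d = 0
      · exact ⟨_, (hZ v v0 hv _).2 (.inl (p.pa_tv h v0 hv 0)), hd, d0 ▸ (p.pa_tv h v0 hv 0).yt⟩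
      · obtain rfl := hq d hd d0
        obtain ⟨y, a⟩ := p.onto v v0 hv 1 hd
        rw [← tt y] at a
        exact ⟨y * t, (hZ v v0 hv _).2 (.inr a), hd, yt _ _ a⟩
  refine ⟨Z, p'.zq_of h fun e f y y' d d' l a a' d0 d0' => ?_⟩
  have one : ∀ v y d, v ≠ 0 → B v v = 0 → Pa ψ t Z v y d → d ≠ 0 → Pa ψ t Y v (y * t) 1 := fun v y d v0 hv a d0 =>
    ((hZ v v0 hv y).1 a.mem).resolve_left fun b => d0 (p'.pa_uniq h v0 hv a ⟨a.mem, b.K, b.yt⟩)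
  have b := one _ _ _ l.ne l.ee a d0
  have b' := one _ _ _ l.ne' l.ff a' d0'
  have k1 := k _ _ _ _ _ _ l b b' one_ne_zero one_ne_zero
  rw [commutatorElement_def, mul_inv_eq_iff_eq_mul, mul_inv_eq_iff_eq_mul, mul_one, mul_assoc _ (y' * t),
    ← (show Commute (y' * t) (ψ _) from p.cS f l.ne' l.ff _ b'.mem _ (mul_mem (h.tv_fix l.ef _) (h.tv_fix l.ff _))).mul_left
      (p.cS e l.ne l.ee _ b.mem _ (mul_mem (h.tv_fix l.ee _) (h.tv_fix (h.cm l.ef) _)))] at k1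
  rw [mt f y y' l.ne' l.ff b', mt e y' y l.ne l.ee b, k1, map_mul, mul_assoc, mul_assoc (ψ _), s.zsq h, mul_one]

end ZP

end Cfsg.Lib.U42
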